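import Cfsg.Agent.Lib.Coprime.Action
import Mathlib.GroupTheory.Sylow

/-!
Sylow subgroups invariant under a coprime action.  A Sylow subgroup of `K` is seen in the ambient
group as `(P : Subgroup K).map K.subtype`.
-/

namespace CfsgLib.Coprime

open Subgroup
open scoped Pointwise

variable {X : Type*} [Group X] [Finite X]

lemma card_map_subtype {K : Subgroup X} (H : Subgroup K) :
    Nat.card ↥(H.map K.subtype) = Nat.card H :=
  (Nat.card_congr (equivMapOfInjective _ _ K.subtype_injective).toEquiv).symm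

/-- A subgroup of `K` of Sylow order is the image of a Sylow subgroup. -/
lemma exists_sylow_map_eq {K H : Subgroup X} {p : ℕ} [Fact p.Prime] (hH : H ≤ K)
    (hc : Nat.card H = p ^ (Nat.card K).factorization p) :
    ∃ P : Sylow p K, (P : Subgroup K).map K.subtype = H := by
  refine ⟨Sylow.ofCard (H.subgroupOf K) (by
    rw [Nat.card_congr (subgroupOfEquivOfLe hH).toEquiv, hc]), ?_⟩
  rw [Sylow.coe_ofCard, subgroupOf_map_subtype, inf_eq_left.2 hH]

lemma map_smul_sylow {K : Subgroup X} {p : ℕ} (P : Sylow p K) (k : K) :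
    ((k • P : Sylow p K) : Subgroup K).map K.subtype =
      ((P : Subgroup K).map K.subtype).map (MulAut.conj (k : X)).toMonoidHom := by
  rw [Sylow.coe_subgroup_smul, map_map]
  show ((P : Subgroup K).map (MulAut.conj k).toMonoidHom).map K.subtype = _
  rw [map_map]
  congr 1

/-- Existence of invariant Sylow subgroups. -/
lemma exists_invariant_sylow {A K : Subgroup X}
    (hAK : A ≤ normalizer (K : Set X)) (hcop : (Nat.card A).Coprime (Nat.card K))
    (hsolv : Group.IsSolvable A ∨ Group.IsSolvable K) (p : ℕ) [Fact p.Prime] :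
    ∃ P : Sylow p K, A ≤ normalizer (((P : Subgroup K).map K.subtype : Subgroup X) : Set X) := by
  let inst : MulAction X (Subgroup X) := MulAction.compHom _ (MulAut.conj (G := X))
  have hsmul : ∀ (x : X) (H : Subgroup X), x • H = H.map (MulAut.conj x).toMonoidHom :=
    fun x H => rfl
  let s : Set (Subgroup X) := Set.range fun P : Sylow p K => (P : Subgroup K).map K.subtype
  obtain ⟨H, ⟨P, rfl⟩, h⟩ := exists_fixed_mem (A := A) (K := K) hAK hcop hsolv
    (s := s) (x := ((default : Sylow p K) : Subgroup K).map K.subtype) ⟨default, rfl⟩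
    (by
      rintro a ha _ ⟨P, rfl⟩
      rw [hsmul]
      refine exists_sylow_map_eq (conj_map_le_iff.2 fun x hx =>
        le_normalizer_iff.1 hAK a ha x (map_subtype_le _ hx)) ?_
      rw [card_conj_map, card_map_subtype, P.card_eq_multiplicity])
    (by
      rintro k hk _ ⟨P, rfl⟩
      exact ⟨(⟨k, hk⟩ : K) • P, by rw [hsmul]; exact map_smul_sylow P _⟩)
    (by
      rintro _ ⟨P, rfl⟩
      obtain ⟨k, hk⟩ := MulAction.exists_smul_eq K (default : Sylow p K) P
      exact ⟨k, k.2, by rw [hsmul, ← map_smul_sylow, hk]⟩)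
  exact ⟨P, fun a ha => mem_normalizer_iff_map_conj_eq.2 (h a ha)⟩

/-- Invariant Sylow subgroups are conjugate under `C_K(A)`. -/
lemma exists_centralizer_conj_sylow {A K : Subgroup X}
    (hAK : A ≤ normalizer (K : Set X)) (hcop : (Nat.card A).Coprime (Nat.card K))
    (hsolv : Group.IsSolvable A ∨ Group.IsSolvable K) {p : ℕ} [Fact p.Prime] (P Q : Sylow p K)
    (hP : A ≤ normalizer (((P : Subgroup K).map K.subtype : Subgroup X) : Set X))
    (hQ : A ≤ normalizer (((Q : Subgroup K).map K.subtype : Subgroup X) : Set X)) :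
    ∃ c : K, (c : X) ∈ centralizer (A : Set X) ∧ c • P = Q := by
  let inst : MulAction X (Subgroup X) := MulAction.compHom _ (MulAut.conj (G := X))
  have hsmul : ∀ (x : X) (H : Subgroup X), x • H = H.map (MulAut.conj x).toMonoidHom :=
    fun x H => rfl
  obtain ⟨k, hk⟩ := MulAction.exists_smul_eq K P Q
  obtain ⟨c, hc, he⟩ := exists_centralizer_smul_eq (A := A) (K := K) hAK hcop hsolv
    (x := (P : Subgroup K).map K.subtype) (y := (Q : Subgroup K).map K.subtype)
    (fun a ha => mem_normalizer_iff_map_conj_eq.1 (hP ha))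
    (fun a ha => mem_normalizer_iff_map_conj_eq.1 (hQ ha)) k.2
    (by rw [hsmul, ← map_smul_sylow, hk])
  refine ⟨⟨c, (mem_inf.1 hc).1⟩, (mem_inf.1 hc).2, Sylow.ext ?_⟩
  apply map_injective K.subtype_injective
  rw [map_smul_sylow]
  exact he

/-- A proper subgroup of a finite `p`-group is proper in its normaliser. -/
lemma lt_normalizer_inf_of_lt {p : ℕ} [Fact p.Prime] {U Q : Subgroup X} (hQ : IsPGroup p Q)
    (h : U < Q) : U < Q ⊓ normalizer (U : Set X) := by
  have := hQ.isNilpotent
  have h1 : U.subgroupOf Q < ⊤ := lt_top_iff_ne_top.2 fun e => h.not_ge (subgroupOf_eq_top.1 e)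
  have h2 := Group.normalizerCondition_of_isNilpotent (G := Q) _ h1
  refine lt_of_le_not_ge (le_inf h.le le_normalizer) fun hle => h2.not_ge fun x hx => ?_
  rw [← subgroupOf_normalizer_eq h.le] at hx
  exact hle (mem_inf.2 ⟨x.2, hx⟩)

/-- An invariant `p`-subgroup lies in an invariant Sylow subgroup. -/
lemma exists_le_invariant_sylow {A K : Subgroup X}
    (hAK : A ≤ normalizer (K : Set X)) (hcop : (Nat.card A).Coprime (Nat.card K))
    (hsolv : Group.IsSolvable A ∨ Group.IsSolvable K) {p : ℕ} [Fact p.Prime] {U : Subgroup X}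
    (hUK : U ≤ K) (hU : IsPGroup p U) (hUA : A ≤ normalizer (U : Set X)) :
    ∃ P : Sylow p K, U ≤ (P : Subgroup K).map K.subtype ∧
      A ≤ normalizer (((P : Subgroup K).map K.subtype : Subgroup X) : Set X) := by
  obtain ⟨V, hUV, hV⟩ := Finite.exists_le_maximal
    (p := fun V : Subgroup X => V ≤ K ∧ IsPGroup p V ∧ A ≤ normalizer (V : Set X))
    ⟨hUK, hU, hUA⟩
  obtain ⟨hVK, hVp, hVA⟩ := hV.prop
  set L := K ⊓ normalizer (V : Set X)
  have hAL : A ≤ normalizer (L : Set X) :=
    (le_inf hAK (hVA.trans le_normalizer)).trans inf_normalizer_le_normalizer_inf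
  obtain ⟨P, hP⟩ := exists_invariant_sylow hAL (coprime_of_le hcop le_rfl inf_le_left)
    (hsolv.imp_right (isSolvable_of_le inf_le_left)) p
  have hVL : V ≤ L := le_inf hVK le_normalizer
  have hVP : V ≤ (P : Subgroup L).map L.subtype := by
    have := (normal_subgroupOf_iff_le_normalizer hVL).2 (inf_le_right : L ≤ normalizer (V : Set X))
    have h := (hVp.of_equiv (subgroupOfEquivOfLe hVL).symm).le_sylow_of_normal P
    exact fun x hx => ⟨⟨x, hVL hx⟩, h hx, rfl⟩
  have hPV : (P : Subgroup L).map L.subtype ≤ V :=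
    hV.le_of_ge ⟨(map_subtype_le _).trans inf_le_left, P.isPGroup'.map _, hP⟩ hVP
  have heq : (P : Subgroup L).map L.subtype = V := le_antisymm hPV hVP
  obtain ⟨Q, hQ⟩ := (hVp.of_equiv (subgroupOfEquivOfLe hVK).symm).exists_le_sylow
  have hVQ : V ≤ (Q : Subgroup K).map K.subtype := fun x hx => ⟨⟨x, hVK hx⟩, hQ hx, rfl⟩
  refine ⟨Q, hUV.trans hVQ, ?_⟩
  rcases hVQ.eq_or_lt with e | e
  · exact e ▸ hVA
  · exfalso
    have h1 := lt_normalizer_inf_of_lt (Q.isPGroup'.map _) e
    set W := (Q : Subgroup K).map K.subtype ⊓ normalizer (V : Set X)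
    have hW : W ≤ L := inf_le_inf_right _ (map_subtype_le _)
    have hWp : IsPGroup p (W.subgroupOf L) :=
      ((Q.isPGroup'.map K.subtype).to_le inf_le_left).of_equiv (subgroupOfEquivOfLe hW).symm
    obtain ⟨R, hR⟩ := hWp.exists_le_sylow
    have h2 : Nat.card W ≤ Nat.card V := by
      rw [← Nat.card_congr (subgroupOfEquivOfLe hW).toEquiv, ← heq, card_map_subtype,
        P.card_eq_multiplicity, ← R.card_eq_multiplicity]
      exact card_le_of_le hR
    exact h1.not_ge (eq_of_le_of_card_ge h1.le h2).ge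

end CfsgLib.Coprime

namespace CfsgLib.Coprime

open Subgroup

variable {X : Type*} [Group X] [Finite X]

/-- A Sylow subgroup meets a normal subgroup in a Sylow subgroup of it. -/
lemma card_sylow_inf_normal {p : ℕ} [Fact p.Prime] (P : Sylow p X) (N : Subgroup X) [N.Normal] :
    Nat.card ↥((P : Subgroup X) ⊓ N) = p ^ (Nat.card N).factorization p := by
  obtain ⟨n, hn⟩ := (P.isPGroup'.to_le (inf_le_left : (P : Subgroup X) ⊓ N ≤ P)).exists_card_eq
  have hle : n ≤ (Nat.card N).factorization p :=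
    ((Fact.out : p.Prime).pow_dvd_iff_le_factorization Nat.card_pos.ne').1
      (hn ▸ card_dvd_of_le inf_le_right)
  let S : Sylow p N := default
  obtain ⟨P', hP'⟩ := (S.isPGroup'.map N.subtype).exists_le_sylow
  obtain ⟨g, hg⟩ := MulAction.exists_smul_eq X P P'
  have h1 : (S : Subgroup N).map N.subtype ≤
      ((P : Subgroup X) ⊓ N).map (MulAut.conj g).toMonoidHom := by
    rintro _ ⟨x, hx, rfl⟩
    have h2 : (x : X) ∈ (P' : Subgroup X) := hP' ⟨x, hx, rfl⟩
    rw [← hg, Sylow.coe_subgroup_smul] at h2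
    obtain ⟨y, hy, e⟩ := h2
    refine ⟨y, mem_inf.2 ⟨hy, ?_⟩, e⟩
    have : N.Normal := inferInstance
    have e' : g * y * g⁻¹ = (x : X) := e
    have := this.conj_mem _ x.2 g⁻¹
    rw [← e'] at this
    simpa [mul_assoc] using this
  have h3 := card_le_of_le h1
  rw [card_conj_map, card_map_subtype, S.card_eq_multiplicity, hn] at h3
  rw [hn, le_antisymm hle ((Nat.pow_le_pow_iff_right (Fact.out : p.Prime).one_lt).1 h3)]

end CfsgLib.Coprime
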