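import Cfsg.Agent.Lib.Coprime.SchurZassenhaus
import Mathlib.GroupTheory.Frattini
import Mathlib.GroupTheory.Nilpotent
import Mathlib.GroupTheory.GroupAction.Basic

/-!
Coprime action, for subgroups `A`, `K` of an ambient group with `A ≤ normalizer K`.
-/

namespace CfsgLib.Coprime

open Subgroup
open scoped commutatorElement

variable {X : Type*} [Group X]

lemma isSolvable_of_le {H K : Subgroup X} (h : H ≤ K) (hK : Group.IsSolvable K) :
    Group.IsSolvable H := by
  have := hK
  exact Group.isSolvable_of_isSolvable_injective (inclusion_injective h)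

lemma coprime_of_le {A A' K K' : Subgroup X} (h : (Nat.card A).Coprime (Nat.card K))
    (hA : A' ≤ A) (hK : K' ≤ K) : (Nat.card A').Coprime (Nat.card K') :=
  Nat.Coprime.coprime_dvd_left (card_dvd_of_le hA)
    (Nat.Coprime.coprime_dvd_right (card_dvd_of_le hK) h)

lemma isSolvable_zpowers (a : X) : Group.IsSolvable (zpowers a) :=
  Group.isSolvable_of_comm fun x y => mul_comm' x y

lemma commutatorElement_mem_iff {N : Subgroup X} {a k : X} : ⁅a, k⁆ ∈ N ↔ ⁅k, a⁆ ∈ N := by
  rw [← commutatorElement_inv, inv_mem_iff]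

/-- Fixed points of a coprime action on a coset: if `A` fixes the coset `N k` then some element
of `N k` is centralised by `A`.  Only the orders of `A` and `N` need be coprime. -/
lemma exists_mul_mem_centralizer [Finite X] {A N : Subgroup X}
    (hAN : A ≤ normalizer (N : Set X)) (hcop : (Nat.card A).Coprime (Nat.card N))
    (hsolv : Group.IsSolvable A ∨ Group.IsSolvable N) {k : X}
    (hk : ∀ a ∈ A, ⁅a, k⁆ ∈ N) : ∃ n ∈ N, n * k ∈ centralizer (A : Set X) := by
  have hle : A.map (MulAut.conj k).toMonoidHom ≤ N ⊔ A := conj_map_le_iff.2 fun a ha => by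
    have := mul_mem_sup (commutatorElement_mem_iff.1 (hk a ha)) ha
    simpa [commutatorElement_def] using this
  have hN' : A.map (MulAut.conj k).toMonoidHom ≤ normalizer (N : Set X) :=
    hle.trans (sup_le le_normalizer hAN)
  obtain ⟨n, hn, he⟩ := exists_conj_eq (hsolv.symm.imp id fun h => by
      have := h
      exact Group.isSolvable_of_surjective
        (f := (A.equivMapOfInjective _ (MulAut.conj k).injective).toMonoidHom)
        (MulEquiv.surjective _)) hN' hAN hle (card_conj_map A k)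
    (by rw [card_conj_map]; exact hcop.symm)
  rw [conj_map_map] at he
  refine ⟨n, hn, mem_centralizer_iff.2 fun a ha => ?_⟩
  have hc : (n * k) * a * (n * k)⁻¹ ∈ A := he.le ⟨a, ha, rfl⟩
  have h1 : (n * k) * a * (n * k)⁻¹ * a⁻¹ ∈ N := by
    have h2 : (n * k) * a * (n * k)⁻¹ * a⁻¹ = n * (⁅k, a⁆ * (a * n⁻¹ * a⁻¹)) := by
      simp [commutatorElement_def, mul_assoc]
    rw [h2]
    exact mul_mem hn (mul_mem (commutatorElement_mem_iff.1 (hk a ha))
      (le_normalizer_iff.1 hAN a ha _ (inv_mem hn)))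
  have h3 : (n * k) * a * (n * k)⁻¹ * a⁻¹ ∈ A ⊓ N :=
    mem_inf.2 ⟨mul_mem hc (inv_mem ha), h1⟩
  rw [(disjoint_of_coprime_natCard hcop).eq_bot, mem_bot, mul_inv_eq_one, mul_inv_eq_iff_eq_mul]
    at h3
  exact h3.symm

/-- `C_{K/N}(A)` is the image of `C_K(A)`. -/
lemma exists_centralizer_inv_mul_mem [Finite X] {A K N : Subgroup X}
    (hAN : A ≤ normalizer (N : Set X)) (hNK : N ≤ K) (hKN : K ≤ normalizer (N : Set X))
    (hcop : (Nat.card A).Coprime (Nat.card N))
    (hsolv : Group.IsSolvable A ∨ Group.IsSolvable N) {k : X} (hkK : k ∈ K)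
    (hk : ∀ a ∈ A, ⁅a, k⁆ ∈ N) :
    ∃ c ∈ K ⊓ centralizer (A : Set X), k⁻¹ * c ∈ N := by
  obtain ⟨n, hn, h⟩ := exists_mul_mem_centralizer hAN hcop hsolv hk
  refine ⟨n * k, mem_inf.2 ⟨mul_mem (hNK hn) hkK, h⟩, ?_⟩
  have := le_normalizer_iff.1 hKN k⁻¹ (inv_mem hkK) n hn
  simpa [mul_assoc] using this

/-- If `A` centralises `K` modulo `N`, then `K ≤ N · C_K(A)`. -/
lemma le_sup_centralizer [Finite X] {A K N : Subgroup X}
    (hAN : A ≤ normalizer (N : Set X)) (hNK : N ≤ K) (hcop : (Nat.card A).Coprime (Nat.card N))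
    (hsolv : Group.IsSolvable A ∨ Group.IsSolvable N) (htriv : ∀ a ∈ A, ∀ k ∈ K, ⁅a, k⁆ ∈ N) :
    K ≤ N ⊔ (K ⊓ centralizer (A : Set X)) := fun k hk => by
  obtain ⟨n, hn, h⟩ := exists_mul_mem_centralizer hAN hcop hsolv fun a ha => htriv a ha k hk
  have h1 : n * k ∈ K ⊓ centralizer (A : Set X) := mem_inf.2 ⟨mul_mem (hNK hn) hk, h⟩
  have h2 := mul_mem_sup (inv_mem hn) h1
  simpa using h2

/-- `K = [K, A] C_K(A)`. -/
lemma commutator_sup_centralizer [Finite X] {A K : Subgroup X}
    (hAK : A ≤ normalizer (K : Set X)) (hcop : (Nat.card A).Coprime (Nat.card K))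
    (hsolv : Group.IsSolvable A ∨ Group.IsSolvable K) :
    ⁅K, A⁆ ⊔ (K ⊓ centralizer (A : Set X)) = K := by
  have hle : ⁅K, A⁆ ≤ K := le_normalizer_iff_commutator_le_left.1 hAK
  refine le_antisymm (sup_le hle inf_le_left)
    (le_sup_centralizer (normalizer_commutator_ge_right K A) hle (coprime_of_le hcop le_rfl hle)
      (hsolv.imp_right (isSolvable_of_le hle)) fun a ha k hk => ?_)
  exact commutatorElement_mem_iff.1 (commutator_mem_commutator hk ha)

/-- `[K, A, A] = [K, A]`. -/
lemma commutator_commutator_self [Finite X] {A K : Subgroup X}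
    (hAK : A ≤ normalizer (K : Set X)) (hcop : (Nat.card A).Coprime (Nat.card K))
    (hsolv : Group.IsSolvable A ∨ Group.IsSolvable K) : ⁅⁅K, A⁆, A⁆ = ⁅K, A⁆ := by
  have hle : ⁅K, A⁆ ≤ K := le_normalizer_iff_commutator_le_left.1 hAK
  refine le_antisymm (commutator_mono hle le_rfl) (commutator_le.2 fun k hk a ha => ?_)
  obtain ⟨n, hn, h⟩ := exists_mul_mem_centralizer (normalizer_commutator_ge_right K A)
    (coprime_of_le hcop le_rfl hle) (hsolv.imp_right (isSolvable_of_le hle))
    (k := k) fun b hb => commutatorElement_mem_iff.1 (commutator_mem_commutator hk hb)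
  have e : n * k * a = a * (n * k) := (mem_centralizer_iff.1 h a ha).symm
  have : ⁅k, a⁆ = ⁅n⁻¹, a⁆ := by
    have e' : k * a * k⁻¹ = n⁻¹ * a * n := by
      calc k * a * k⁻¹ = n⁻¹ * (n * k * a) * k⁻¹ := by group
        _ = n⁻¹ * (a * (n * k)) * k⁻¹ := by rw [e]
        _ = n⁻¹ * a * n := by group
    simp [commutatorElement_def, e']
  rw [this]
  exact commutator_mem_commutator (inv_mem hn) ha

/-- An element-wise stability lemma: if `a` centralises `N` and `[a, k] ∈ N`, coprime orders,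
then `a` centralises `k`. -/
lemma commute_of_stabilizes [Finite X] {N : Subgroup X} {a k : X}
    (hcop : (orderOf a).Coprime (Nat.card N)) (haN : a ∈ centralizer (N : Set X))
    (hk : ⁅a, k⁆ ∈ N) : Commute a k := by
  have hA : zpowers a ≤ normalizer (N : Set X) :=
    zpowers_le.2 (centralizer_le_normalizer _ haN)
  have hall : ∀ b ∈ zpowers a, ⁅b, k⁆ ∈ N := by
    intro b hb
    have hkey : k * a * k⁻¹ ∈ N ⊔ zpowers a := by
      have := mul_mem_sup (commutatorElement_mem_iff.1 hk) (mem_zpowers a)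
      simpa [commutatorElement_def] using this
    obtain ⟨i, rfl⟩ := mem_zpowers_iff.1 hb
    have h2 : k * a ^ i * k⁻¹ = ⁅k, a⁆ ^ i * a ^ i := by
      rw [← conj_zpow]
      have hcomm : Commute ⁅k, a⁆ a :=
        (mem_centralizer_iff.1 haN _ (commutatorElement_mem_iff.1 hk))
      rw [← hcomm.mul_zpow]
      simp [commutatorElement_def]
    refine commutatorElement_mem_iff.2 ?_
    rw [commutatorElement_def, h2, mul_inv_cancel_right]
    exact zpow_mem (commutatorElement_mem_iff.1 hk) i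
  obtain ⟨n, hn, h⟩ := exists_mul_mem_centralizer hA (by rwa [Nat.card_zpowers])
    (.inl (isSolvable_zpowers a)) hall
  have h1 : a * (n * k) = n * k * a := mem_centralizer_iff.1 h a (mem_zpowers a)
  have h2 : n * a = a * n := mem_centralizer_iff.1 haN n hn
  show a * k = k * a
  calc a * k = n⁻¹ * (n * a) * k := by group
    _ = n⁻¹ * (a * n) * k := by rw [h2]
    _ = n⁻¹ * (a * (n * k)) := by group
    _ = n⁻¹ * (n * k * a) := by rw [h1]
    _ = k * a := by group

/-- Stability group lemma: if `A` centralises `N` and centralises `K` modulo `N`, and `|A|` is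
prime to `|N|`, then `A` centralises `K`. -/
lemma le_centralizer_of_stabilizes [Finite X] {A K N : Subgroup X}
    (hcop : (Nat.card A).Coprime (Nat.card N)) (hAN : A ≤ centralizer (N : Set X))
    (htriv : ∀ a ∈ A, ∀ k ∈ K, ⁅a, k⁆ ∈ N) : A ≤ centralizer (K : Set X) := fun a ha =>
  mem_centralizer_iff.2 fun k hk => (commute_of_stabilizes
    (Nat.Coprime.coprime_dvd_left (Subgroup.orderOf_dvd_natCard A ha) hcop) (hAN ha)
    (htriv a ha k hk)).eq.symm

/-- `[K, A, A] = 1` implies `[K, A] = 1` (no solvability needed). -/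
lemma commutator_eq_bot_of_commutator_commutator [Finite X] {A K : Subgroup X}
    (hcop : (Nat.card A).Coprime (Nat.card ↥⁅K, A⁆)) (h : ⁅⁅K, A⁆, A⁆ = ⊥) : ⁅K, A⁆ = ⊥ := by
  rw [commutator_comm, commutator_eq_bot_iff_le_centralizer]
  refine le_centralizer_of_stabilizes hcop ?_
    (fun a ha k hk => commutatorElement_mem_iff.1 (commutator_mem_commutator hk ha))
  rwa [← commutator_eq_bot_iff_le_centralizer, commutator_comm]

/-- An action which is trivial on the Frattini quotient and coprime to the Frattini subgroup is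
trivial. -/
lemma le_centralizer_of_frattini [Finite X] {A K : Subgroup X}
    (hAK : A ≤ normalizer (K : Set X))
    (hcop : (Nat.card A).Coprime (Nat.card (frattini K)))
    (htriv : ∀ a ∈ A, ∀ k ∈ K, ⁅a, k⁆ ∈ (frattini K).map K.subtype) :
    A ≤ centralizer (K : Set X) := by
  intro a ha
  set Φ : Subgroup X := (frattini K).map K.subtype with hΦ
  have hΦK : Φ ≤ K := map_subtype_le _
  have hΦc : Nat.card Φ = Nat.card (frattini K) :=
    (Nat.card_congr (equivMapOfInjective _ _ K.subtype_injective).toEquiv).symm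
  have haK : zpowers a ≤ normalizer (K : Set X) := zpowers_le.2 (hAK ha)
  have hAΦ : zpowers a ≤ normalizer (Φ : Set X) := by
    refine le_normalizer_iff.2 fun b hb x hx => ?_
    have hbA : b ∈ A := zpowers_le.2 ha hb
    have := mul_mem (htriv b hbA x (hΦK hx)) hx
    simpa [commutatorElement_def] using this
  have h := le_sup_centralizer hAΦ hΦK (A := zpowers a) (K := K)
    (by rw [hΦc, Nat.card_zpowers]
        exact Nat.Coprime.coprime_dvd_left (Subgroup.orderOf_dvd_natCard A ha) hcop)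
    (.inl (isSolvable_zpowers a)) fun b hb k hk => htriv b (zpowers_le.2 ha hb) k hk
  set C : Subgroup X := K ⊓ centralizer (zpowers a : Set X)
  have hC : C.subgroupOf K = ⊤ := by
    refine frattini_nongenerating (eq_top_iff.2 fun x _ => ?_)
    have h3 : (x : X) ∈ (C.subgroupOf K ⊔ frattini K).map K.subtype := by
      rw [Subgroup.map_sup, subgroupOf_map_subtype, inf_eq_left.2 inf_le_left, sup_comm]
      exact h x.2
    obtain ⟨y, hy, e⟩ := h3
    rwa [← K.subtype_injective e]
  refine mem_centralizer_iff.2 fun k hk => ?_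
  have hkC : k ∈ C := subgroupOf_eq_top.1 hC hk
  exact (mem_centralizer_iff.1 (mem_inf.1 hkC).2 a (mem_zpowers a)).symm

/-- Fixed points of a product of invariant subgroups. -/
lemma centralizer_of_mul [Finite X] {A U V : Subgroup X}
    (hUA : A ≤ normalizer (U : Set X)) (hVA : A ≤ normalizer (V : Set X))
    (hcop : (Nat.card A).Coprime (Nat.card U))
    (hsolv : Group.IsSolvable A ∨ Group.IsSolvable U) {x y : X} (hx : x ∈ U) (hy : y ∈ V)
    (hk : x * y ∈ centralizer (A : Set X)) :
    ∃ x' ∈ U ⊓ centralizer (A : Set X), ∃ y' ∈ V ⊓ centralizer (A : Set X),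
      x * y = x' * y' := by
  have hN : ∀ a ∈ A, ⁅a, x⁻¹⁆ ∈ U ⊓ V := fun a ha => by
    have hxU : a * x⁻¹ * a⁻¹ ∈ U := le_normalizer_iff.1 hUA a ha _ (inv_mem hx)
    have hyV : a * y * a⁻¹ ∈ V := le_normalizer_iff.1 hVA a ha _ hy
    have e : a * (x * y) = x * y * a := mem_centralizer_iff.1 hk a ha
    have : ⁅a, x⁻¹⁆ = a * y * a⁻¹ * y⁻¹ := by
      calc ⁅a, x⁻¹⁆ = a * x⁻¹ * a⁻¹ * ((x * y * a) * a⁻¹ * y⁻¹) := by
            rw [commutatorElement_def]; group
        _ = a * x⁻¹ * a⁻¹ * ((a * (x * y)) * a⁻¹ * y⁻¹) := by rw [e]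
        _ = a * y * a⁻¹ * y⁻¹ := by group
    refine mem_inf.2 ⟨?_, this ▸ mul_mem hyV (inv_mem hy)⟩
    rw [commutatorElement_def, inv_inv]
    exact mul_mem hxU hx
  obtain ⟨n, hn, hc⟩ := exists_mul_mem_centralizer
    ((le_inf hUA hVA).trans inf_normalizer_le_normalizer_inf)
    (coprime_of_le hcop le_rfl inf_le_left) (hsolv.imp_right (isSolvable_of_le inf_le_left)) hN
  refine ⟨(n * x⁻¹)⁻¹, mem_inf.2 ⟨inv_mem (mul_mem (mem_inf.1 hn).1 (inv_mem hx)), inv_mem hc⟩,
    n * y, mem_inf.2 ⟨mul_mem (mem_inf.1 hn).2 hy, ?_⟩, by group⟩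
  have := mul_mem hc hk
  simpa [mul_assoc] using this

/-- Glauberman's lemma, existence of a fixed point. -/
lemma exists_fixed_mem [Finite X] {Ω : Type*} [MulAction X Ω] {A K : Subgroup X}
    (hAK : A ≤ normalizer (K : Set X)) (hcop : (Nat.card A).Coprime (Nat.card K))
    (hsolv : Group.IsSolvable A ∨ Group.IsSolvable K) {s : Set Ω} {x : Ω} (hx : x ∈ s)
    (hsA : ∀ a ∈ A, ∀ y ∈ s, a • y ∈ s) (hsK : ∀ k ∈ K, ∀ y ∈ s, k • y ∈ s)
    (htrans : ∀ y ∈ s, ∃ k ∈ K, k • x = y) : ∃ y ∈ s, ∀ a ∈ A, a • y = y := by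
  set S : Subgroup X := (K ⊔ A) ⊓ MulAction.stabilizer X x
  set N : Subgroup X := K ⊓ MulAction.stabilizer X x
  have hNS : N ≤ S := inf_le_inf_right _ le_sup_left
  have hLK : K ⊔ A ≤ normalizer (K : Set X) := sup_le le_normalizer hAK
  have hSN : S ≤ normalizer (N : Set X) :=
    (inf_le_inf hLK le_normalizer).trans inf_normalizer_le_normalizer_inf
  have hSK : S ≤ normalizer (K : Set X) := inf_le_left.trans hLK
  have hsup : K ⊔ S = K ⊔ A := by
    refine le_antisymm (sup_le le_sup_left inf_le_left) (sup_le le_sup_left fun a ha => ?_)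
    obtain ⟨k, hk, e⟩ := htrans _ (hsA a ha x hx)
    have h1 : k⁻¹ * a ∈ S := mem_inf.2 ⟨mul_mem_sup (inv_mem hk) ha,
      MulAction.mem_stabilizer_iff.2 (by rw [mul_smul, ← e, inv_smul_smul])⟩
    simpa using mul_mem_sup hk h1
  have := (normal_subgroupOf_iff_le_normalizer hNS).2 hSN
  have hKA : Nat.card ↥(K ⊔ A) = Nat.card K * Nat.card A :=
    card_sup_of_le_normalizer hAK (disjoint_of_coprime_natCard hcop.symm)
  have hidx : N.relIndex S = Nat.card A := by
    have h1 : N.relIndex S = K.relIndex S := by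
      have : N = K ⊓ S := by
        simp only [N, S, ← inf_assoc, inf_eq_left.2 (le_sup_left : K ≤ K ⊔ A)]
      rw [this, inf_relIndex_right]
    have h2 : K.relIndex S = K.relIndex (K ⊔ S) := by
      have e2 : K.relIndex (K ⊔ S) = K.relIndex (S ⊔ K) := by rw [sup_comm]
      rw [e2]
      have := normal_subgroupOf_of_le_normalizer hSK
      have := normal_subgroupOf_sup_of_le_normalizer hSK
      exact Nat.card_congr
        (QuotientGroup.quotientInfEquivProdNormalizerQuotient S K hSK).toEquiv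
    rw [h1, h2, hsup]
    refine Nat.eq_of_mul_eq_mul_left (n := Nat.card K) Nat.card_pos ?_
    rw [card_mul_relIndex' le_sup_left, hKA]
  obtain ⟨B', hB'⟩ := exists_right_complement'_of_coprime (N := N.subgroupOf S) (by
    rw [← relIndex, hidx, Nat.card_congr (subgroupOfEquivOfLe hNS).toEquiv]
    exact (coprime_of_le hcop le_rfl inf_le_left).symm)
  set B : Subgroup X := B'.map S.subtype
  have hBS : B ≤ S := map_subtype_le _
  have hBcard : Nat.card A = Nat.card B := by
    rw [← hidx, relIndex, hB'.symm.index_eq_card]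
    exact Nat.card_congr (equivMapOfInjective _ _ S.subtype_injective).toEquiv
  have hBK : B ≤ normalizer (K : Set X) := hBS.trans hSK
  have hsupB : K ⊔ B = K ⊔ A := eq_of_le_of_card_ge
    (sup_le le_sup_left (hBS.trans inf_le_left)) (by
      rw [hKA, card_sup_of_le_normalizer hBK
        (disjoint_of_coprime_natCard (hBcard ▸ hcop.symm)), hBcard])
  obtain ⟨n, hn, he⟩ := exists_conj_eq hsolv.symm hAK hBK (hsupB ▸ le_sup_right) hBcard hcop.symm
  refine ⟨n⁻¹ • x, hsK _ (inv_mem hn) x hx, fun a ha => ?_⟩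
  have h1 : n * a * n⁻¹ ∈ B := he.le ⟨a, ha, rfl⟩
  have h2 := MulAction.mem_stabilizer_iff.1 (mem_inf.1 (hBS h1)).2
  rw [mul_assoc, mul_smul, mul_smul] at h2
  rw [eq_inv_smul_iff, h2]

/-- Glauberman's lemma, fixed points are conjugate under `C_K(A)`. -/
lemma exists_centralizer_smul_eq [Finite X] {Ω : Type*} [MulAction X Ω] {A K : Subgroup X}
    (hAK : A ≤ normalizer (K : Set X)) (hcop : (Nat.card A).Coprime (Nat.card K))
    (hsolv : Group.IsSolvable A ∨ Group.IsSolvable K) {x y : Ω}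
    (hx : ∀ a ∈ A, a • x = x) (hy : ∀ a ∈ A, a • y = y) {k : X} (hk : k ∈ K) (hkxy : k • x = y) :
    ∃ c ∈ K ⊓ centralizer (A : Set X), c • x = y := by
  set N : Subgroup X := K ⊓ MulAction.stabilizer X x
  have hAN : A ≤ normalizer (N : Set X) :=
    (le_inf hAK ((show A ≤ MulAction.stabilizer X x from hx).trans le_normalizer)).trans
      inf_normalizer_le_normalizer_inf
  have hall : ∀ a ∈ A, ⁅a, k⁻¹⁆ ∈ N := fun a ha => by
    rw [commutatorElement_def, inv_inv]
    refine mem_inf.2 ⟨mul_mem (le_normalizer_iff.1 hAK a ha _ (inv_mem hk)) hk,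
      MulAction.mem_stabilizer_iff.2 ?_⟩
    simp only [mul_smul, hkxy]
    rw [inv_smul_eq_iff.2 (hy a ha).symm, inv_smul_eq_iff.2 hkxy.symm, hx a ha]
  obtain ⟨n, hn, hc⟩ := exists_mul_mem_centralizer hAN (coprime_of_le hcop le_rfl inf_le_left)
    (hsolv.imp_right (isSolvable_of_le inf_le_left)) hall
  refine ⟨(n * k⁻¹)⁻¹, mem_inf.2 ⟨inv_mem (mul_mem (mem_inf.1 hn).1 (inv_mem hk)), inv_mem hc⟩,
    ?_⟩
  rw [mul_inv_rev, inv_inv, mul_smul,
    inv_smul_eq_iff.2 (MulAction.mem_stabilizer_iff.1 (mem_inf.1 hn).2).symm, hkxy]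

lemma commutator_lt_of_isPGroup [Finite X] {p : ℕ} [Fact p.Prime] {P G : Subgroup X}
    (hP : IsPGroup p P) (hG : IsPGroup p G) (hPG : P ≤ normalizer (G : Set X)) (hb : G ≠ ⊥) :
    ⁅G, P⁆ < G := by
  refine lt_of_le_of_ne (le_normalizer_iff_commutator_le_left.1 hPG) fun e => hb ?_
  set L := P ⊔ G
  have hL : IsPGroup p L := hP.to_sup_of_normal_right' hG hPG
  have := hL.isNilpotent
  have key : ∀ i, G ≤ ((⊤ : Subgroup L).lowerCentralSeries i).map L.subtype := by
    intro i
    induction i with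
    | zero =>
      intro g hg
      exact ⟨⟨g, mem_sup_right hg⟩, mem_top _, rfl⟩
    | succ i ih =>
      refine e.ge.trans (commutator_le.2 fun g hg x hx => ?_)
      obtain ⟨g', hg', rfl⟩ := ih hg
      refine ⟨⁅g', (⟨x, mem_sup_left hx⟩ : L)⁆, ?_, rfl⟩
      exact commutator_mem_commutator hg' (mem_top _)
  obtain ⟨n, hn⟩ := Subgroup.nilpotent_iff_lowerCentralSeries.1 this
  exact le_bot_iff.1 ((key n).trans (by rw [hn, Subgroup.map_bot]))

/-- Thompson's `A × B` lemma (the `P × Q` lemma). -/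
lemma le_centralizer_of_prod [Finite X] {p : ℕ} [Fact p.Prime] {P Q G : Subgroup X}
    (hP : IsPGroup p P) (hQ : (Nat.card Q).Coprime p) (hPQ : ⁅P, Q⁆ = ⊥) (hG : IsPGroup p G)
    (hPG : P ≤ normalizer (G : Set X)) (hQG : Q ≤ normalizer (G : Set X))
    (hC : G ⊓ centralizer (P : Set X) ≤ centralizer (Q : Set X)) :
    Q ≤ centralizer (G : Set X) := by
  induction hk : Nat.card G using Nat.strong_induction_on generalizing G with
  | _ k ih =>
    by_cases hb : G = ⊥
    · subst hb
      exact fun q _ => mem_centralizer_iff.2 fun g hg => by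
        simp [(mem_bot (G := X)).1 hg]
    have hcop : (Nat.card Q).Coprime (Nat.card G) := by
      obtain ⟨n, hn⟩ := hG.exists_card_eq
      rw [hn]; exact Nat.Coprime.pow_right n hQ
    have hsolvG : Group.IsSolvable G := have := hG.isNilpotent; inferInstance
    have hPnQ : P ≤ normalizer (Q : Set X) :=
      (commutator_eq_bot_iff_le_centralizer.1 hPQ).trans (centralizer_le_normalizer _)
    have hQnP : Q ≤ normalizer (P : Set X) := by
      rw [commutator_comm] at hPQ
      exact (commutator_eq_bot_iff_le_centralizer.1 hPQ).trans (centralizer_le_normalizer _)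
    have hle : ⁅G, Q⁆ ≤ G := le_normalizer_iff_commutator_le_left.1 hQG
    have sub : ∀ G' : Subgroup X, G' < G → P ≤ normalizer (G' : Set X) →
        Q ≤ normalizer (G' : Set X) → Q ≤ centralizer (G' : Set X) := fun G' h1 h2 h3 =>
      ih (Nat.card G') (hk ▸ lt_of_le_of_ne (card_le_of_le h1.le)
        fun h => h1.ne (eq_of_le_of_card_ge h1.le h.ge))
        (hG.to_le h1.le) h2 h3 ((inf_le_inf_right _ h1.le).trans hC) rfl
    have nPGQ : P ≤ normalizer (⁅G, Q⁆ : Subgroup X) := fun x hx => by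
      rw [mem_normalizer_iff_map_conj_eq, map_commutator,
        mem_normalizer_iff_map_conj_eq.1 (hPG hx), mem_normalizer_iff_map_conj_eq.1 (hPnQ hx)]
    have nQGP : Q ≤ normalizer (⁅G, P⁆ : Subgroup X) := fun x hx => by
      rw [mem_normalizer_iff_map_conj_eq, map_commutator,
        mem_normalizer_iff_map_conj_eq.1 (hQG hx), mem_normalizer_iff_map_conj_eq.1 (hQnP hx)]
    by_cases he : ⁅G, Q⁆ = G
    · have h1 := sub _ (commutator_lt_of_isPGroup hP hG hPG hb)
        (normalizer_commutator_ge_right G P) nQGP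
      have h2 : ⁅⁅G, P⁆, Q⁆ = ⊥ := by
        rw [commutator_comm]; exact commutator_eq_bot_iff_le_centralizer.2 h1
      have h3 : ⁅⁅P, Q⁆, G⁆ = ⊥ := by rw [hPQ, commutator_bot_left]
      have h4 : ⁅⁅Q, G⁆, P⁆ = ⊥ := commutator_commutator_eq_bot_of_rotate h2 h3
      rw [commutator_comm Q G, he] at h4
      have h5 : G ≤ G ⊓ centralizer (P : Set X) :=
        le_inf le_rfl (commutator_eq_bot_iff_le_centralizer.1 h4)
      exact le_centralizer_iff.1 (h5.trans hC)
    · have h1 := sub _ (lt_of_le_of_ne hle he) nPGQ (normalizer_commutator_ge_right G Q)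
      have h2 : ⁅⁅G, Q⁆, Q⁆ = ⊥ := by
        rw [commutator_comm]; exact commutator_eq_bot_iff_le_centralizer.2 h1
      rw [commutator_commutator_self hQG hcop (.inr hsolvG)] at h2
      rw [← commutator_eq_bot_iff_le_centralizer, commutator_comm]; exact h2

end CfsgLib.Coprime
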