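import Mathlib.GroupTheory.SchurZassenhaus
import Mathlib.GroupTheory.Sylow
import Mathlib.GroupTheory.Solvable
import Mathlib.GroupTheory.SpecificGroups.Cyclic
import Mathlib.GroupTheory.Commutator.Basic

/-!
Conjugacy part of the Schur–Zassenhaus theorem, stated for subgroups of an ambient group:
if `H` and `K` normalise `N`, `N ⊔ H = N ⊔ K`, `|H| = |K|` is coprime to `|N|`, and `N` or `H` is
solvable, then `K` is conjugate to `H` by an element of `N`.
-/

namespace CfsgLib.Coprime

open Subgroup
open scoped Pointwise commutatorElement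

variable {X : Type*} [Group X]

lemma card_mul_relIndex' {A B : Subgroup X} (h : A ≤ B) :
    Nat.card A * A.relIndex B = Nat.card B := by
  rw [relIndex, ← Nat.card_congr (subgroupOfEquivOfLe h).toEquiv]
  exact card_mul_index _

/-- Membership in `N ⊔ H` when `H` normalises `N`. -/
lemma mem_sup_of_le_normalizer {N H : Subgroup X} (hH : H ≤ normalizer (N : Set X)) {x : X} :
    x ∈ N ⊔ H ↔ ∃ n ∈ N, ∃ h ∈ H, n * h = x := by
  rw [← SetLike.mem_coe, coe_mul_of_right_le_normalizer_left N H hH]
  exact Set.mem_mul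

lemma card_sup_of_le_normalizer {N H : Subgroup X} (hH : H ≤ normalizer (N : Set X))
    (hd : Disjoint N H) : Nat.card ↥(N ⊔ H) = Nat.card N * Nat.card H := by
  rw [← Nat.card_prod]
  refine (Nat.card_congr (Equiv.ofBijective (fun nh : N × H =>
    (⟨nh.1 * nh.2, mul_mem_sup nh.1.2 nh.2.2⟩ : ↥(N ⊔ H))) ⟨?_, ?_⟩)).symm
  · intro a b hab
    exact mul_injective_of_disjoint hd (congrArg Subtype.val hab)
  · rintro ⟨x, hx⟩
    obtain ⟨n, hn, h, hh, rfl⟩ := (mem_sup_of_le_normalizer hH).1 hx
    exact ⟨(⟨n, hn⟩, ⟨h, hh⟩), rfl⟩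

lemma conj_map_le_iff {H K : Subgroup X} {g : X} :
    H.map (MulAut.conj g).toMonoidHom ≤ K ↔ ∀ h ∈ H, g * h * g⁻¹ ∈ K :=
  ⟨fun h x hx => h ⟨x, hx, rfl⟩, fun h => by rintro _ ⟨x, hx, rfl⟩; exact h x hx⟩

lemma card_conj_map (H : Subgroup X) (g : X) :
    Nat.card ↥(H.map (MulAut.conj g).toMonoidHom) = Nat.card H :=
  (Nat.card_congr (H.equivMapOfInjective _ (MulAut.conj g).injective).toEquiv).symm

lemma conj_map_map (H : Subgroup X) (g g' : X) :
    (H.map (MulAut.conj g').toMonoidHom).map (MulAut.conj g).toMonoidHom =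
      H.map (MulAut.conj (g * g')).toMonoidHom := by
  rw [map_map]
  congr 1
  ext x
  simp [mul_assoc]

lemma conj_map_eq_self_of_mem_normalizer {H : Subgroup X} {g : X}
    (hg : g ∈ normalizer (H : Set X)) : H.map (MulAut.conj g).toMonoidHom = H :=
  (mem_normalizer_iff_map_conj_eq.1 hg)

lemma mem_normalizer_of_conj_map_le [Finite X] {H : Subgroup X} {g : X}
    (hg : ∀ h ∈ H, g * h * g⁻¹ ∈ H) : g ∈ normalizer (H : Set X) :=
  mem_normalizer_iff_map_conj_eq.2
    (eq_of_le_of_card_ge (conj_map_le_iff.2 hg) (card_conj_map H g).ge)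

lemma conj_map_normalizer_le {N H : Subgroup X} {g : X} (hg : g ∈ normalizer (N : Set X))
    (hH : H ≤ normalizer (N : Set X)) :
    H.map (MulAut.conj g).toMonoidHom ≤ normalizer (N : Set X) :=
  conj_map_le_iff.2 fun _ hh => mul_mem (mul_mem hg (hH hh)) (inv_mem hg)

/-- Cocycle averaging: two supplements of `N` of coprime order become equal modulo `M` after
conjugation in `N`, provided `[N, N] ≤ M`. -/
lemma exists_conj_le_sup_of_commutator_le [Finite X] {N M H K : Subgroup X}
    (hMN : M ≤ N) (hMc : ⁅N, N⁆ ≤ M)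
    (hHN : H ≤ normalizer (N : Set X)) (hKN : K ≤ normalizer (N : Set X))
    (hHM : H ≤ normalizer (M : Set X))
    (hsup : H ≤ N ⊔ K) (hd : Disjoint N K) (hcop : (Nat.card N).Coprime (Nat.card H)) :
    ∃ n ∈ N, H.map (MulAut.conj n).toMonoidHom ≤ M ⊔ K := by
  classical
  have hMn : (M.subgroupOf N).Normal :=
    normal_subgroupOf_iff_le_normalizer hMN |>.2 (le_normalizer_iff_commutator_le_left.2
      ((commutator_mono hMN le_rfl).trans hMc))
  letI : CommGroup (N ⧸ M.subgroupOf N) :=
    { (inferInstance : Group (N ⧸ M.subgroupOf N)) with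
      mul_comm := by
        rintro ⟨x⟩ ⟨y⟩
        refine QuotientGroup.eq.2 (mem_subgroupOf.2 ?_)
        have : ⁅((y⁻¹ : N) : X), ((x⁻¹ : N) : X)⁆ ∈ M :=
          hMc (commutator_mem_commutator (SetLike.coe_mem _) (SetLike.coe_mem _))
        simpa [commutatorElement_def, mul_assoc] using this }
  have hex : ∀ h : H, ∃ n : N, (n : X)⁻¹ * h ∈ K := fun h => by
    obtain ⟨n, hn, k, hk, e⟩ := (mem_sup_of_le_normalizer hKN).1 (hsup h.2)
    exact ⟨⟨n, hn⟩, by simpa [← e] using hk⟩
  choose a ha using hex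
  let act (h : H) (n : N) : N := ⟨h * n * (h : X)⁻¹, le_normalizer_iff.1 hHN h h.2 n n.2⟩
  have hcoc : ∀ h h' : H, a (h * h') = act h (a h') * a h := fun h h' => by
    have e : ((a h : X)⁻¹ * h) * ((a h' : X)⁻¹ * h') * ((a (h * h') : X)⁻¹ * ((h * h' : H) : X))⁻¹
        ∈ N ⊓ K := by
      refine mem_inf.2 ⟨?_, mul_mem (mul_mem (ha h) (ha h')) (inv_mem (ha (h * h')))⟩
      have : ((a h : X)⁻¹ * h) * ((a h' : X)⁻¹ * h') *
          ((a (h * h') : X)⁻¹ * ((h * h' : H) : X))⁻¹
          = (a h : X)⁻¹ * (act h (a h') : X)⁻¹ * a (h * h') := by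
        simp [act, mul_assoc]
      rw [this]
      exact mul_mem (mul_mem (inv_mem (a h).2) (inv_mem (act h (a h')).2)) (a (h * h')).2
    rw [hd.eq_bot, mem_bot] at e
    apply Subtype.ext
    have h1 : (a h : X)⁻¹ * (act h (a h') : X)⁻¹ * a (h * h') = 1 := by
      rw [← e]; simp [act, mul_assoc]
    calc (a (h * h') : X)
        = (act h (a h') : X) * (a h : X) *
            ((a h : X)⁻¹ * (act h (a h') : X)⁻¹ * a (h * h')) := by group
      _ = _ := by rw [h1, mul_one]; rfl
  let π := QuotientGroup.mk' (M.subgroupOf N)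
  have hactπ : ∀ (h : H) (x y : N), π x = π y → π (act h x) = π (act h y) := fun h x y e => by
    refine QuotientGroup.eq.2 (mem_subgroupOf.2 ?_)
    have e' : (x : X)⁻¹ * y ∈ M := by simpa [mem_subgroupOf] using QuotientGroup.eq.1 e
    simpa [act, mul_assoc] using le_normalizer_iff.1 hHM h h.2 _ e'
  let actHom (h : H) : N →* N := MonoidHom.mk' (act h) fun x y => by
    apply Subtype.ext; simp [act, mul_assoc]
  let : Fintype H := Fintype.ofFinite H
  have hc0 : (Nat.card (N ⧸ M.subgroupOf N)).Coprime (Nat.card H) :=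
    Nat.Coprime.coprime_dvd_left (card_quotient_dvd_card _) hcop
  let e0 := powCoprime hc0
  obtain ⟨c, hc⟩ : ∃ c : N, π c = ∏ h : H, π (a h) :=
    QuotientGroup.mk'_surjective _ _
  obtain ⟨e, he⟩ : ∃ e : N, π e = e0.symm (π c) := QuotientGroup.mk'_surjective _ _
  have hec : π e ^ Nat.card H = π c := by rw [he]; exact e0.apply_symm_apply _
  have key : ∀ h : H, π (a h) * π (act h e) = π e := fun h => by
    apply e0.injective
    show (π (a h) * π (act h e)) ^ Nat.card H = π e ^ Nat.card H
    rw [mul_pow, hec, ← map_pow π (act h e)]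
    have h2 : act h e ^ Nat.card H = act h (e ^ Nat.card H) := (map_pow (actHom h) e _).symm
    rw [h2, hactπ h (e ^ Nat.card H) c (by rw [map_pow, hec])]
    have h3 : π (act h c) = ∏ h' : H, π (act h (a h')) := by
      obtain ⟨l, hl⟩ : ∃ l : List H, l.Nodup ∧ ∀ x, x ∈ l :=
        ⟨(Finset.univ : Finset H).toList, Finset.nodup_toList _, by simp⟩
      have hp : ∀ f : H → N ⧸ M.subgroupOf N, ∏ h' : H, f h' = (l.map f).prod := fun f => by
        rw [← List.prod_toFinset f hl.1]
        congr 1; ext x; simp [hl.2]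
      rw [hp, hactπ h c (l.map a).prod (by rw [hc, hp, map_list_prod, List.map_map]; rfl)]
      show (π.comp (actHom h)) (l.map a).prod = _
      rw [map_list_prod, List.map_map]; rfl
    rw [h3, hc]
    calc π (a h) ^ Nat.card H * ∏ h' : H, π (act h (a h'))
        = ∏ h' : H, π (a (h * h')) := by
          rw [Nat.card_eq_fintype_card, ← Finset.card_univ, ← Finset.prod_const,
            ← Finset.prod_mul_distrib]
          refine Finset.prod_congr rfl fun h' _ => ?_
          rw [hcoc, map_mul, mul_comm]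
      _ = ∏ h' : H, π (a h') :=
          Fintype.prod_equiv (Equiv.mulLeft h) _ _ (fun _ => rfl)
  refine ⟨((e⁻¹ : N) : X), (e⁻¹ : N).2, conj_map_le_iff.2 fun x hx => ?_⟩
  have e1 := QuotientGroup.eq.1 ((map_mul π (a ⟨x, hx⟩) (act ⟨x, hx⟩ e)).trans (key ⟨x, hx⟩))
  have e2 : ((a ⟨x, hx⟩ : X) * (x * e * x⁻¹))⁻¹ * e ∈ M := by
    simpa [mem_subgroupOf, act] using e1
  have e3 : (e : X)⁻¹ * a ⟨x, hx⟩ * (x * e * x⁻¹) ∈ M := by
    simpa [mul_assoc] using inv_mem e2
  have hy : x * e * x⁻¹ ∈ N := le_normalizer_iff.1 hHN x hx _ e.2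
  have : ((e⁻¹ : N) : X) * x * ((e⁻¹ : N) : X)⁻¹ =
      ((e : X)⁻¹ * a ⟨x, hx⟩ * (x * e * x⁻¹)) *
        ⁅((x : X) * e * x⁻¹)⁻¹, (a ⟨x, hx⟩ : X)⁻¹⁆ * ((a ⟨x, hx⟩ : X)⁻¹ * x) := by
    simp [commutatorElement_def, mul_assoc]
  rw [this]
  exact mul_mem_sup (mul_mem e3 (hMc (commutator_mem_commutator (inv_mem hy)
    (inv_mem (a ⟨x, hx⟩).2)))) (ha ⟨x, hx⟩)

lemma normalizer_le_normalizer_commutator (N : Subgroup X) :
    normalizer (N : Set X) ≤ normalizer ((⁅N, N⁆ : Subgroup X) : Set X) := fun g hg => by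
  rw [mem_normalizer_iff_map_conj_eq] at hg ⊢
  rw [map_commutator, hg]

lemma commutator_self_lt {N : Subgroup X} (hN : Group.IsSolvable N) (hb : N ≠ ⊥) : ⁅N, N⁆ < N := by
  have := hN
  have : Nontrivial N := (Subgroup.nontrivial_iff_ne_bot N).2 hb
  have hlt := Group.IsSolvable.commutator_lt_top_of_nontrivial N
  refine lt_of_le_of_ne (commutator_le_self N) fun e => hlt.ne ?_
  apply map_injective N.subtype_injective
  rw [_root_.commutator_def, map_commutator, ← MonoidHom.range_eq_map, range_subtype, e]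

/-- Schur–Zassenhaus conjugacy when the normalised subgroup is solvable. -/
lemma exists_conj_eq_of_solvable [Finite X] {N H K : Subgroup X} (hN : Group.IsSolvable N)
    (hHN : H ≤ normalizer (N : Set X)) (hKN : K ≤ normalizer (N : Set X))
    (hsup : H ≤ N ⊔ K) (hcard : Nat.card H = Nat.card K)
    (hcop : (Nat.card N).Coprime (Nat.card H)) :
    ∃ n ∈ N, H.map (MulAut.conj n).toMonoidHom = K := by
  induction hk : Nat.card N using Nat.strong_induction_on generalizing N H with
  | _ k ih =>
    by_cases hb : N = ⊥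
    · refine ⟨1, one_mem _, ?_⟩
      rw [hb, bot_sup_eq] at hsup
      rw [eq_of_le_of_card_ge hsup hcard.ge]
      exact conj_map_eq_self_of_mem_normalizer (one_mem _)
    · have hM : ⁅N, N⁆ < N := commutator_self_lt hN hb
      have hd : Disjoint N K := disjoint_of_coprime_natCard (hcard ▸ hcop)
      obtain ⟨e, he, hle⟩ := exists_conj_le_sup_of_commutator_le hM.le le_rfl hHN hKN
        (hHN.trans (normalizer_le_normalizer_commutator N)) hsup hd hcop
      have hH' : H.map (MulAut.conj e).toMonoidHom ≤ normalizer ((⁅N, N⁆ : Subgroup X) : Set X) :=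
        (conj_map_normalizer_le (le_normalizer he) hHN).trans
          (normalizer_le_normalizer_commutator N)
      have := hN
      obtain ⟨m, hm, heq⟩ := ih (Nat.card ↥⁅N, N⁆)
        (hk ▸ lt_of_le_of_ne (card_le_of_le hM.le)
          fun h => hM.ne (eq_of_le_of_card_ge hM.le h.ge))
        (Group.isSolvable_of_isSolvable_injective (inclusion_injective hM.le)) hH'
        (hKN.trans (normalizer_le_normalizer_commutator N)) hle
        (by rw [card_conj_map]; exact hcard)
        (by rw [card_conj_map]; exact Nat.Coprime.coprime_dvd_left (card_dvd_of_le hM.le) hcop) rfl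
      exact ⟨m * e, mul_mem (hM.le hm) he, by rw [← conj_map_map]; exact heq⟩

lemma exists_normal_prime_index (G : Type*) [Group G] [Finite G] [Group.IsSolvable G]
    [Nontrivial G] : ∃ N : Subgroup G, N.Normal ∧ N.index.Prime := by
  obtain ⟨N, hN, hle⟩ := (eq_top_or_exists_le_coatom (commutator G)).resolve_left
    (Group.IsSolvable.commutator_lt_top_of_nontrivial G).ne
  have hn : N.Normal := Normal.of_commutator_le (G := G) hle
  refine ⟨N, hn, ?_⟩
  have : Nontrivial (G ⧸ N) := QuotientGroup.nontrivial_iff.2 hN.1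
  have : IsSimpleGroup (G ⧸ N) := ⟨fun S hS => by
    have h1 : N ≤ S.comap (QuotientGroup.mk' N) := QuotientGroup.le_comap_mk' N S
    rcases hN.le_iff.1 h1 with h | h
    · right
      rw [← map_comap_eq_self_of_surjective (QuotientGroup.mk'_surjective N) S, h,
        map_top_of_surjective _ (QuotientGroup.mk'_surjective N)]
    · left
      rw [← map_comap_eq_self_of_surjective (QuotientGroup.mk'_surjective N) S, h,
        QuotientGroup.map_mk'_self]⟩
  letI : CommGroup (G ⧸ N) :=
    { (inferInstance : Group (G ⧸ N)) with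
      mul_comm := by
        rintro ⟨x⟩ ⟨y⟩
        refine QuotientGroup.eq.2 (hle ?_)
        have : ⁅y⁻¹, x⁻¹⁆ ∈ commutator G :=
          commutator_mem_commutator (mem_top _) (mem_top _)
        simpa [commutatorElement_def, mul_assoc] using this }
  exact IsSimpleGroup.prime_card

/-- Schur–Zassenhaus conjugacy when the complement is solvable. -/
lemma exists_conj_eq_of_solvable_right [Finite X] {N H K : Subgroup X} (hH : Group.IsSolvable H)
    (hHN : H ≤ normalizer (N : Set X)) (hKN : K ≤ normalizer (N : Set X))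
    (hsup : H ≤ N ⊔ K) (hcard : Nat.card H = Nat.card K)
    (hcop : (Nat.card N).Coprime (Nat.card H)) :
    ∃ n ∈ N, H.map (MulAut.conj n).toMonoidHom = K := by
  induction hk : Nat.card H using Nat.strong_induction_on generalizing H K with
  | _ k ih =>
    by_cases hb : H = ⊥
    · refine ⟨1, one_mem _, ?_⟩
      subst hb
      rw [card_bot] at hcard
      rw [Subgroup.eq_bot_of_card_eq K hcard.symm, Subgroup.map_bot]
    have := hH
    have : Nontrivial H := (Subgroup.nontrivial_iff_ne_bot H).2 hb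
    obtain ⟨H0', hn0, hq⟩ := exists_normal_prime_index H
    set q := H0'.index with hqdef
    have : Fact q.Prime := ⟨hq⟩
    let H0 : Subgroup X := H0'.map H.subtype
    have hH0H : H0 ≤ H := map_subtype_le _
    have hHn0 : H ≤ normalizer (H0 : Set X) :=
      (normal_subgroupOf_iff_le_normalizer hH0H).1 (by
        rwa [show H0.subgroupOf H = H0' from comap_map_eq_self_of_injective H.subtype_injective _])
    have hc0 : Nat.card H0 * q = Nat.card H := by
      rw [show Nat.card H0 = Nat.card H0' from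
        (Nat.card_congr (H0'.equivMapOfInjective _ H.subtype_injective).toEquiv).symm]
      exact card_mul_index H0'
    let K0 : Subgroup X := K ⊓ (N ⊔ H0)
    have hK0K : K0 ≤ K := inf_le_left
    have hdK : Disjoint N K := disjoint_of_coprime_natCard (hcard ▸ hcop)
    have hdH : Disjoint N H := disjoint_of_coprime_natCard hcop
    have hH0N : H0 ≤ normalizer (N : Set X) := hH0H.trans hHN
    have hNK : N ⊔ H = N ⊔ K := eq_of_le_of_card_ge (sup_le le_sup_left hsup) (by
      rw [card_sup_of_le_normalizer hHN hdH, card_sup_of_le_normalizer hKN hdK, hcard])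
    have hsup0 : H0 ≤ N ⊔ K0 := fun x hx => by
      obtain ⟨n, hn, k, hk', e⟩ := (mem_sup_of_le_normalizer hKN).1 (hsup (hH0H hx))
      have : k ∈ N ⊔ H0 := by
        have h1 : n⁻¹ * x ∈ N ⊔ H0 := mul_mem_sup (inv_mem hn) hx
        simpa [← e] using h1
      exact e ▸ mul_mem_sup hn ⟨hk', this⟩
    have hcard0 : Nat.card H0 = Nat.card K0 := by
      have e : N ⊔ H0 = N ⊔ K0 := le_antisymm (sup_le le_sup_left hsup0)
        (sup_le le_sup_left inf_le_right)
      have h1 := card_sup_of_le_normalizer hH0N (hdH.mono_right hH0H)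
      rw [e, card_sup_of_le_normalizer (hK0K.trans hKN) (hdK.mono_right hK0K)] at h1
      exact (Nat.eq_of_mul_eq_mul_left Nat.card_pos h1).symm
    have hlt : Nat.card H0 < k := by
      rw [← hk, ← hc0]
      exact lt_mul_of_one_lt_right Nat.card_pos hq.one_lt
    obtain ⟨n, hn, hn0'⟩ := ih _ hlt
      (Group.isSolvable_of_isSolvable_injective (inclusion_injective hH0H)) hH0N
      (hK0K.trans hKN) hsup0 hcard0
      (Nat.Coprime.coprime_dvd_right (card_dvd_of_le hH0H) hcop) rfl
    -- the conjugate `H₁` of `H` has `K₀` as a normal subgroup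
    let H1 := H.map (MulAut.conj n).toMonoidHom
    have hH1N : H1 ≤ normalizer (N : Set X) := conj_map_normalizer_le (le_normalizer hn) hHN
    have hK0H1 : H1 ≤ normalizer (K0 : Set X) := by
      rw [← hn0']
      exact (map_mono hHn0).trans (le_normalizer_map _)
    have hKK0 : K ≤ normalizer (K0 : Set X) := by
      refine le_trans (le_inf (le_normalizer (H := K)) ?_) inf_normalizer_le_normalizer_inf
      have hsub : N ⊔ H ≤ normalizer ((N ⊔ H0 : Subgroup X) : Set X) := sup_le
        (le_sup_left.trans le_normalizer)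
        ((le_inf hHN hHn0).trans (normalizer_inf_normalizer_le_normalizer_sup N H0))
      exact (le_sup_right.trans hNK.ge).trans hsub
    have hK0le : K0 ≤ H1 := hn0' ▸ map_mono hH0H
    have hc1 : Nat.card H1 = Nat.card K := (card_conj_map H n).trans hcard
    have hH1K : H1 ≤ N ⊔ K := conj_map_le_iff.2 fun x hx =>
      mul_mem (mul_mem (mem_sup_left hn) (hsup hx)) (inv_mem (mem_sup_left hn))
    have hNK1 : N ⊔ H1 = N ⊔ K := eq_of_le_of_card_ge (sup_le le_sup_left hH1K) (by
      rw [card_sup_of_le_normalizer hH1N (disjoint_of_coprime_natCard (by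
        rw [hc1, ← hcard]; exact hcop)), card_sup_of_le_normalizer hKN hdK, hc1])
    let L := (N ⊔ K) ⊓ normalizer (K0 : Set X)
    have hH1L : H1 ≤ L := le_inf hH1K hK0H1
    have hKL : K ≤ L := le_inf le_sup_right hKK0
    let Q : Subgroup X := ((default : Sylow q H1) : Subgroup H1).map H1.subtype
    let R : Subgroup X := ((default : Sylow q K) : Subgroup K).map K.subtype
    have hQH : Q ≤ H1 := map_subtype_le _
    have hRK : R ≤ K := map_subtype_le _
    have hfac : (Nat.card L).factorization q = (Nat.card K).factorization q := by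
      refine le_antisymm ?_ ((Nat.factorization_le_iff_dvd Nat.card_pos.ne' Nat.card_pos.ne').2
        (card_dvd_of_le hKL) q)
      have h1 : Nat.card L ∣ Nat.card N * Nat.card K := by
        rw [← card_sup_of_le_normalizer hKN hdK]; exact card_dvd_of_le inf_le_left
      have h2 := (Nat.factorization_le_iff_dvd Nat.card_pos.ne'
        (Nat.mul_ne_zero Nat.card_pos.ne' Nat.card_pos.ne')).2 h1 q
      rw [Nat.factorization_mul Nat.card_pos.ne' Nat.card_pos.ne', Finsupp.add_apply,
        Nat.factorization_eq_zero_of_not_dvd (n := Nat.card N) fun hqN => hq.not_dvd_one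
          (hcop ▸ Nat.dvd_gcd hqN (hc0 ▸ dvd_mul_left q _))] at h2
      simpa using h2
    have hQc : Nat.card Q = q ^ (Nat.card K).factorization q := by
      rw [← hc1, ← (default : Sylow q H1).card_eq_multiplicity]
      exact (Nat.card_congr (equivMapOfInjective _ _ H1.subtype_injective).toEquiv).symm
    have hRc : Nat.card R = q ^ (Nat.card K).factorization q := by
      rw [← (default : Sylow q K).card_eq_multiplicity]
      exact (Nat.card_congr (equivMapOfInjective _ _ K.subtype_injective).toEquiv).symm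
    let Q' : Sylow q L := Sylow.ofCard (Q.subgroupOf L) (by
      rw [Nat.card_congr (subgroupOfEquivOfLe (hQH.trans hH1L)).toEquiv, hQc, hfac])
    let R' : Sylow q L := Sylow.ofCard (R.subgroupOf L) (by
      rw [Nat.card_congr (subgroupOfEquivOfLe (hRK.trans hKL)).toEquiv, hRc, hfac])
    obtain ⟨l, hl⟩ := MulAction.exists_smul_eq L Q' R'
    have hlQ : ∀ x ∈ Q, (l : X) * x * (l : X)⁻¹ ∈ R := fun x hx => by
      have h1 : MulAut.conj l • (⟨x, hH1L (hQH hx)⟩ : L) ∈ ((l • Q' : Sylow q L) : Subgroup L) :=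
        smul_mem_pointwise_smul _ (MulAut.conj l) _ (mem_subgroupOf.2 hx)
      rw [hl] at h1
      exact mem_subgroupOf.1 h1
    -- split `l = m * h` with `m ∈ N` and `h ∈ H₁`
    obtain ⟨m, hm, h, hh, hmh⟩ := (mem_sup_of_le_normalizer hH1N).1 (hNK1 ▸ l.2.1 : (l : X) ∈ N ⊔ H1)
    have hmK0 : m ∈ normalizer (K0 : Set X) := by
      have h1 : (l : X) * h⁻¹ ∈ normalizer (K0 : Set X) := mul_mem l.2.2 (inv_mem (hK0H1 hh))
      simpa [← hmh] using h1
    have hK0Q : K0 ⊔ Q = H1 := by
      have hle : K0 ⊔ Q ≤ H1 := sup_le hK0le hQH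
      have hidx : K0.relIndex H1 = q := by
        refine Nat.eq_of_mul_eq_mul_left (n := Nat.card K0) Nat.card_pos ?_
        rw [card_mul_relIndex' hK0le, hc1, ← hcard, ← hcard0, hc0]
      have hm2 := relIndex_mul_relIndex K0 (K0 ⊔ Q) H1 le_sup_left hle
      rw [hidx] at hm2
      rcases hq.eq_one_or_self_of_dvd _ ⟨_, hm2.symm⟩ with h1 | h1
      · exfalso
        have h2 : Q ≤ K0 := le_sup_right.trans (relIndex_eq_one.1 h1)
        have h3 := (Nat.factorization_le_iff_dvd Nat.card_pos.ne' Nat.card_pos.ne').2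
          (card_dvd_of_le h2) q
        rw [hQc, Nat.factorization_pow, Finsupp.smul_apply, hq.factorization_self, smul_eq_mul,
          mul_one, ← hcard0, ← hcard, ← hc0,
          Nat.factorization_mul Nat.card_pos.ne' hq.ne_zero, Finsupp.add_apply,
          hq.factorization_self] at h3
        omega
      · rw [h1] at hm2
        exact le_antisymm hle (relIndex_eq_one.1
          ((Nat.mul_eq_left hq.ne_zero).1 hm2))
    refine ⟨m * n, mul_mem hm hn, ?_⟩
    rw [← conj_map_map]
    refine eq_of_le_of_card_ge ?_ (by rw [card_conj_map, hc1])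
    change H1.map (MulAut.conj m).toMonoidHom ≤ K
    rw [← conj_map_eq_self_of_mem_normalizer (le_normalizer hh), conj_map_map, hmh]
    show H1.map (MulAut.conj (l : X)).toMonoidHom ≤ K
    rw [← hK0Q, Subgroup.map_sup, conj_map_eq_self_of_mem_normalizer l.2.2]
    exact sup_le hK0K ((conj_map_le_iff.2 hlQ).trans hRK)

/-- Schur–Zassenhaus conjugacy. -/
lemma exists_conj_eq [Finite X] {N H K : Subgroup X}
    (hsolv : Group.IsSolvable N ∨ Group.IsSolvable H)
    (hHN : H ≤ normalizer (N : Set X)) (hKN : K ≤ normalizer (N : Set X))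
    (hsup : H ≤ N ⊔ K) (hcard : Nat.card H = Nat.card K)
    (hcop : (Nat.card N).Coprime (Nat.card H)) :
    ∃ n ∈ N, H.map (MulAut.conj n).toMonoidHom = K :=
  hsolv.elim (fun h => exists_conj_eq_of_solvable h hHN hKN hsup hcard hcop)
    (fun h => exists_conj_eq_of_solvable_right h hHN hKN hsup hcard hcop)

end CfsgLib.Coprime
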