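import Cfsg.Agent.Lib.Coprime.Action
import Mathlib.Algebra.BigOperators.Group.Finset.Basic
import Mathlib.GroupTheory.Exponent
import Mathlib.GroupTheory.SpecificGroups.Cyclic

/-!
Coprime action on abelian groups: the norm map, a partition lemma, and the existence of a
`p × p` section in a non-cyclic abelian group.
-/

namespace CfsgLib.Coprime

open Subgroup

section Norm

variable {A V : Type*} [Group A] [Fintype A] [CommGroup V] (ρ : A →* MulAut V)

open scoped Classical in
/-- The norm of `v` over the subgroup `B`. -/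
noncomputable def normOver (B : Subgroup A) (v : V) : V :=
  ∏ a ∈ Finset.univ.filter (· ∈ B), ρ a v

lemma normOver_mul (B : Subgroup A) (v w : V) :
    normOver ρ B (v * w) = normOver ρ B v * normOver ρ B w := by
  simp [normOver, Finset.prod_mul_distrib]

lemma apply_normOver (B : Subgroup A) {b : A} (hb : b ∈ B) (v : V) :
    ρ b (normOver ρ B v) = normOver ρ B v := by
  classical
  rw [normOver, map_prod]
  refine Finset.prod_nbij' (b * ·) (b⁻¹ * ·) ?_ ?_ ?_ ?_ ?_
  · intro a ha
    simpa using mul_mem hb (by simpa using ha)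
  · intro a ha
    simpa using mul_mem (inv_mem hb) (by simpa using ha)
  · intro a _; simp
  · intro a _; simp
  · intro a _; simp [map_mul]

lemma normOver_apply (B : Subgroup A) {b : A} (hb : b ∈ B) (v : V) :
    normOver ρ B (ρ b v) = normOver ρ B v := by
  classical
  rw [normOver]
  refine Finset.prod_nbij' (· * b) (· * b⁻¹) ?_ ?_ ?_ ?_ ?_
  · intro a ha
    simpa using mul_mem (by simpa using ha) hb
  · intro a ha
    simpa using mul_mem (by simpa using ha) (inv_mem hb)
  · intro a _; simp
  · intro a _; simp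
  · intro a _; simp [map_mul]

lemma normOver_fixed (B : Subgroup A) {v : V} (h : ∀ b ∈ B, ρ b v = v) :
    normOver ρ B v = v ^ Nat.card B := by
  classical
  rw [normOver, Finset.prod_eq_pow_card (b := v) (fun a ha => h a (by simpa using ha))]
  congr 1
  rw [Nat.card_eq_fintype_card, ← Fintype.card_subtype]

/-- The partition identity: if every element of `E` outside `B₀` lies in exactly one member of
the family `B i`, and `v` is fixed by `B₀`, then a power of `v` is a product of elements fixed by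
the members of the family and one fixed by `E`. -/
lemma pow_eq_prod_normOver {ι : Type*} [Fintype ι] {E B₀ : Subgroup A} {B : ι → Subgroup A}
    (hBE : ∀ i, B i ≤ E) (h0 : ∀ i, B₀ ≤ B i) (hB₀E : B₀ ≤ E)
    (hpart : ∀ a ∈ E, a ∉ B₀ → ∃! i, a ∈ B i) {v : V} (hv : ∀ b ∈ B₀, ρ b v = v) :
    (∏ i, normOver ρ (B i) v) * v ^ Nat.card B₀ =
      normOver ρ E v * v ^ (Fintype.card ι * Nat.card B₀) := by
  classical
  have h1 : ∀ a, ((∏ i, if a ∈ B i then ρ a v else 1) * if a ∈ B₀ then ρ a v else 1) =
      (if a ∈ E then ρ a v else 1) * (if a ∈ B₀ then ρ a v else 1) ^ Fintype.card ι := by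
    intro a
    by_cases ha0 : a ∈ B₀
    · simp [ha0, hB₀E ha0, fun i => h0 i ha0, mul_comm]
    · by_cases haE : a ∈ E
      · obtain ⟨i, hi, huniq⟩ := hpart a haE ha0
        rw [Finset.prod_eq_single i (fun j _ hj => if_neg fun h => hj (huniq j h)) (by simp)]
        simp [ha0, haE, hi]
      · have hn : ∀ i, a ∉ B i := fun i h => haE (hBE i h)
        simp [ha0, haE, hn]
  have key := Finset.prod_congr (s₁ := (Finset.univ : Finset A)) rfl (fun a _ => h1 a)
  rw [Finset.prod_mul_distrib, Finset.prod_mul_distrib, Finset.prod_comm, Finset.prod_pow] at key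
  simp only [← Finset.prod_filter] at key
  have e0 : normOver ρ B₀ v = v ^ Nat.card B₀ := normOver_fixed ρ B₀ hv
  simp only [normOver] at e0 ⊢
  rw [e0, ← pow_mul, mul_comm (Nat.card B₀)] at key
  exact key

end Norm

/-- In a non-cyclic finite abelian group some prime has more than `p` elements killed by `p`. -/
lemma exists_two_torsion_of_not_isCyclic (Q : Type*) [CommGroup Q] [Finite Q] (h : ¬ IsCyclic Q) :
    ∃ p : ℕ, p.Prime ∧ p < Nat.card (powMonoidHom p : Q →* Q).ker := by
  by_contra hcon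
  push Not at hcon
  apply h
  rw [IsCyclic.iff_exponent_eq_card]
  refine Nat.dvd_antisymm Group.exponent_dvd_nat_card
    ((Nat.factorization_le_iff_dvd Nat.card_pos.ne' Monoid.exponent_ne_zero_of_finite).1 fun p => ?_)
  by_cases hp : p.Prime
  swap
  · simp [Nat.factorization_eq_zero_of_not_prime _ hp]
  have := Fact.mk hp
  have hker : ∀ j, Nat.card (powMonoidHom (p ^ j) : Q →* Q).ker ≤ p ^ j := by
    intro j
    induction j with
    | zero =>
      have : (powMonoidHom (p ^ 0) : Q →* Q).ker = ⊥ := by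
        ext x; simp [MonoidHom.mem_ker]
      rw [this]; simp
    | succ j ih =>
      set S := (powMonoidHom (p ^ (j + 1)) : Q →* Q).ker
      set f : S →* Q := (powMonoidHom p).comp S.subtype
      have h1 : Nat.card f.range ≤ p ^ j := by
        refine le_trans (card_le_of_le ?_) ih
        rintro _ ⟨x, rfl⟩
        have hx : (x : Q) ^ p ^ (j + 1) = 1 := x.2
        simpa [f, MonoidHom.mem_ker, ← pow_mul, ← pow_succ'] using hx
      have h2 : Nat.card f.ker ≤ p := by
        refine le_trans ?_ (hcon p hp)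
        exact Nat.card_le_card_of_injective
          (fun x => ⟨(x.1 : Q), x.2⟩) fun a b e => Subtype.ext (Subtype.ext (Subtype.mk.inj e))
      rw [← f.ker.card_mul_index, index_ker, pow_succ']
      exact Nat.mul_le_mul h2 h1
  set j := (Monoid.exponent Q).factorization p
  let P : Sylow p Q := default
  have hP : (P : Subgroup Q) ≤ (powMonoidHom (p ^ j) : Q →* Q).ker := fun x hx => by
    obtain ⟨m, hm⟩ := IsPGroup.iff_orderOf.1 P.isPGroup' ⟨x, hx⟩
    rw [orderOf_mk] at hm
    have hdvd : orderOf x ∣ Monoid.exponent Q := Monoid.order_dvd_exponent x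
    rw [hm] at hdvd
    have hmj : m ≤ j := (hp.pow_dvd_iff_le_factorization Monoid.exponent_ne_zero_of_finite).1 hdvd
    exact orderOf_dvd_iff_pow_eq_one.1 (hm ▸ pow_dvd_pow p hmj)
  have := (card_le_of_le hP).trans (hker j)
  rw [P.card_eq_multiplicity] at this
  exact (Nat.pow_le_pow_iff_right hp.one_lt).1 this

/-- A `p × p` subgroup of a group, with the family of its subgroups of order `p`. -/
lemma exists_partition_of_not_isCyclic (Q : Type*) [CommGroup Q] [Finite Q] (h : ¬ IsCyclic Q) :
    ∃ (p : ℕ) (E : Subgroup Q) (F : Finset (Subgroup Q)), p.Prime ∧ p ∣ Nat.card Q ∧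
      F.card = p + 1 ∧ (∀ B ∈ F, B ≤ E ∧ B ≠ ⊥) ∧
      ∀ a ∈ E, a ≠ 1 → ∃! B, B ∈ F ∧ a ∈ B := by
  classical
  obtain ⟨p, hp, hlt⟩ := exists_two_torsion_of_not_isCyclic Q h
  have := Fact.mk hp
  set T := (powMonoidHom p : Q →* Q).ker
  have hT : IsPGroup p T := fun x => ⟨1, Subtype.ext (by simpa using MonoidHom.mem_ker.1 x.2)⟩
  have hTne : Nat.card T ≠ 1 := (hp.one_lt.trans hlt).ne'
  obtain ⟨n, hn⟩ := hT.exists_card_eq
  have h2n : 2 ≤ n := by
    rcases n with _ | _ | n
    · simp [hn] at hTne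
    · simp [hn] at hlt
    · omega
  obtain ⟨E', hE'⟩ := Sylow.exists_subgroup_card_pow_prime (G := T) p (n := 2)
    (hn ▸ pow_dvd_pow p h2n)
  set E := E'.map T.subtype
  have hEc : Nat.card E = p ^ 2 := by
    rw [← hE']; exact (Nat.card_congr (equivMapOfInjective _ _ T.subtype_injective).toEquiv).symm
  have hExp : ∀ a ∈ E, a ^ p = 1 := fun a ha => by
    have := map_subtype_le E' ha
    simpa [T, MonoidHom.mem_ker] using this
  let : Fintype Q := Fintype.ofFinite Q
  let N : Finset Q := Finset.univ.filter (fun a => a ∈ E ∧ a ≠ 1)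
  let F := N.image zpowers
  have hord : ∀ a ∈ E, a ≠ 1 → orderOf a = p := fun a ha ha1 =>
    orderOf_eq_prime (hExp a ha) ha1
  have hfib : ∀ B ∈ F, (N.filter (fun a => zpowers a = B)).card = p - 1 := by
    intro B hB
    obtain ⟨a, ha, rfl⟩ := Finset.mem_image.1 hB
    simp only [N, Finset.mem_filter, Finset.mem_univ, true_and] at ha
    have hza : Nat.card (zpowers a) = p := by rw [Nat.card_zpowers, hord a ha.1 ha.2]
    have : N.filter (fun b => zpowers b = zpowers a) =
        (Finset.univ.filter (· ∈ zpowers a)).erase 1 := by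
      ext b
      simp only [N, Finset.mem_filter, Finset.mem_univ, true_and, Finset.mem_erase]
      constructor
      · rintro ⟨⟨_, hb1⟩, e⟩
        exact ⟨hb1, e ▸ mem_zpowers b⟩
      · rintro ⟨hb1, hb⟩
        have hbE : b ∈ E := zpowers_le.2 ha.1 hb
        exact ⟨⟨hbE, hb1⟩, eq_of_le_of_card_ge (zpowers_le.2 hb)
          (by rw [hza, Nat.card_zpowers, hord b hbE hb1])⟩
    rw [this, Finset.card_erase_of_mem (by simp), ← Fintype.card_subtype,
      ← Nat.card_eq_fintype_card, hza]
  have hN : N.card = p ^ 2 - 1 := by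
    have : N = (Finset.univ.filter (· ∈ E)).erase 1 := by
      ext b; simp [N, and_comm]
    rw [this, Finset.card_erase_of_mem (by simp), ← Fintype.card_subtype,
      ← Nat.card_eq_fintype_card, hEc]
  have hsum := Finset.card_eq_sum_card_image zpowers N
  rw [Finset.sum_congr rfl hfib, Finset.sum_const, smul_eq_mul, hN] at hsum
  refine ⟨p, E, F, hp, ?_, ?_, fun B hB => ?_, fun a ha ha1 => ⟨zpowers a, ⟨?_, mem_zpowers a⟩, ?_⟩⟩
  · exact (dvd_pow_self p two_ne_zero).trans (hEc ▸ E.card_subgroup_dvd_card)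
  · refine Nat.eq_of_mul_eq_mul_right (m := p - 1) (by have := hp.two_le; omega) ?_
    have e := Nat.sq_sub_sq p 1
    rw [one_pow] at e
    rw [← hsum, e]
  · obtain ⟨a, ha, rfl⟩ := Finset.mem_image.1 hB
    simp only [N, Finset.mem_filter, Finset.mem_univ, true_and] at ha
    exact ⟨zpowers_le.2 ha.1, zpowers_ne_bot.2 ha.2⟩
  · exact Finset.mem_image.2 ⟨a, by simp [N, ha, ha1], rfl⟩
  · rintro B ⟨hB, haB⟩
    obtain ⟨b, hb, rfl⟩ := Finset.mem_image.1 hB
    simp only [N, Finset.mem_filter, Finset.mem_univ, true_and] at hb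
    exact (eq_of_le_of_card_ge (zpowers_le.2 haB)
      (by rw [Nat.card_zpowers, Nat.card_zpowers, hord a ha ha1, hord b hb.1 hb.2])).symm

section Internal

variable {X : Type*} [Group X]

/-- Conjugation action of a subgroup `A ≤ normalizer V` on `V`. -/
noncomputable def conjHom {A V : Subgroup X} (h : A ≤ normalizer (V : Set X)) : A →* MulAut V :=
  V.normalizerMonoidHom.comp (inclusion h)

lemma conjHom_apply {A V : Subgroup X} (h : A ≤ normalizer (V : Set X)) (a : A) (v : V) :
    (conjHom h a v : X) = a * v * (a : X)⁻¹ := rfl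

/-- Fixed points and commutator meet trivially for a coprime action on an abelian group. -/
lemma centralizer_inf_commutator_eq_bot [Finite X] {A V : Subgroup X} [hV : IsMulCommutative V]
    (hAV : A ≤ normalizer (V : Set X)) (hcop : (Nat.card A).Coprime (Nat.card V)) :
    (V ⊓ centralizer (A : Set X)) ⊓ ⁅V, A⁆ = ⊥ := by
  let : CommGroup V := { (inferInstance : Group V) with mul_comm := mul_comm' }
  let : Fintype A := Fintype.ofFinite A
  let f : V →* V := MonoidHom.mk' (normOver (conjHom hAV) ⊤) (normOver_mul _ _)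
  have hle : ⁅V, A⁆ ≤ f.ker.map V.subtype := commutator_le.2 fun v hv a ha => by
    have hw : a * v⁻¹ * a⁻¹ ∈ V := le_normalizer_iff.1 hAV a ha _ (inv_mem hv)
    refine ⟨⟨v, hv⟩ * ⟨a * v⁻¹ * a⁻¹, hw⟩, ?_, ?_⟩
    · have : (⟨a * v⁻¹ * a⁻¹, hw⟩ : V) = conjHom hAV ⟨a, ha⟩ (⟨v, hv⟩⁻¹) := rfl
      show f _ = 1
      rw [this, f.map_mul]
      show normOver (conjHom hAV) ⊤ _ * normOver (conjHom hAV) ⊤ _ = 1
      rw [normOver_apply _ _ (mem_top _)]
      show f _ * f _ = 1
      rw [← f.map_mul, mul_inv_cancel, map_one]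
    · simp [commutatorElement_def, mul_assoc]
  rw [eq_bot_iff]
  intro x hx
  obtain ⟨⟨hxV, hxA⟩, hxC⟩ := mem_inf.1 hx
  obtain ⟨y, hy, rfl⟩ := hle hxC
  have h1 : y ^ Nat.card (⊤ : Subgroup A) = 1 := by
    rw [← normOver_fixed (conjHom hAV) ⊤ fun a _ => Subtype.ext ?_]
    · exact hy
    · rw [conjHom_apply, show (a : X) * (y : X) = y * a from mem_centralizer_iff.1 hxA a a.2]
      simp
  rw [card_top] at h1
  have h2 : y = 1 := orderOf_eq_one_iff.1 <| Nat.eq_one_of_dvd_coprimes hcop
    (orderOf_dvd_iff_pow_eq_one.2 h1) (orderOf_dvd_natCard y)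
  simp [h2]

end Internal

end CfsgLib.Coprime
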