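import Cfsg.Prelude.Def_OddOrderLocal
import Cfsg.Agent.Lib.Coprime.Action
import Cfsg.Agent.Lib.Solvable.Hall

/-!
Hall `π`-subgroups of solvable subgroups, stated in the ambient group, and coprime action on them.
-/

universe u

namespace CfsgLib.Coprime

open Subgroup
open scoped Pointwise

/-- A natural number is a `π`-number times a `π'`-number. -/
lemma exists_pi_split (π : Set ℕ) (n : ℕ) (hn : n ≠ 0) :
    ∃ m k : ℕ, n = m * k ∧ (∀ p : ℕ, p.Prime → p ∣ m → p ∈ π) ∧ ∀ p : ℕ, p.Prime → p ∈ π → ¬ p ∣ k := by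
  induction n using induction_on_primes with
  | zero => exact absurd rfl hn
  | one => exact ⟨1, 1, rfl, fun p hp h => absurd (Nat.dvd_one.1 h) hp.ne_one,
      fun p hp _ h => hp.ne_one (Nat.dvd_one.1 h)⟩
  | prime_mul q a hq ih =>
    obtain ⟨m, k, rfl, hm, hk⟩ := ih (right_ne_zero_of_mul hn)
    by_cases hqπ : q ∈ π
    · refine ⟨q * m, k, by ring, fun p hp h => ?_, hk⟩
      rcases hp.dvd_mul.1 h with h | h
      · exact (Nat.prime_dvd_prime_iff_eq hp hq).1 h ▸ hqπ
      · exact hm p hp h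
    · refine ⟨m, q * k, by ring, hm, fun p hp hpπ h => ?_⟩
      rcases hp.dvd_mul.1 h with h | h
      · exact hqπ ((Nat.prime_dvd_prime_iff_eq hp hq).1 h ▸ hpπ)
      · exact hk p hp hpπ h

lemma coprime_of_pi {π : Set ℕ} {m k : ℕ} (hm : ∀ p : ℕ, p.Prime → p ∣ m → p ∈ π)
    (hk : ∀ p : ℕ, p.Prime → p ∈ π → ¬ p ∣ k) : m.Coprime k :=
  Nat.coprime_of_dvd fun p hp hpm hpk => hk p hp (hm p hp hpm) hpk

variable {X : Type*} [Group X]

lemma card_mul_relIndex_eq {H G : Subgroup X} (h : H ≤ G) :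
    Nat.card H * H.relIndex G = Nat.card G := card_mul_relIndex' h

lemma hall_coprime {π : Set ℕ} {H G : Subgroup X} (h : Cfsg.IsPiHallOf π H G) :
    (Nat.card H).Coprime (H.relIndex G) := coprime_of_pi h.2.1 h.2.2

lemma card_dvd_of_hall [Finite X] {π : Set ℕ} {U H G : Subgroup X} (hUG : U ≤ G)
    (hU : ∀ p : ℕ, p.Prime → p ∣ Nat.card U → p ∈ π) (h : Cfsg.IsPiHallOf π H G) :
    Nat.card U ∣ Nat.card H :=
  (coprime_of_pi hU h.2.2).dvd_of_dvd_mul_right
    ((card_mul_relIndex_eq h.1).symm ▸ card_dvd_of_le hUG)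

lemma card_hall_eq [Finite X] {π : Set ℕ} {H K G : Subgroup X} (h : Cfsg.IsPiHallOf π H G)
    (h' : Cfsg.IsPiHallOf π K G) : Nat.card H = Nat.card K :=
  Nat.dvd_antisymm (card_dvd_of_hall h.1 h.2.1 h') (card_dvd_of_hall h'.1 h'.2.1 h)

lemma hall_of_card_eq [Finite X] {π : Set ℕ} {H K G : Subgroup X} (h : Cfsg.IsPiHallOf π H G)
    (hK : K ≤ G) (hc : Nat.card K = Nat.card H) : Cfsg.IsPiHallOf π K G := by
  refine ⟨hK, by rw [hc]; exact h.2.1, ?_⟩
  have : K.relIndex G = H.relIndex G := Nat.eq_of_mul_eq_mul_left (Nat.card_pos (α := H))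
    (by rw [card_mul_relIndex_eq h.1, ← hc, card_mul_relIndex_eq hK])
  rw [this]
  exact h.2.2

/-- A solvable subgroup has a Hall `π`-subgroup above any of its `π`-subgroups. -/
theorem exists_hall_ge [Finite X] (π : Set ℕ) {G U : Subgroup X} (hG : Group.IsSolvable G) (hUG : U ≤ G)
    (hU : ∀ p : ℕ, p.Prime → p ∣ Nat.card U → p ∈ π) :
    ∃ H : Subgroup X, Cfsg.IsPiHallOf π H G ∧ U ≤ H := by
  obtain ⟨m, k, hmk, hm, hk⟩ := exists_pi_split π (Nat.card G) Nat.card_pos.ne'
  obtain ⟨H, hH, hle⟩ := CfsgLib.Solvable.Hall.exists_hall_ge hmk (coprime_of_pi hm hk)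
    (K := U.subgroupOf G) (by
      rw [Nat.card_congr (subgroupOfEquivOfLe hUG).toEquiv]; exact coprime_of_pi hU hk)
  have hcard : Nat.card (H.map G.subtype) = m := by rw [card_map_of_injective G.subtype_injective, hH]
  refine ⟨H.map G.subtype, ⟨map_subtype_le H, by rw [hcard]; exact hm, ?_⟩, fun x hx => ?_⟩
  · have : (H.map G.subtype).relIndex G = k := by
      have h1 := card_mul_relIndex_eq (map_subtype_le H)
      rw [hcard, hmk] at h1
      exact Nat.eq_of_mul_eq_mul_left (hH ▸ Nat.card_pos) h1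
    rw [this]; exact hk
  · exact ⟨⟨x, hUG hx⟩, hle (mem_subgroupOf.2 hx), rfl⟩

theorem exists_hall [Finite X] (π : Set ℕ) {G : Subgroup X} (hG : Group.IsSolvable G) :
    ∃ H : Subgroup X, Cfsg.IsPiHallOf π H G :=
  (exists_hall_ge π hG (bot_le : (⊥ : Subgroup X) ≤ G) fun p hp h => by
    rw [card_bot] at h; exact absurd (Nat.dvd_one.1 h) hp.ne_one).imp fun _ h => h.1

/-- Hall `π`-subgroups of a solvable subgroup are conjugate in it. -/
theorem hall_conj [Finite X] {π : Set ℕ} {G H K : Subgroup X} (hG : Group.IsSolvable G)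
    (h : Cfsg.IsPiHallOf π H G) (h' : Cfsg.IsPiHallOf π K G) :
    ∃ g ∈ G, H.map (MulAut.conj g).toMonoidHom = K := by
  have hcG : Nat.card G = Nat.card H * H.relIndex G := (card_mul_relIndex_eq h.1).symm
  obtain ⟨g, hg⟩ := CfsgLib.Solvable.Hall.conj_eq hcG (hall_coprime h)
    (H := H.subgroupOf G) (K := K.subgroupOf G)
    (Nat.card_congr (subgroupOfEquivOfLe h.1).toEquiv)
    (by rw [Nat.card_congr (subgroupOfEquivOfLe h'.1).toEquiv, card_hall_eq h h'])
  refine ⟨g, g.2, eq_of_le_of_card_ge (fun x hx => ?_) (by rw [card_conj_map, card_hall_eq h h'])⟩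
  obtain ⟨y, hy, rfl⟩ := hx
  have hmem : g * ⟨y, h.1 hy⟩ * g⁻¹ ∈ MulAut.conj g • H.subgroupOf G :=
    CfsgLib.Solvable.Basic.conj_mem_conj_smul (mem_subgroupOf.2 hy)
  rw [hg] at hmem
  exact mem_subgroupOf.1 hmem

lemma hall_conj_map [Finite X] {π : Set ℕ} {G H : Subgroup X} {x : X} (hx : x ∈ normalizer (G : Set X))
    (h : Cfsg.IsPiHallOf π H G) : Cfsg.IsPiHallOf π (H.map (MulAut.conj x).toMonoidHom) G :=
  hall_of_card_eq h (conj_map_le_iff.2 fun y hy => (mem_normalizer_iff.1 hx y).1 (h.1 hy)) (card_conj_map H x)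

/-- An invariant Hall subgroup exists under a coprime action. -/
theorem exists_invariant_hall [Finite X] (π : Set ℕ) {A G : Subgroup X} (hAG : A ≤ normalizer (G : Set X))
    (hcop : (Nat.card A).Coprime (Nat.card G)) (hG : Group.IsSolvable G) :
    ∃ H : Subgroup X, Cfsg.IsPiHallOf π H G ∧ A ≤ normalizer (H : Set X) := by
  obtain ⟨H₀, h₀⟩ := exists_hall π hG
  let inst : MulAction X (Subgroup X) := MulAction.compHom _ (MulAut.conj (G := X))
  have hsmul : ∀ (x : X) (H : Subgroup X), x • H = H.map (MulAut.conj x).toMonoidHom := fun x H => rfl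
  obtain ⟨H, hH, hfix⟩ := exists_fixed_mem hAG hcop (Or.inr hG) (s := {H | Cfsg.IsPiHallOf π H G}) h₀
    (fun a ha H hH => by rw [hsmul]; exact hall_conj_map (hAG ha) hH)
    (fun g hg H hH => by rw [hsmul]; exact hall_conj_map (le_normalizer hg) hH)
    (fun H hH => by
      obtain ⟨g, hg, he⟩ := hall_conj hG h₀ hH
      exact ⟨g, hg, (hsmul g H₀).trans he⟩)
  exact ⟨H, hH, fun a ha => mem_normalizer_iff_map_conj_eq.2 ((hsmul a H).symm.trans (hfix a ha))⟩

/-- Invariant Hall subgroups are conjugate by fixed points. -/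
theorem exists_centralizer_conj_hall [Finite X] {π : Set ℕ} {A G H K : Subgroup X}
    (hAG : A ≤ normalizer (G : Set X)) (hcop : (Nat.card A).Coprime (Nat.card G)) (hG : Group.IsSolvable G)
    (h : Cfsg.IsPiHallOf π H G) (hA : A ≤ normalizer (H : Set X))
    (h' : Cfsg.IsPiHallOf π K G) (hA' : A ≤ normalizer (K : Set X)) :
    ∃ c ∈ G ⊓ centralizer (A : Set X), K = H.map (MulAut.conj c).toMonoidHom := by
  let inst : MulAction X (Subgroup X) := MulAction.compHom _ (MulAut.conj (G := X))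
  have hsmul : ∀ (x : X) (H : Subgroup X), x • H = H.map (MulAut.conj x).toMonoidHom := fun x H => rfl
  obtain ⟨g, hg, he⟩ := hall_conj hG h h'
  obtain ⟨c, hc, hce⟩ := exists_centralizer_smul_eq hAG hcop (Or.inr hG)
    (x := H) (y := K) (fun a ha => (hsmul a H).trans (conj_map_eq_self_of_mem_normalizer (hA ha)))
    (fun a ha => (hsmul a K).trans (conj_map_eq_self_of_mem_normalizer (hA' ha)))
    hg ((hsmul g H).trans he)
  exact ⟨c, hc, hce.symm.trans (hsmul c H)⟩

/-- Subgroup form of the pullback of Hall subgroups. -/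
lemma hall_map_iff {Y : Type*} [Group Y] (f : X →* Y) (hf : Function.Injective f) {π : Set ℕ}
    {H G : Subgroup X} : Cfsg.IsPiHallOf π (H.map f) (G.map f) ↔ Cfsg.IsPiHallOf π H G := by
  unfold Cfsg.IsPiHallOf
  rw [map_le_map_iff_of_injective hf, card_map_of_injective hf, relIndex_map_map_of_injective H G hf]

theorem exists_invariant_hall_ge_aux : ∀ (n : ℕ) {X : Type u} [Group X] [Finite X] (π : Set ℕ)
    (A G U : Subgroup X), Nat.card G ≤ n → A ≤ normalizer (G : Set X) →
    (Nat.card A).Coprime (Nat.card G) → Group.IsSolvable G → U ≤ G → A ≤ normalizer (U : Set X) →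
    (∀ p : ℕ, p.Prime → p ∣ Nat.card U → p ∈ π) →
    ∃ H : Subgroup X, Cfsg.IsPiHallOf π H G ∧ A ≤ normalizer (H : Set X) ∧ U ≤ H := by
  intro n
  induction n with
  | zero => intro X _ _ π A G U h; exact absurd h (Nat.card_pos (α := G)).not_ge
  | succ n ih =>
    intro X _ _ π A G U hn hAG hcop hG hUG hAU hU
    -- it suffices to treat a normal subgroup
    suffices hnormal : ∀ {Y : Type u} [Group Y] [Finite Y] (A G U : Subgroup Y), G.Normal →
        Nat.card G ≤ n + 1 → (Nat.card A).Coprime (Nat.card G) → Group.IsSolvable G → U ≤ G →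
        A ≤ normalizer (U : Set Y) → (∀ p : ℕ, p.Prime → p ∣ Nat.card U → p ∈ π) →
        ∃ H : Subgroup Y, Cfsg.IsPiHallOf π H G ∧ A ≤ normalizer (H : Set Y) ∧ U ≤ H by
      let S := normalizer (G : Set X)
      have hGS : G ≤ S := le_normalizer
      obtain ⟨H, hH, hAH, hUH⟩ := hnormal (A.subgroupOf S) (G.subgroupOf S) (U.subgroupOf S)
        ((normal_subgroupOf_iff_le_normalizer hGS).2 le_rfl)
        (by rw [Nat.card_congr (subgroupOfEquivOfLe hGS).toEquiv]; exact hn)
        (by rw [Nat.card_congr (subgroupOfEquivOfLe hGS).toEquiv, Nat.card_congr (subgroupOfEquivOfLe hAG).toEquiv]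
            exact hcop)
        (Group.isSolvable_of_isSolvable_injective (f := (subgroupOfEquivOfLe hGS).toMonoidHom)
          (subgroupOfEquivOfLe hGS).injective)
        (fun x hx => hUG hx)
        (fun a ha => mem_normalizer_iff.2 fun x => mem_normalizer_iff.1 (hAU ha) x)
        (by rw [Nat.card_congr (subgroupOfEquivOfLe (hUG.trans hGS)).toEquiv]; exact hU)
      refine ⟨H.map S.subtype, ?_, fun a ha => mem_normalizer_of_conj_map_le ?_, fun x hx =>
        ⟨⟨x, hGS (hUG hx)⟩, hUH hx, rfl⟩⟩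
      · have := (hall_map_iff S.subtype S.subtype_injective).2 hH
        rwa [map_subgroupOf_eq_of_le hGS] at this
      · rintro _ ⟨x, hx, rfl⟩
        exact ⟨⟨a, hAG ha⟩ * x * ⟨a, hAG ha⟩⁻¹,
          (mem_normalizer_iff.1 (hAH (show (⟨a, hAG ha⟩ : S) ∈ A.subgroupOf S from ha)) x).1 hx, rfl⟩
    intro Y _ _ A G U hGn hn hcop hG hUG hAU hU
    have hAG : A ≤ normalizer (G : Set Y) := le_normalizer_of_normal
    by_cases hG0 : G = ⊥
    · refine ⟨G, ⟨le_rfl, fun p hp h => ?_, fun p hp _ h => ?_⟩, hAG, hUG⟩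
      · rw [hG0, card_bot] at h; exact absurd (Nat.dvd_one.1 h) hp.ne_one
      · rw [relIndex_self] at h; exact hp.ne_one (Nat.dvd_one.1 h)
    obtain ⟨N, hN, hN0, hNG, hmin⟩ := CfsgLib.Solvable.Basic.exists_minimal_normal_le (H := G) hG0
    have hNsol : Group.IsSolvable N := isSolvable_of_le hNG hG
    obtain ⟨-, p, hp, -, hNp⟩ := CfsgLib.Solvable.Basic.minimal_normal_solvable N hN0 hmin
    have := Fact.mk hp
    let f := QuotientGroup.mk' N
    have hf : Function.Surjective f := QuotientGroup.mk'_surjective N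
    have hker : f.ker = N := QuotientGroup.ker_mk' N
    have hcard : ∀ S : Subgroup Y, Nat.card (S.map f) ∣ Nat.card S := fun S => card_map_dvd S f
    have hGlt : Nat.card (G.map f) ≤ n := by
      have h1 := CfsgLib.Solvable.Basic.card_map_mk_of_le N G hNG
      have h2 : 1 < Nat.card N := (Finite.one_lt_card_iff_nontrivial).2 ((nontrivial_iff_ne_bot N).2 hN0)
      have h3 : 0 < Nat.card (G.map f) := Nat.card_pos
      have h4 : Nat.card (G.map f) * Nat.card N = Nat.card G := h1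
      nlinarith
    have hGf : Group.IsSolvable (G.map f) :=
      Group.isSolvable_of_surjective (MonoidHom.subgroupMap_surjective f G)
    have hnorm : ∀ (A S : Subgroup Y), A ≤ normalizer (S : Set Y) → A.map f ≤ normalizer ((S.map f : Subgroup _) : Set (Y ⧸ N)) :=
      fun A S h => (map_mono h).trans (le_normalizer_map f)
    obtain ⟨Hb, hHb, hAHb, hUHb⟩ := ih π (A.map f) (G.map f) (U.map f) hGlt (hnorm A G hAG)
      ((hcop.coprime_dvd_left (hcard A)).coprime_dvd_right (hcard G)) hGf (map_mono hUG) (hnorm A U hAU)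
      (fun q hq h => hU q hq (h.trans (hcard U)))
    set L := Hb.comap f with hL
    have hLG : L ≤ G := by
      refine (comap_mono hHb.1).trans ?_
      rw [comap_map_eq, hker, sup_eq_left.2 hNG]
    have hNL : N ≤ L := fun x hx => by
      rw [hL, mem_comap, show f x = 1 from (QuotientGroup.eq_one_iff x).2 hx]; exact one_mem _
    have hAL : A ≤ normalizer (L : Set Y) := fun a ha => by
      rw [hL, ← comap_normalizer_eq_of_surjective Hb hf]
      exact hAHb ⟨a, ha, rfl⟩
    have hUL : U ≤ L := map_le_iff_le_comap.1 hUHb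
    have hrel : L.relIndex G = Hb.relIndex (G.map f) := by rw [hL, relIndex_comap]
    have hcardL : Nat.card L = Nat.card Hb * Nat.card N := by
      rw [hL, CfsgLib.Solvable.Basic.card_comap_mk]
    by_cases hpπ : p ∈ π
    · refine ⟨L, ⟨hLG, fun q hq h => ?_, by rw [hrel]; exact hHb.2.2⟩, hAL, hUL⟩
      rw [hcardL] at h
      rcases hq.dvd_mul.1 h with h | h
      · exact hHb.2.1 q hq h
      · obtain ⟨k, hk⟩ := IsPGroup.iff_card.1 hNp
        exact (Nat.prime_dvd_prime_iff_eq hq hp).1 (hq.dvd_of_dvd_pow (hk ▸ h)) ▸ hpπ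
    have hcopL : (Nat.card A).Coprime (Nat.card L) := hcop.coprime_dvd_right (card_dvd_of_le hLG)
    have hLsol : Group.IsSolvable L := isSolvable_of_le hLG hG
    -- an invariant Hall subgroup of `L` is one of `G`
    have hup : ∀ H : Subgroup Y, Cfsg.IsPiHallOf π H L → Cfsg.IsPiHallOf π H G := fun H hH =>
      ⟨hH.1.trans hLG, hH.2.1, fun q hq hqπ h => by
        rw [← relIndex_mul_relIndex H L G hH.1 hLG, hrel] at h
        rcases hq.dvd_mul.1 h with h | h
        · exact hH.2.2 q hq hqπ h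
        · exact hHb.2.2 q hq hqπ h⟩
    obtain ⟨H, hH, hAH⟩ := exists_invariant_hall π hAL hcopL hLsol
    have hNle : U ≤ normalizer (N : Set Y) := le_normalizer_of_normal
    set M := N ⊔ U with hM
    have hML : M ≤ L := sup_le hNL hUL
    have hAM : A ≤ normalizer (M : Set Y) :=
      (le_inf le_normalizer_of_normal hAU).trans (normalizer_inf_normalizer_le_normalizer_sup N U)
    have hNpi : ∀ q : ℕ, q.Prime → q ∈ π → ¬ q ∣ Nat.card N := fun q hq hqπ h => by
      obtain ⟨k, hk⟩ := IsPGroup.iff_card.1 hNp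
      exact hpπ ((Nat.prime_dvd_prime_iff_eq hq hp).1 (hq.dvd_of_dvd_pow (hk ▸ h)) ▸ hqπ)
    -- `H` covers `L ⧸ N`
    have hHN : N ⊔ H = L := by
      refine eq_of_le_of_card_ge (sup_le hNL hH.1) ?_
      rw [hcardL, card_sup_of_le_normalizer (le_normalizer_of_normal (H := N))
        (by
          rw [disjoint_iff, ← card_eq_one]
          exact Nat.eq_one_of_dvd_coprimes (coprime_of_pi hH.2.1 hNpi).symm
            (card_dvd_of_le inf_le_left) (card_dvd_of_le inf_le_right))]
      rw [mul_comm (Nat.card N)]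
      refine Nat.mul_le_mul_right _ (Nat.le_of_dvd Nat.card_pos ?_)
      -- `|Hb|` is a `π`-number dividing `|L|`
      refine (coprime_of_pi hHb.2.1 hH.2.2).dvd_of_dvd_mul_right ?_
      rw [card_mul_relIndex_eq hH.1, hcardL]
      exact dvd_mul_right _ _
    -- compare `U` with `H ⊓ M` inside `M`
    have hrelN : ∀ V : Subgroup Y, (∀ q : ℕ, q.Prime → q ∣ Nat.card V → q ∈ π) → V.relIndex (N ⊔ V) = Nat.card N := by
      intro V hV
      refine Nat.eq_of_mul_eq_mul_left (Nat.card_pos (α := V)) ?_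
      rw [card_mul_relIndex_eq le_sup_right, mul_comm (Nat.card V),
        card_sup_of_le_normalizer (le_normalizer_of_normal (H := N))]
      rw [disjoint_iff, ← card_eq_one]
      exact Nat.eq_one_of_dvd_coprimes (coprime_of_pi hV hNpi).symm
        (card_dvd_of_le inf_le_left) (card_dvd_of_le inf_le_right)
    have hU_hall : Cfsg.IsPiHallOf π U M :=
      ⟨le_sup_right, hU, fun q hq hqπ h => hNpi q hq hqπ (h.trans (hrelN U hU).dvd)⟩
    have hHMpi : ∀ q : ℕ, q.Prime → q ∣ Nat.card ↥(H ⊓ M) → q ∈ π := fun q hq h =>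
      hH.2.1 q hq (h.trans (card_dvd_of_le inf_le_left))
    have hHM : Cfsg.IsPiHallOf π (H ⊓ M) M := by
      refine ⟨inf_le_right, hHMpi, fun q hq hqπ h => hNpi q hq hqπ (h.trans ?_)⟩
      have hcov : M ≤ N ⊔ (H ⊓ M) := fun x hx => by
        obtain ⟨a, ha, b, hb, rfl⟩ := mem_sup_of_normal_left.1 (hHN.ge (hML hx))
        exact mul_mem_sup ha ⟨hb, by simpa using M.mul_mem (M.inv_mem (mem_sup_left ha)) hx⟩
      have he : N ⊔ (H ⊓ M) = M := le_antisymm (sup_le le_sup_left inf_le_right) hcov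
      calc (H ⊓ M).relIndex M = (H ⊓ M).relIndex (N ⊔ (H ⊓ M)) := by rw [he]
        _ ∣ Nat.card N := (hrelN _ hHMpi).dvd
    have hAHM : A ≤ normalizer ((H ⊓ M : Subgroup Y) : Set Y) :=
      (le_inf hAH hAM).trans inf_normalizer_le_normalizer_inf
    obtain ⟨c, hc, hcU⟩ := exists_centralizer_conj_hall hAM (hcopL.coprime_dvd_right (card_dvd_of_le hML))
      (isSolvable_of_le hML hLsol) hHM hAHM hU_hall hAU
    refine ⟨H.map (MulAut.conj c).toMonoidHom, hall_conj_map (le_normalizer (hLG (hML hc.1))) (hup H hH), fun a ha => ?_,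
      hcU.le.trans (map_mono inf_le_left)⟩
    refine mem_normalizer_iff_map_conj_eq.2 ?_
    show (H.map (MulAut.conj c).toMonoidHom).map (MulAut.conj a).toMonoidHom = _
    rw [conj_map_map, mem_centralizer_iff.1 hc.2 a ha, ← conj_map_map,
      conj_map_eq_self_of_mem_normalizer (hAH ha)]

/-- An invariant `π`-subgroup lies in an invariant Hall subgroup. -/
theorem exists_invariant_hall_ge {X : Type u} [Group X] [Finite X] (π : Set ℕ) {A G U : Subgroup X}
    (hAG : A ≤ normalizer (G : Set X)) (hcop : (Nat.card A).Coprime (Nat.card G))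
    (hG : Group.IsSolvable G) (hUG : U ≤ G) (hAU : A ≤ normalizer (U : Set X))
    (hU : ∀ p : ℕ, p.Prime → p ∣ Nat.card U → p ∈ π) :
    ∃ H : Subgroup X, Cfsg.IsPiHallOf π H G ∧ A ≤ normalizer (H : Set X) ∧ U ≤ H :=
  exists_invariant_hall_ge_aux _ π A G U le_rfl hAG hcop hG hUG hAU hU

end CfsgLib.Coprime
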