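import Cfsg.Agent.Lib.Coprime.Abelian
import Cfsg.Agent.Lib.Coprime.Sylow
import Mathlib.GroupTheory.Abelianization.Defs
import Mathlib.GroupTheory.QuotientGroup.Basic

/-!
Generation of a group by centralisers of subgroups of an abelian group acting coprimely on it.
-/

namespace CfsgLib.Coprime

open Subgroup

variable {X : Type*} [Group X]

/-- The action of `A` on the abelianisation of `K`. -/
noncomputable def abConjHom {A K : Subgroup X} (h : A ≤ normalizer (K : Set X)) :
    A →* MulAut (Abelianization K) :=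
  MonoidHom.mk' (fun a => (conjHom h a).abelianizationCongr) fun a b => by
    ext x
    obtain ⟨y, rfl⟩ : ∃ y, Abelianization.of y = x := QuotientGroup.mk_surjective x
    simp [map_mul]

lemma abConjHom_apply {A K : Subgroup X} (h : A ≤ normalizer (K : Set X)) (a : A) (k : K) :
    abConjHom h a (Abelianization.of k) = Abelianization.of (conjHom h a k) := rfl

lemma map_commutator_subtype (K : Subgroup X) :
    (_root_.commutator K).map K.subtype = ⁅K, K⁆ := by
  rw [_root_.commutator_def, map_commutator, ← MonoidHom.range_eq_map, range_subtype]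

lemma le_iSup_centralizer_aux [Finite X] {A K B₀ : Subgroup X} [hA : IsMulCommutative A]
    (hK : Group.IsSolvable K) (hAK : A ≤ normalizer (K : Set X))
    (hcop : (Nat.card A).Coprime (Nat.card K)) (hB : B₀ ≤ A)
    (hB₀K : B₀ ≤ centralizer (K : Set X)) (hnc : ¬ ∃ a ∈ A, B₀ ⊔ zpowers a = A) :
    K ≤ ⨆ B ∈ {B : Subgroup X | B₀ < B ∧ B ≤ A}, K ⊓ centralizer (B : Set X) := by
  classical
  induction hk : Nat.card K using Nat.strong_induction_on generalizing K with
  | _ k ih =>
    set D := ⨆ B ∈ {B : Subgroup X | B₀ < B ∧ B ≤ A}, K ⊓ centralizer (B : Set X)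
    by_cases hb : K = ⊥
    · rw [hb]; exact bot_le
    have hMK : ⁅K, K⁆ < K := commutator_self_lt hK hb
    have hMn : A ≤ normalizer ((⁅K, K⁆ : Subgroup X) : Set X) :=
      hAK.trans (normalizer_le_normalizer_commutator K)
    have hMD : ⁅K, K⁆ ≤ D := by
      refine le_trans (ih _ (hk ▸ lt_of_le_of_ne (card_le_of_le hMK.le)
        fun h => hMK.ne (eq_of_le_of_card_ge hMK.le h.ge)) (isSolvable_of_le hMK.le hK) hMn
        (coprime_of_le hcop le_rfl hMK.le) (hB₀K.trans (centralizer_le hMK.le)) rfl) ?_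
      exact iSup₂_mono fun B _ => inf_le_inf_right _ hMK.le
    let : CommGroup A := { (inferInstance : Group A) with mul_comm := mul_comm' }
    let : Fintype A := Fintype.ofFinite A
    set B₀' := B₀.subgroupOf A
    have hQ : ¬ IsCyclic (A ⧸ B₀') := fun h => hnc <| by
      obtain ⟨g, hg⟩ := h.exists_generator
      obtain ⟨a, rfl⟩ := QuotientGroup.mk'_surjective B₀' g
      refine ⟨a, a.2, le_antisymm (sup_le hB (zpowers_le.2 a.2)) fun x hx => ?_⟩
      obtain ⟨i, hi⟩ := mem_zpowers_iff.1 (hg (QuotientGroup.mk' B₀' ⟨x, hx⟩))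
      rw [← map_zpow] at hi
      have h1 := mem_subgroupOf.1 (QuotientGroup.eq.1 hi)
      have : (x : X) = (((a ^ i)⁻¹ * ⟨x, hx⟩ : A) : X) * (a : X) ^ i := by
        rw [mul_comm (a ^ i)⁻¹]
        simp [mul_assoc]
      rw [this]
      exact mul_mem (mem_sup_left h1) (mem_sup_right (zpow_mem (mem_zpowers _) i))
    obtain ⟨p, E, F, hp, hpd, hF, hFE, hpart⟩ := exists_partition_of_not_isCyclic _ hQ
    let π := QuotientGroup.mk' B₀'
    let 𝔅 : F → Subgroup A := fun B => (B : Subgroup (A ⧸ B₀')).comap π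
    let ρ := abConjHom hAK
    have hρ : ∀ b ∈ B₀', ∀ k' : K, ρ b (Abelianization.of k') = Abelianization.of k' := by
      intro b hb' k'
      rw [abConjHom_apply]
      congr 1
      apply Subtype.ext
      rw [conjHom_apply, show (b : X) * k' = k' * b from
        (mem_centralizer_iff.1 (hB₀K hb') k' k'.2).symm, mul_inv_cancel_right]
    set D' : Subgroup (Abelianization K) := (D.subgroupOf K).map Abelianization.of
    have hfix : ∀ B : Subgroup A, B₀' < B → ∀ w : Abelianization K,
        (∀ b ∈ B, ρ b w = w) → w ∈ D' := by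
      intro B hB' w hw
      obtain ⟨k', rfl⟩ : ∃ y, Abelianization.of y = w := QuotientGroup.mk_surjective w
      set BX := B.map A.subtype
      have hBA : BX ≤ A := map_subtype_le _
      obtain ⟨c, hc, hcm⟩ := exists_centralizer_inv_mul_mem (A := BX) (K := K) (N := ⁅K, K⁆)
        (hBA.trans hMn) hMK.le ((le_normalizer).trans (normalizer_le_normalizer_commutator K))
        (coprime_of_le hcop hBA hMK.le) (.inr (isSolvable_of_le hMK.le hK)) k'.2 (by
          rintro _ ⟨b, hb', rfl⟩
          rw [← map_commutator_subtype]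
          refine ⟨conjHom hAK b k' * k'⁻¹, ?_, rfl⟩
          refine (QuotientGroup.eq_one_iff _).1 ?_
          show Abelianization.of _ = 1
          rw [map_mul, map_inv, ← abConjHom_apply]
          exact mul_inv_eq_one.2 (hw b hb'))
      obtain ⟨hcK, hcB⟩ := mem_inf.1 hc
      have hlt : B₀ < BX := by
        have h2 := (map_lt_map_iff_of_injective (K := B) A.subtype_injective).2 hB'
        rwa [subgroupOf_map_subtype, inf_eq_left.2 hB] at h2
      refine ⟨⟨c, hcK⟩, mem_subgroupOf.2 ?_, ?_⟩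
      · exact le_iSup₂ (f := fun B (_ : B ∈ {B : Subgroup X | B₀ < B ∧ B ≤ A}) =>
          K ⊓ centralizer (B : Set X)) BX ⟨hlt, hBA⟩ (mem_inf.2 ⟨hcK, hcB⟩)
      · symm
        refine QuotientGroup.eq.2 ?_
        rw [← map_commutator_subtype] at hcm
        obtain ⟨y, hy, e⟩ := hcm
        rwa [show k'⁻¹ * ⟨c, hcK⟩ = y from Subtype.ext e.symm]
    have hcard : p * Nat.card B₀' ∣ Nat.card A := by
      rw [← B₀'.card_mul_index, mul_comm]
      exact mul_dvd_mul_left _ hpd
    intro x hx
    set v := Abelianization.of (⟨x, hx⟩ : K) with hvdef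
    have key := pow_eq_prod_normOver ρ (E := E.comap π) (B₀ := B₀') (B := 𝔅) (v := v)
      (fun i => comap_mono (hFE _ i.2).1) (fun i => QuotientGroup.le_comap_mk' _ _)
      (QuotientGroup.le_comap_mk' _ _) (fun a haE ha0 => by
        have hne : π a ≠ 1 := fun e => ha0 ((QuotientGroup.eq_one_iff _).1 e)
        obtain ⟨B, ⟨hBF, haB⟩, huniq⟩ := hpart _ (mem_comap.1 haE) hne
        exact ⟨⟨B, hBF⟩, haB, fun i hi => Subtype.ext (huniq _ ⟨i.2, hi⟩)⟩)
      (fun b hb' => hρ b hb' _)
    have hlt' : ∀ i : F, B₀' < 𝔅 i := fun i => by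
      refine lt_of_le_of_ne (QuotientGroup.le_comap_mk' _ _) fun e => (hFE _ i.2).2 ?_
      rw [← map_comap_eq_self_of_surjective (QuotientGroup.mk'_surjective B₀') i.1]
      show (𝔅 i).map π = ⊥
      rw [← e, QuotientGroup.map_mk'_self]
    have hv : v ^ (p * Nat.card B₀') ∈ D' := by
      rw [Fintype.card_coe, hF, add_mul, one_mul, pow_add, ← mul_assoc] at key
      have key' := mul_right_cancel key
      have h2 : v ^ (p * Nat.card B₀') =
          (normOver ρ (E.comap π) v)⁻¹ * ∏ i, normOver ρ (𝔅 i) v := by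
        rw [key', inv_mul_cancel_left]
      rw [h2]
      refine mul_mem (inv_mem ?_) (prod_mem fun i _ =>
        hfix _ (hlt' i) _ fun b hb' => apply_normOver ρ _ hb' v)
      have i₀ : F := ⟨_, (Finset.card_pos.1 (by omega : 0 < F.card)).choose_spec⟩
      exact hfix _ ((hlt' i₀).trans_le (comap_mono (hFE _ i₀.2).1)) _
        fun b hb' => apply_normOver ρ _ hb' v
    have hv' : v ∈ D' := by
      have hcop' : (p * Nat.card B₀').Coprime (orderOf v) :=
        (hcop.coprime_dvd_left hcard).coprime_dvd_right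
          ((orderOf_map_dvd Abelianization.of (⟨x, hx⟩ : K)).trans (orderOf_dvd_natCard _))
      obtain ⟨i, hi⟩ := exists_pow_eq_self_of_coprime hcop'
      rw [← hi]
      exact pow_mem hv i
    obtain ⟨y, hy, e⟩ := hv'
    have h1 : y⁻¹ * ⟨x, hx⟩ ∈ _root_.commutator K := QuotientGroup.eq.1 e
    have h2 : (y : X)⁻¹ * x ∈ D := hMD (map_commutator_subtype K ▸ ⟨_, h1, rfl⟩)
    simpa using mul_mem (mem_subgroupOf.1 hy) h2

/-- If the abelian group `A` acts coprimely on `K`, trivially on `B₀ ≤ A`, and `A / B₀` is not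
cyclic, then `K` is generated by the `C_K(B)` with `B₀ < B ≤ A`. -/
lemma le_iSup_centralizer [Finite X] {A K B₀ : Subgroup X} [hA : IsMulCommutative A]
    (hAK : A ≤ normalizer (K : Set X))
    (hcop : (Nat.card A).Coprime (Nat.card K)) (hB : B₀ ≤ A)
    (hB₀K : B₀ ≤ centralizer (K : Set X)) (hnc : ¬ ∃ a ∈ A, B₀ ⊔ zpowers a = A) :
    K ≤ ⨆ B ∈ {B : Subgroup X | B₀ < B ∧ B ≤ A}, K ⊓ centralizer (B : Set X) := by
  have hAs : Group.IsSolvable A := Group.isSolvable_of_comm fun a b => mul_comm' a b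
  set D := ⨆ B ∈ {B : Subgroup X | B₀ < B ∧ B ≤ A}, K ⊓ centralizer (B : Set X)
  have key : ∀ (q : ℕ), q.Prime → q ^ (Nat.card K).factorization q ∣ Nat.card ↥(K ⊓ D) := by
    intro q hq
    have := Fact.mk hq
    obtain ⟨P, hP⟩ := exists_invariant_sylow hAK hcop (.inl hAs) q
    set PX := (P : Subgroup K).map K.subtype
    have hPK : PX ≤ K := map_subtype_le _
    have hPs : Group.IsSolvable PX := by
      have := (P.isPGroup'.map K.subtype).isNilpotent
      infer_instance
    have := le_iSup_centralizer_aux hPs hP (coprime_of_le hcop le_rfl hPK) hB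
      (hB₀K.trans (centralizer_le hPK)) hnc
    rw [← P.card_eq_multiplicity, ← card_map_subtype]
    exact card_dvd_of_le (le_inf hPK (this.trans (iSup₂_mono fun B _ => inf_le_inf_right _ hPK)))
  have : K ⊓ D = K := eq_of_le_of_card_ge inf_le_left
    (Nat.le_of_dvd Nat.card_pos (by
      refine (Nat.factorization_le_iff_dvd Nat.card_pos.ne' Nat.card_pos.ne').1 fun q => ?_
      by_cases hq : q.Prime
      · exact (hq.pow_dvd_iff_le_factorization Nat.card_pos.ne').1 (key q hq)
      · simp [Nat.factorization_eq_zero_of_not_prime _ hq]))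
  exact inf_eq_left.1 this

/-- Generation by centralisers of nontrivial elements, `A` abelian non-cyclic. -/
lemma iSup_centralizer_singleton [Finite X] {A K : Subgroup X} [hA : IsMulCommutative A]
    (hnc : ¬ IsCyclic A) (hAK : A ≤ normalizer (K : Set X))
    (hcop : (Nat.card A).Coprime (Nat.card K)) :
    (⨆ a ∈ {a : X | a ∈ A ∧ a ≠ 1}, K ⊓ centralizer {a}) = K := by
  refine le_antisymm (iSup₂_le fun a _ => inf_le_left) ?_
  refine (le_iSup_centralizer hAK hcop bot_le bot_le ?_).trans (iSup₂_le fun B hB => ?_)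
  · rintro ⟨a, -, e⟩
    apply hnc
    rw [← e, bot_sup_eq]
    infer_instance
  · obtain ⟨b, hb, hb1⟩ := B.bot_or_exists_ne_one.resolve_left hB.1.ne'
    refine le_trans ?_ (le_iSup₂ b (show b ∈ {a : X | a ∈ A ∧ a ≠ 1} from ⟨hB.2 hb, hb1⟩))
    exact inf_le_inf_left _ (centralizer_le (Set.singleton_subset_iff.2 hb))

/-- `K` is generated by the `C_K(B)` with `A / B` cyclic. -/
lemma iSup_centralizer_of_cyclic_quotient [Finite X] {A K : Subgroup X} [hA : IsMulCommutative A]
    (hAK : A ≤ normalizer (K : Set X)) (hcop : (Nat.card A).Coprime (Nat.card K)) :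
    (⨆ B ∈ {B : Subgroup X | B ≤ A ∧ ∃ a ∈ A, B ⊔ zpowers a = A},
      K ⊓ centralizer (B : Set X)) = K := by
  set D := ⨆ B ∈ {B : Subgroup X | B ≤ A ∧ ∃ a ∈ A, B ⊔ zpowers a = A},
      K ⊓ centralizer (B : Set X)
  refine le_antisymm (iSup₂_le fun B _ => inf_le_left) ?_
  suffices h : ∀ B₀ : Subgroup X, B₀ ≤ A → K ⊓ centralizer (B₀ : Set X) ≤ D by
    refine le_trans (le_inf le_rfl ?_) (h ⊥ bot_le)
    intro x _
    exact mem_centralizer_iff.2 fun b hb => by simp [(mem_bot (G := X)).1 hb]
  intro B₀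
  induction B₀ using WellFoundedGT.induction with
  | _ B₀ ih =>
    intro hB
    by_cases hc : ∃ a ∈ A, B₀ ⊔ zpowers a = A
    · exact le_iSup₂ (f := fun B (_ : B ∈ {B : Subgroup X | B ≤ A ∧ ∃ a ∈ A, B ⊔ zpowers a = A}) =>
        K ⊓ centralizer (B : Set X)) B₀ ⟨hB, hc⟩
    · have hAB : A ≤ normalizer (B₀ : Set X) := le_normalizer_iff.2 fun a ha b hb => by
        rwa [setLike_mul_comm ha (hB hb), mul_inv_cancel_right]
      refine (le_iSup_centralizer (K := K ⊓ centralizer (B₀ : Set X))
        ?_ (coprime_of_le hcop le_rfl inf_le_left) hB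
        (le_centralizer_iff.1 inf_le_right) hc).trans (iSup₂_le fun B hB' => ?_)
      · intro a ha
        refine mem_normalizer_of_conj_map_le fun k hk => mem_inf.2 ⟨?_, ?_⟩
        · exact le_normalizer_iff.1 hAK a ha k (mem_inf.1 hk).1
        · refine mem_centralizer_iff.2 fun b hb => ?_
          have h1 : a * b = b * a := setLike_mul_comm ha (hB hb)
          have h2 : a⁻¹ * b = b * a⁻¹ := setLike_mul_comm (inv_mem ha) (hB hb)
          have h3 : b * k = k * b := mem_centralizer_iff.1 (mem_inf.1 hk).2 b hb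
          calc b * (a * k * a⁻¹) = a * (b * k) * a⁻¹ := by
                rw [← mul_assoc, ← mul_assoc, ← h1]; simp [mul_assoc]
            _ = a * k * a⁻¹ * b := by rw [h3]; simp [mul_assoc, h2]
      · exact (inf_le_inf_right _ inf_le_left).trans (ih B hB'.1 hB'.2)

end CfsgLib.Coprime
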