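import Cfsg.Agent.Lib.OddOrder.ExtraspecialFixed
import Cfsg.Agent.Lib.OddOrder.FrobeniusFixed
import Cfsg.Agent.Lib.OddOrder.Stabilize
import Cfsg.Agent.Lib.Coprime.Generation
import Cfsg.Agent.Lib.Coprime.Sylow
import Cfsg.Agent.Lib.PGroup.Frattini
import Mathlib

set_option autoImplicit false

/-!
An element `x` of odd prime order acting on a `q`-group `Q` (`q` odd), both acting on an elementary abelian
`ℓ`-group `V` of coprime order with `C_V(x) = 1`: then `[Q, x]` centralises `V`.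
-/

namespace CfsgLib.Coprime.FixedPointFreeOnModule

open Subgroup
open scoped commutatorElement

universe u

theorem mul_pow_of_commute {G : Type*} [Group G] {g h c : G} (e : h * g = c * (g * h))
    (hcg : Commute c g) (hch : Commute c h) (n : ℕ) : (g * h) ^ n = g ^ n * h ^ n * c ^ n.choose 2 := by
  have hswap : ∀ m : ℕ, h ^ m * g = c ^ m * (g * h ^ m) := by
    intro m
    induction m with
    | zero => simp
    | succ m ih =>
      calc h ^ (m + 1) * g = h * (h ^ m * g) := by rw [pow_succ']; group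
        _ = h * (c ^ m * (g * h ^ m)) := by rw [ih]
        _ = c ^ m * (h * g) * h ^ m := by
          rw [← mul_assoc, (hch.pow_left m).symm.eq]; group
        _ = c ^ m * (c * (g * h)) * h ^ m := by rw [e]
        _ = c ^ (m + 1) * (g * h ^ (m + 1)) := by rw [pow_succ, pow_succ']; group
  induction n with
  | zero => simp
  | succ n ih =>
    have hgc : ∀ m : ℕ, Commute (g * h) (c ^ m) := fun m =>
      ((hcg.pow_left m).mul_right (hch.pow_left m)).symm
    calc (g * h) ^ (n + 1) = g ^ n * h ^ n * c ^ n.choose 2 * (g * h) := by rw [pow_succ, ih]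
      _ = g ^ n * h ^ n * (g * h) * c ^ n.choose 2 := by
        rw [mul_assoc (g ^ n * h ^ n), ← (hgc _).eq]; group
      _ = g ^ n * (h ^ n * g) * h * c ^ n.choose 2 := by group
      _ = g ^ n * (c ^ n * (g * h ^ n)) * h * c ^ n.choose 2 := by rw [hswap]
      _ = g ^ n * ((g * h ^ n) * c ^ n) * h * c ^ n.choose 2 := by
        rw [((hcg.mul_right (hch.pow_right n)).pow_left n).eq]
      _ = g ^ n * (g * h ^ n) * (c ^ n * h) * c ^ n.choose 2 := by group
      _ = g ^ (n + 1) * h ^ (n + 1) * c ^ (n + 1).choose 2 := by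
        rw [(hch.pow_left n).eq, pow_succ, pow_succ, Nat.choose_succ_succ, Nat.choose_one_right, pow_add]
        group

theorem mem_normalizer_map_of_char {G : Type*} [Group G] {K : Subgroup G} (C : Subgroup K) [C.Characteristic]
    {x : G} (hx : x ∈ normalizer (K : Set G)) : x ∈ normalizer ((C.map K.subtype : Subgroup G) : Set G) := by
  refine mem_normalizer_iff_map_conj_eq.mpr ?_
  let φ : K ≃* K := K.normalizerMonoidHom ⟨x, hx⟩
  have h1 : ((MulAut.conj x : MulAut G) : G →* G).comp K.subtype = K.subtype.comp φ.toMonoidHom :=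
    MonoidHom.ext fun k => rfl
  rw [map_map, h1, ← map_map, characteristic_iff_map_eq.mp inferInstance φ]

theorem main : ∀ (n : ℕ) (X : Type u) [Group X] [Finite X] (q r ℓ : ℕ) [Fact q.Prime] [Fact r.Prime]
    [Fact ℓ.Prime] (V Q : Subgroup X) (x : X), Nat.card Q + Nat.card V = n → q ≠ 2 → r ≠ 2 → ℓ ≠ q → ℓ ≠ r →
    q ≠ r → Cfsg.IsElementaryAbelian ℓ V → IsPGroup q Q → Q ≤ normalizer (V : Set X) →
    x ∈ normalizer (V : Set X) → x ∈ normalizer (Q : Set X) → x ^ r = 1 →
    V ⊓ centralizer ({x} : Set X) = ⊥ → ⁅Q, zpowers x⁆ ≤ centralizer (V : Set X) := by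
  intro n
  induction n using Nat.strong_induction_on with
  | _ n ih =>
  intro X _ _ q r ℓ hq hr hl V Q x hn hq2 hr2 hlq hlr hqr hV hQ hQV hxV hxQ hxr hVx
  classical
  set R := zpowers x with hR
  by_contra hcon
  haveI : IsMulCommutative V := hV.1
  have hVl : IsPGroup ℓ V := fun v => ⟨1, Subtype.ext (by simpa using hV.2 v v.2)⟩
  have hRr : IsPGroup r R := fun v => ⟨1, Subtype.ext (by
    obtain ⟨i, hi⟩ := mem_zpowers_iff.mp v.2
    rw [SubmonoidClass.coe_pow, pow_one, ← hi, ← zpow_natCast (x ^ i), ← zpow_mul, mul_comm, zpow_mul,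
      zpow_natCast, hxr, one_zpow, Subgroup.coe_one])⟩
  obtain ⟨aQ, haQ⟩ := hQ.exists_card_eq
  obtain ⟨aR, haR⟩ := hRr.exists_card_eq
  obtain ⟨aV, haV⟩ := hVl.exists_card_eq
  have hcRQ : (Nat.card R).Coprime (Nat.card Q) := by
    rw [haR, haQ]; exact ((Nat.coprime_primes hr.out hq.out).mpr hqr.symm).pow _ _
  have hcVQ : (Nat.card V).Coprime (Nat.card Q) := by
    rw [haV, haQ]; exact ((Nat.coprime_primes hl.out hq.out).mpr hlq).pow _ _
  have hcRV : (Nat.card R).Coprime (Nat.card V) := by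
    rw [haR, haV]; exact ((Nat.coprime_primes hr.out hl.out).mpr hlr.symm).pow _ _
  have hRs : Group.IsSolvable R := isSolvable_zpowers x
  have hRQ : R ≤ normalizer (Q : Set X) := zpowers_le.mpr hxQ
  have hRV : R ≤ normalizer (V : Set X) := zpowers_le.mpr hxV
  have hle : ⁅Q, R⁆ ≤ Q := le_normalizer_iff_commutator_le_left.1 hRQ
  -- `Q = [Q, R]`
  have hQR : ⁅Q, R⁆ = Q := by
    by_contra hne
    have hlt : Nat.card (⁅Q, R⁆ : Subgroup X) < Nat.card Q :=
      lt_of_le_of_ne (card_le_of_le hle) fun h => hne (eq_of_le_of_card_ge hle h.ge)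
    have h := ih _ (by omega) X q r ℓ V ⁅Q, R⁆ x rfl hq2 hr2 hlq hlr hqr hV (hQ.to_le hle) (hle.trans hQV) hxV
      (normalizer_commutator_ge_right Q R (mem_zpowers x)) hxr hVx
    rw [← hR, commutator_commutator_self hRQ hcRQ (.inl hRs)] at h
    exact hcon h
  rw [hQR] at hcon
  have hQne : Q ≠ ⊥ := fun h => hcon (h ▸ bot_le)
  -- faithfulness
  have hC : Q ⊓ centralizer (V : Set X) = ⊥ := by
    by_contra hCne
    set C := Q ⊓ centralizer (V : Set X) with hCdef
    have hCN : ∀ g ∈ normalizer (V : Set X), g ∈ normalizer (Q : Set X) → g ∈ normalizer (C : Set X) := by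
      intro g hgV hgQ
      refine mem_normalizer_of_conj_map_le fun k hk => ⟨(mem_normalizer_iff.mp hgQ k).mp hk.1, ?_⟩
      refine mem_centralizer_iff.mpr fun v hv => ?_
      have h1 := mem_centralizer_iff.mp hk.2 (g⁻¹ * v * g) ((mem_normalizer_iff''.mp hgV v).mp hv)
      calc v * (g * k * g⁻¹) = g * ((g⁻¹ * v * g) * k) * g⁻¹ := by group
        _ = g * (k * (g⁻¹ * v * g)) * g⁻¹ := by rw [h1]
        _ = g * k * g⁻¹ * v := by group
    set N := normalizer (C : Set X) with hNdef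
    have hQN : Q ≤ N := fun g hg => hCN g (hQV hg) (le_normalizer hg)
    have hxN : x ∈ N := hCN x hxV hxQ
    have hVN : V ≤ N := fun v hv => centralizer_le_normalizer _
      (mem_centralizer_iff.mpr fun c hc => (mem_centralizer_iff.mp hc.2 v hv).symm)
    have hVC : ∀ v ∈ V, v ∈ C → v = 1 := fun v hv hc => mem_bot.mp
      ((disjoint_of_coprime_natCard hcVQ).le_bot ⟨hv, hc.1⟩)
    let f : N →* N ⧸ C.subgroupOf N := QuotientGroup.mk' _
    set V' := (V.subgroupOf N).map f
    set Q' := (Q.subgroupOf N).map f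
    have hV' : Cfsg.IsElementaryAbelian ℓ V' := by
      haveI := hV.1
      refine ⟨inferInstance, ?_⟩
      rintro _ ⟨v, hv, rfl⟩
      rw [← map_pow, show v ^ ℓ = 1 from Subtype.ext (by simpa using hV.2 v hv), map_one]
    have hQ'q : IsPGroup q Q' := (hQ.of_equiv (subgroupOfEquivOfLe hQN).symm).map f
    have hVle : Nat.card V' ≤ Nat.card V := by
      rw [← Nat.card_congr (subgroupOfEquivOfLe hVN).toEquiv]
      exact Nat.le_of_dvd Nat.card_pos (card_map_dvd _ f)
    have hQlt : Nat.card Q' < Nat.card Q := by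
      rw [← Nat.card_congr (subgroupOfEquivOfLe hQN).toEquiv]
      refine lt_of_le_of_ne (Nat.le_of_dvd Nat.card_pos (card_map_dvd _ f)) fun h => ?_
      obtain ⟨c, hc, hc1⟩ := C.bot_or_exists_ne_one.resolve_left hCne
      have hinj : Function.Injective (f.subgroupMap (Q.subgroupOf N)) :=
        ((Nat.bijective_iff_surjective_and_card _).mpr
          ⟨MonoidHom.subgroupMap_surjective f _, h.symm⟩).1
      have h2 : (⟨⟨c, hQN hc.1⟩, hc.1⟩ : Q.subgroupOf N) = 1 := by
        refine hinj (Subtype.ext ?_)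
        simpa [f] using (show (⟨c, hQN hc.1⟩ : N) ∈ C.subgroupOf N from hc)
      exact hc1 (congrArg (fun t : Q.subgroupOf N => ((t : N) : X)) h2)
    have hnorm : ∀ {H : Subgroup X} {g : X} (hg : g ∈ N), H ≤ N → g ∈ normalizer (H : Set X) →
        f ⟨g, hg⟩ ∈ normalizer (((H.subgroupOf N).map f : Subgroup _) : Set (N ⧸ C.subgroupOf N)) := by
      intro H g hg _ hgH
      refine le_normalizer_map f ⟨⟨g, hg⟩, ?_, rfl⟩
      exact mem_normalizer_iff.mpr fun k => by
        simpa [mem_subgroupOf] using mem_normalizer_iff.mp hgH k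
    have hQ'V : Q' ≤ normalizer (V' : Set (N ⧸ C.subgroupOf N)) := by
      rintro _ ⟨g, hg, rfl⟩
      exact hnorm g.2 hVN (hQV hg)
    have hV'x : V' ⊓ centralizer ({f ⟨x, hxN⟩} : Set (N ⧸ C.subgroupOf N)) = ⊥ := by
      rw [eq_bot_iff]
      rintro _ ⟨⟨v, hv, rfl⟩, hc⟩
      have h1 : f ⁅v, (⟨x, hxN⟩ : N)⁆ = 1 := by
        rw [map_commutatorElement, commutatorElement_eq_one_iff_commute]
        exact mem_centralizer_singleton_iff.mp hc
      have h2 : ⁅(v : X), x⁆ ∈ C := by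
        have := (QuotientGroup.eq_one_iff _).mp h1
        simpa [mem_subgroupOf, commutatorElement_def] using this
      have h3 : ⁅(v : X), x⁆ ∈ V :=
        le_normalizer_iff_commutator_le_left.1 hRV (commutator_mem_commutator hv (mem_zpowers x))
      have h4 : (v : X) ∈ V ⊓ centralizer ({x} : Set X) :=
        ⟨hv, mem_centralizer_singleton_iff.mpr (commutatorElement_eq_one_iff_commute.mp (hVC _ h3 h2)).eq⟩
      rw [hVx, mem_bot] at h4
      rw [show v = 1 from Subtype.ext h4, map_one]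
      exact one_mem _
    have h := ih _ (by omega) _ q r ℓ V' Q' (f ⟨x, hxN⟩) rfl hq2 hr2 hlq hlr hqr hV' hQ'q hQ'V
      (hnorm hxN hVN hxV) (hnorm hxN hQN hxQ)
      (by rw [← map_pow, show (⟨x, hxN⟩ : N) ^ r = 1 from Subtype.ext (by simpa using hxr), map_one]) hV'x
    refine hcon ?_
    rw [← hQR]
    refine commutator_le.mpr fun g hg b hb => mem_centralizer_iff.mpr fun v hv => ?_
    have hbN : b ∈ N := zpowers_le.mpr hxN hb
    have h1 : f ⁅(⟨g, hQN hg⟩ : N), ⟨b, hbN⟩⁆ ∈ centralizer (V' : Set (N ⧸ C.subgroupOf N)) := by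
      refine h ?_
      rw [map_commutatorElement]
      refine commutator_mem_commutator ⟨_, hg, rfl⟩ ?_
      obtain ⟨i, hi⟩ := mem_zpowers_iff.mp hb
      exact mem_zpowers_iff.mpr ⟨i, by rw [← map_zpow]; exact congrArg f (Subtype.ext (by simpa using hi))⟩
    have h2 := mem_centralizer_iff.mp h1 (f ⟨v, hVN hv⟩) ⟨_, hv, rfl⟩
    have h3 : f ⁅(⟨v, hVN hv⟩ : N), ⁅(⟨g, hQN hg⟩ : N), ⟨b, hbN⟩⁆⁆ = 1 := by
      rw [map_commutatorElement, commutatorElement_eq_one_iff_commute]
      exact h2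
    have h4 : ⁅v, ⁅g, b⁆⁆ ∈ C := by
      have := (QuotientGroup.eq_one_iff _).mp h3
      simpa [mem_subgroupOf, commutatorElement_def] using this
    have h5 : ⁅v, ⁅g, b⁆⁆ ∈ V := le_normalizer_iff_commutator_le_left.1
      ((le_normalizer_iff_commutator_le_left.1 hRQ).trans hQV) (commutator_mem_commutator hv
        (commutator_mem_commutator hg hb))
    exact (commutatorElement_eq_one_iff_commute.mp (hVC _ h5 h4)).eq
  -- proper invariant subgroups are fixed
  have hsub : ∀ Q₀ : Subgroup X, Q₀ ≤ Q → Q₀ ≠ Q → x ∈ normalizer (Q₀ : Set X) →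
      Q₀ ≤ centralizer (R : Set X) := by
    intro Q₀ h0 hne hx0
    have hlt : Nat.card Q₀ < Nat.card Q :=
      lt_of_le_of_ne (card_le_of_le h0) fun h => hne (eq_of_le_of_card_ge h0 h.ge)
    have h := ih _ (by omega) X q r ℓ V Q₀ x rfl hq2 hr2 hlq hlr hqr hV (hQ.to_le h0) (h0.trans hQV) hxV hx0
      hxr hVx
    rw [← commutator_eq_bot_iff_le_centralizer, eq_bot_iff, ← hC]
    exact le_inf ((commutator_mono h0 le_rfl).trans hle) h
  have hQc : ∀ Q₀ : Subgroup X, ⁅Q₀, Q⁆ ≤ Q₀ → Q₀ ≤ centralizer (R : Set X) →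
      Q₀ ≤ centralizer (Q : Set X) := by
    intro Q₀ h1 h2
    rw [← commutator_eq_bot_iff_le_centralizer] at h2 ⊢
    rw [commutator_comm, ← hQR]
    refine commutator_commutator_eq_bot_of_rotate ?_ ?_
    · rw [commutator_comm R, h2, commutator_bot_left]
    · rw [eq_bot_iff, ← h2]; exact commutator_mono h1 le_rfl
  set Φ := (frattini Q).map Q.subtype with hΦ
  have hΦQ : Φ ≤ Q := map_subtype_le _
  have hΦne : Φ ≠ Q := by
    intro h
    have h1 : frattini Q = ⊤ := map_injective Q.subtype_injective (by rw [← hΦ, h, ← MonoidHom.range_eq_map,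
      range_subtype])
    have h2 : (⊥ : Subgroup Q) = ⊤ := frattini_nongenerating (by rw [bot_sup_eq, h1])
    exact hQne (subgroupOf_eq_bot.mp (by rw [subgroupOf_self]; exact h2.symm) |> fun t => t.eq_bot_of_self)
  have hΦx : Φ ≤ centralizer (R : Set X) := hsub Φ hΦQ hΦne (mem_normalizer_map_of_char _ hxQ)
  have hcomm : ∀ g ∈ Q, ∀ k ∈ Q, ⁅g, k⁆ ∈ Φ := fun g hg k hk =>
    ⟨_, CfsgLib.PGroup.Frattini.commutatorElement_mem_frattini hQ ⟨g, hg⟩ ⟨k, hk⟩, rfl⟩
  have hpowΦ : ∀ g ∈ Q, g ^ q ∈ Φ := fun g hg =>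
    ⟨_, CfsgLib.PGroup.Frattini.pow_mem_frattini hQ ⟨g, hg⟩, rfl⟩
  have hΦc : Φ ≤ centralizer (Q : Set X) :=
    hQc Φ (commutator_le.mpr fun a ha b hb => hcomm a (hΦQ ha) b hb) hΦx
  have hcQ : ∀ g ∈ Q, ∀ k ∈ Q, ∀ m ∈ Q, Commute ⁅g, k⁆ m := fun g hg k hk m hm =>
    (mem_centralizer_iff.mp (hΦc (hcomm g hg k hk)) m hm).symm
  have hcq : ∀ g ∈ Q, ∀ k ∈ Q, ⁅g, k⁆ ^ q = 1 := by
    intro g hg k hk
    have h1 : g * k * g⁻¹ = k * ⁅g, k⁆ := by
      rw [← (hcQ g hg k hk k hk).eq, commutatorElement_def]; group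
    have h2 := CfsgLib.OddOrder.Stabilize.conj_pow_eq_mul_pow h1 (hcQ g hg k hk g hg).symm q
    rw [← mem_centralizer_iff.mp (hΦc (hpowΦ g hg)) k hk, mul_inv_cancel_right] at h2
    exact left_eq_mul.mp h2
  have hmulpow : ∀ g ∈ Q, ∀ k ∈ Q, (g * k) ^ q = g ^ q * k ^ q := by
    intro g hg k hk
    obtain ⟨m, hm⟩ : q ∣ q.choose 2 :=
      hq.out.dvd_choose_self two_ne_zero (lt_of_le_of_ne hq.out.two_le (Ne.symm hq2))
    rw [mul_pow_of_commute (show k * g = ⁅k, g⁆ * (g * k) by simp only [commutatorElement_def]; group)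
      (hcQ k hk g hg g hg) (hcQ k hk g hg k hk), hm, pow_mul, hcq k hk g hg, one_pow, mul_one]
  let O : Subgroup X :=
    { carrier := {g | g ∈ Q ∧ g ^ q = 1}
      one_mem' := ⟨one_mem _, one_pow _⟩
      mul_mem' := fun {a b} ha hb => ⟨mul_mem ha.1 hb.1, by rw [hmulpow a ha.1 b hb.1, ha.2, hb.2, one_mul]⟩
      inv_mem' := fun {a} ha => ⟨inv_mem ha.1, by rw [inv_pow, ha.2, inv_one]⟩ }
  have hOQ : O = Q := by
    by_contra hne
    have hxO : x ∈ normalizer (O : Set X) := mem_normalizer_iff.mpr fun k => by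
      show (k ∈ Q ∧ k ^ q = 1) ↔ (x * k * x⁻¹ ∈ Q ∧ (x * k * x⁻¹) ^ q = 1)
      rw [conj_pow, conj_eq_one_iff, ← mem_normalizer_iff.mp hxQ k]
    have hOx := hsub O (fun g hg => hg.1) hne hxO
    refine hQne ?_
    rw [← hQR, commutator_eq_bot_iff_le_centralizer, hR]
    intro g hg
    rw [zpowers_eq_closure, centralizer_closure]
    refine mem_centralizer_singleton_iff.mpr ?_
    set c := g⁻¹ * (x * g * x⁻¹) with hc
    have hxg : x * g * x⁻¹ ∈ Q := (mem_normalizer_iff.mp hxQ g).mp hg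
    have hcQ' : c ∈ Q := mul_mem (inv_mem hg) hxg
    have h1 : c ^ q = 1 := by
      rw [hc, hmulpow _ (inv_mem hg) _ hxg, conj_pow,
        mem_centralizer_iff.mp (hΦx (hpowΦ g hg)) x (mem_zpowers x), mul_inv_cancel_right, inv_pow,
        inv_mul_cancel]
    have h2 : Commute x c := mem_centralizer_iff.mp (hOx (show c ∈ O from ⟨hcQ', h1⟩)) x (mem_zpowers x)
    have h3 : c = 1 := CfsgLib.OddOrder.Stabilize.eq_one_of_conj_eq_mul (a := x) (h := g) (by rw [hc]; group) h2
      (Nat.Coprime.coprime_dvd_left (Subgroup.orderOf_dvd_natCard R (mem_zpowers x))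
        (hcRQ.coprime_dvd_right (Subgroup.orderOf_dvd_natCard Q hcQ')))
    rw [hc, inv_mul_eq_one] at h3
    exact (mul_inv_eq_iff_eq_mul.mp h3.symm).symm
  have hexp : ∀ g ∈ Q, g ^ q = 1 := fun g hg => (hOQ.symm.le hg).2
  have hVne : V ≠ ⊥ := by
    intro h
    apply hcon
    rw [h]
    exact fun g _ => mem_centralizer_iff.mpr fun v hv => by rw [mem_bot.mp hv]; simp
  have hnc : ¬ Q ≤ centralizer (V : Set X) := hcon
  by_cases hab : ∀ g ∈ Q, ∀ k ∈ Q, Commute g k
  · haveI : IsMulCommutative Q := ⟨⟨fun a b => Subtype.ext (hab a a.2 b b.2)⟩⟩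
    have hfpf : Q ⊓ centralizer ({x} : Set X) = ⊥ := by
      have h := centralizer_inf_commutator_eq_bot (A := R) (V := Q) hRQ hcRQ
      rw [hQR, inf_right_comm, inf_idem, hR, zpowers_eq_closure, centralizer_closure] at h
      exact h
    exact CfsgLib.OddOrder.FrobeniusFixed.inf_centralizer_ne_bot hV.1 hr.out hxr hxV hQV hxQ hfpf hcVQ hnc hVx
  set Z := Q ⊓ centralizer (Q : Set X) with hZdef
  have hZQ : Z ≤ Q := inf_le_left
  have hZne : Z ≠ Q := fun h => hab fun g hg k hk => mem_centralizer_iff.mp (h.symm.le hk).2 g hg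
  have hΦZ : Φ ≤ Z := le_inf hΦQ hΦc
  have hxZ : x ∈ normalizer (Z : Set X) := by
    refine mem_normalizer_of_conj_map_le fun k hk => ⟨(mem_normalizer_iff.mp hxQ k).mp hk.1, ?_⟩
    refine mem_centralizer_iff.mpr fun g hg => ?_
    have h1 := mem_centralizer_iff.mp hk.2 (x⁻¹ * g * x) ((mem_normalizer_iff''.mp hxQ g).mp hg)
    calc g * (x * k * x⁻¹) = x * ((x⁻¹ * g * x) * k) * x⁻¹ := by group
      _ = x * (k * (x⁻¹ * g * x)) * x⁻¹ := by rw [h1]
      _ = x * k * x⁻¹ * g := by group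
  have hZx : Z ≤ centralizer (R : Set X) := hsub Z hZQ hZne hxZ
  have hzfpf : ∀ z ∈ Z, z ≠ 1 → V ⊓ centralizer ({z} : Set X) = ⊥ := by
    intro z hz hz1
    by_contra hW
    haveI := hV.1
    set A := zpowers z with hA
    have hAQ : A ≤ Q := zpowers_le.mpr hz.1
    have hcent : V ⊓ centralizer ({z} : Set X) = V ⊓ centralizer (A : Set X) := by
      rw [hA, zpowers_eq_closure, centralizer_closure]
    have hAV := hAQ.trans hQV
    have hcop : (Nat.card A).Coprime (Nat.card V) :=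
      Nat.Coprime.coprime_dvd_left (card_dvd_of_le hAQ) hcVQ.symm
    have hsup := commutator_sup_centralizer hAV hcop (.inl (isSolvable_zpowers z))
    have hdis := centralizer_inf_commutator_eq_bot hAV hcop
    have hfix : ∀ g, Commute g z → g ∈ normalizer (A : Set X) ∧ g ∈ normalizer (centralizer (A : Set X) : Set X) := by
      intro g hg
      have h1 : g ∈ centralizer (A : Set X) := by
        rw [hA, zpowers_eq_closure, centralizer_closure]
        exact mem_centralizer_singleton_iff.mpr hg.eq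
      exact ⟨centralizer_le_normalizer _ h1, le_normalizer h1⟩
    have hQz : ∀ g ∈ Q, Commute g z := fun g hg => mem_centralizer_iff.mp hz.2 g hg
    have hxz : Commute x z := mem_centralizer_iff.mp (hZx hz) x (mem_zpowers x)
    have hpiece : ∀ W : Subgroup X, W ≤ V → W ≠ V →
        (∀ g, g ∈ normalizer (V : Set X) → Commute g z → g ∈ normalizer (W : Set X)) →
        Q ≤ centralizer (W : Set X) := by
      intro W hWV hWne hWn
      have hlt : Nat.card W < Nat.card V :=
        lt_of_le_of_ne (card_le_of_le hWV) fun h => hWne (eq_of_le_of_card_ge hWV h.ge)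
      have hWe : Cfsg.IsElementaryAbelian ℓ W :=
        ⟨⟨⟨fun a b => Subtype.ext (congrArg (fun t : V => (t : X)) (hV.1.1.comm ⟨a, hWV a.2⟩ ⟨b, hWV b.2⟩) :)⟩⟩,
          fun w hw => hV.2 w (hWV hw)⟩
      have h := ih _ (by omega) X q r ℓ W Q x rfl hq2 hr2 hlq hlr hqr hWe hQ
        (fun g hg => hWn g (hQV hg) (hQz g hg)) (hWn x hxV hxz) hxQ hxr
        (eq_bot_iff.mpr (hVx ▸ inf_le_inf_right _ hWV))
      rwa [← hR, hQR] at h
    have hW1 : V ⊓ centralizer (A : Set X) ≠ V := by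
      intro h
      have h1 : z ∈ Q ⊓ centralizer (V : Set X) :=
        ⟨hz.1, mem_centralizer_iff.mpr fun v hv =>
          (mem_centralizer_iff.mp (h.symm.le hv).2 z (mem_zpowers z)).symm⟩
      rw [hC, mem_bot] at h1
      exact hz1 h1
    have hU1 : ⁅V, A⁆ ≠ V := by
      intro h
      rw [h, inf_eq_left.mpr inf_le_left, ← hcent] at hdis
      exact hW hdis
    have hQW := hpiece _ inf_le_left hW1 fun g hgV hg => by
      obtain ⟨-, h2⟩ := hfix g hg
      exact mem_normalizer_iff.mpr fun k => and_congr (mem_normalizer_iff.mp hgV k) (mem_normalizer_iff.mp h2 k)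
    have hQU := hpiece _ (le_normalizer_iff_commutator_le_left.1 hAV) hU1 fun g hgV hg => by
      obtain ⟨h1, -⟩ := hfix g hg
      rw [mem_normalizer_iff_map_conj_eq, map_commutator, mem_normalizer_iff_map_conj_eq.mp hgV,
        mem_normalizer_iff_map_conj_eq.mp h1]
    refine hcon ?_
    rw [le_centralizer_iff, ← hsup]
    exact sup_le (le_centralizer_iff.mp hQU) (le_centralizer_iff.mp hQW)
  haveI hZc : IsMulCommutative Z :=
    ⟨⟨fun a b => Subtype.ext (mem_centralizer_iff.mp b.2.2 a a.2.1)⟩⟩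
  have hcyc : IsCyclic Z := by
    by_contra hnc'
    refine hVne (le_bot_iff.mp ?_)
    rw [← iSup_centralizer_singleton hnc' (hZQ.trans hQV)
      (Nat.Coprime.coprime_dvd_left (card_dvd_of_le hZQ) hcVQ.symm)]
    exact iSup₂_le fun a ha => (hzfpf a ha.1 ha.2).le
  obtain ⟨⟨z, hz⟩, hgen⟩ := hcyc.exists_generator
  have hZz : Z = zpowers z := by
    refine le_antisymm (fun k hk => ?_) (zpowers_le.mpr hz)
    obtain ⟨i, hi⟩ := mem_zpowers_iff.mp (hgen ⟨k, hk⟩)
    exact mem_zpowers_iff.mpr ⟨i, by simpa using congrArg Subtype.val hi⟩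
  have hz1 : z ≠ 1 := by
    intro h
    refine hab fun g hg k hk => commutatorElement_eq_one_iff_commute.mp ?_
    have h1 := hΦZ (hcomm g hg k hk)
    rw [hZz, h, zpowers_one_eq_bot, mem_bot] at h1
    exact h1
  refine CfsgLib.OddOrder.ExtraspecialFixed.false_of_group (p := ℓ) (q := q) (r := r) (z := z) (x := x) hq2 hr2
    hlq hlr hV hVne hQV hxV hQ hz.1 (hexp z hz.1) ?_ (fun k hk => mem_centralizer_iff.mp hz.2 k hk) ?_ ?_ hxr hxQ
    (mem_centralizer_iff.mp (hZx hz) x (mem_zpowers x)) ?_ (hzfpf z hz hz1) hVx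
  · exact hZz ▸ commutator_le.mpr fun g hg k hk => hΦZ (hcomm g hg k hk)
  · exact fun k hk h => hZz ▸ ⟨hk, mem_centralizer_iff.mpr fun g hg => h g hg⟩
  · exact fun h => hZne (le_antisymm hZQ (hZz ▸ h))
  · intro k hk hxk
    rw [← hZz] at hxk ⊢
    have hxk1 : Commute x k := commute_of_stabilizes
      (Nat.Coprime.coprime_dvd_left (Subgroup.orderOf_dvd_natCard R (mem_zpowers x))
        (hcRQ.coprime_dvd_right (card_dvd_of_le hZQ)))
      (mem_centralizer_iff.mpr fun c hc => (mem_centralizer_iff.mp (hZx hc) x (mem_zpowers x)).symm) hxk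
    set N := Z ⊔ zpowers k with hN
    have hNQ : N ≤ Q := sup_le hZQ (zpowers_le.mpr hk)
    have hNx : N ≤ centralizer (R : Set X) := sup_le hZx (zpowers_le.mpr (by
      rw [hR, zpowers_eq_closure, centralizer_closure]
      exact mem_centralizer_singleton_iff.mpr hxk1.symm.eq))
    have h1 := hQc N (commutator_le.mpr fun a ha b hb => mem_sup_left (hΦZ (hcomm a (hNQ ha) b hb))) hNx
    exact ⟨hk, h1 (mem_sup_right (mem_zpowers k))⟩

end CfsgLib.Coprime.FixedPointFreeOnModule
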