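import Cfsg.Agent.Lib.Coprime.AnisotropicSquares
import Cfsg.Agent.Lib.Coprime.FixedPointFreeOnModule
import Cfsg.Agent.Lib.Solvable.Cores
import Cfsg.Agent.Lib.PGroup.Frattini
import Mathlib.GroupTheory.SchurZassenhaus
import Mathlib.GroupTheory.FiniteAbelian.Basic

/-!
Thompson: in a finite soluble group with more than one involution in which all involutions are
conjugate, the 2-elements lie in `O_{2',2}`.
-/

set_option autoImplicit false

namespace CfsgLib.Coprime.OneClassInvolutions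

open Subgroup CfsgLib.Solvable
open scoped commutatorElement

universe u

/-- One class of involutions, more than one of them. -/
def OneClass (G : Type*) [Group G] : Prop :=
  (∀ x y : G, x ≠ 1 → x ^ 2 = 1 → y ≠ 1 → y ^ 2 = 1 → IsConj x y) ∧
    ∃ x y : G, x ≠ y ∧ x ≠ 1 ∧ x ^ 2 = 1 ∧ y ≠ 1 ∧ y ^ 2 = 1 ∧ Commute x y

variable {G : Type u} [Group G] [Finite G]

theorem exists_sq_mem {V : Subgroup G} {e : G} {i : ℕ} (he : e ^ 2 ^ i = 1) (heV : e ∉ V) :
    ∃ j, e ^ 2 ^ j ∉ V ∧ (e ^ 2 ^ j) ^ 2 ∈ V := by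
  classical
  have hex : ∃ i, e ^ 2 ^ i ∈ V := ⟨i, by rw [he]; exact one_mem V⟩
  obtain ⟨j, hj⟩ : ∃ j, Nat.find hex = j + 1 := Nat.exists_eq_succ_of_ne_zero fun h => heV (by
    have := Nat.find_spec hex
    rwa [h, pow_zero, pow_one] at this)
  refine ⟨j, Nat.find_min hex (by omega), ?_⟩
  rw [← pow_mul, ← pow_succ, ← hj]
  exact Nat.find_spec hex

theorem eq_one_of_pow_two_pow {H : Subgroup G} (hH : Odd (Nat.card H)) {x : G} (hx : x ∈ H)
    {i : ℕ} (he : x ^ 2 ^ i = 1) : x = 1 :=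
  orderOf_eq_one_iff.1 (Nat.eq_one_of_dvd_coprimes
    (Nat.Coprime.pow_left i (Nat.coprime_two_left.2 hH)) (orderOf_dvd_of_pow_eq_one he)
    (Subgroup.orderOf_dvd_natCard H hx))

theorem quotient_oneClass (U : Subgroup G) [U.Normal] (hU : Odd (Nat.card U)) (h : OneClass G) :
    OneClass (G ⧸ U) := by
  obtain ⟨hc, x, y, hxy, hx1, hx2, hy1, hy2, hcom⟩ := h
  have lift : ∀ a : G ⧸ U, a ≠ 1 → a ^ 2 = 1 → ∃ b : G, b ≠ 1 ∧ b ^ 2 = 1 ∧ (b : G ⧸ U) = a := by
    intro a ha ha2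
    obtain ⟨g, rfl⟩ := QuotientGroup.mk_surjective a
    have hg : g ^ 2 ∈ U := (QuotientGroup.eq_one_iff _).1 ha2
    have e : ((g ^ Nat.card U : G) : G ⧸ U) = g := by
      obtain ⟨k, hk⟩ := hU
      rw [QuotientGroup.mk_pow, hk, pow_succ, pow_mul, ha2, one_pow, one_mul]
    refine ⟨g ^ Nat.card U, fun h0 => ha (by rw [← e, h0]; rfl), ?_, e⟩
    rw [← pow_mul, mul_comm, pow_mul]
    exact orderOf_dvd_iff_pow_eq_one.1 (Subgroup.orderOf_dvd_natCard U hg)
  have inj : ∀ z : G, z ^ 2 = 1 → (z : G ⧸ U) = 1 → z = 1 := fun z hz e =>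
    eq_one_of_pow_two_pow hU ((QuotientGroup.eq_one_iff _).1 e) (i := 1) (by simpa using hz)
  refine ⟨fun a b ha ha2 hb hb2 => ?_, (x : G ⧸ U), y, fun e => hxy ?_,
    fun e => hx1 (inj x hx2 e), by rw [← QuotientGroup.mk_pow, hx2]; rfl,
    fun e => hy1 (inj y hy2 e), by rw [← QuotientGroup.mk_pow, hy2]; rfl, ?_⟩
  · obtain ⟨a', ha', ha'2, rfl⟩ := lift a ha ha2
    obtain ⟨b', hb', hb'2, rfl⟩ := lift b hb hb2
    exact MonoidHom.map_isConj (QuotientGroup.mk' U) (hc a' b' ha' ha'2 hb' hb'2)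
  · have h1 := inj (x * y) (by rw [hcom.mul_pow, hx2, hy2, one_mul]) (by
      rw [QuotientGroup.mk_mul, e, ← pow_two, ← QuotientGroup.mk_pow, hy2]; rfl)
    calc x = x * y * y⁻¹ := by group
      _ = y⁻¹ := by rw [h1, one_mul]
      _ = y := inv_eq_of_mul_eq_one_right (by rwa [pow_two] at hy2)
  · exact (hcom.map (QuotientGroup.mk' U))

/-- Involutions are central in `O_2`. -/
theorem inv_mem_center [Group.IsSolvable G] (hO : Cfsg.pPrimeCore 2 G = ⊥) (h : OneClass G)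
    {x : G} (hx : x ^ 2 = 1) :
    x ∈ Cfsg.pCore 2 G ∧ ∀ q ∈ Cfsg.pCore 2 G, Commute x q := by
  haveI := Fact.mk Nat.prime_two
  obtain ⟨hc, x₀, -, -, hx₀1, -⟩ := h
  haveI : Nontrivial G := ⟨⟨x₀, 1, hx₀1⟩⟩
  set Q := Cfsg.pCore 2 G with hQ
  have hQne : Q ≠ ⊥ := by
    rw [hQ, ← Cores.fittingSubgroup_eq_pCore 2 hO]; exact Cores.fittingSubgroup_ne_bot
  haveI : Nontrivial Q := (Subgroup.nontrivial_iff_ne_bot Q).2 hQne
  haveI := (Cores.isPGroup_pCore (G := G) 2).center_nontrivial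
  obtain ⟨k, hk⟩ : 2 ∣ Nat.card (center Q) := by
    obtain ⟨i, hi⟩ := (IsPGroup.iff_card (p := 2)).1
      ((Cores.isPGroup_pCore (G := G) 2).to_subgroup (center Q))
    rw [hi]
    refine dvd_pow_self 2 fun e => ?_
    rw [e, pow_zero] at hi
    exact absurd hi (Finite.one_lt_card (α := center Q)).ne'
  obtain ⟨z, hz⟩ := exists_prime_orderOf_dvd_card' (G := center Q) 2 ⟨k, hk⟩
  set g : G := ((z : Q) : G) with hg
  have hg1 : g ≠ 1 := fun e => by
    have : z = 1 := Subtype.ext (Subtype.ext e)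
    rw [this, orderOf_one] at hz
    omega
  have hg2 : g ^ 2 = 1 := by
    have := pow_orderOf_eq_one z
    rw [hz] at this
    exact congrArg (fun w : center Q => ((w : Q) : G)) this
  by_cases hx1 : x = 1
  · subst hx1; exact ⟨one_mem _, fun q _ => Commute.one_left q⟩
  obtain ⟨c, hc'⟩ := isConj_iff.1 (hc g x hg1 hg2 hx1 hx)
  refine ⟨hc' ▸ (inferInstance : Q.Normal).conj_mem g (z : Q).2 c, fun q hq => ?_⟩
  have hq' : c⁻¹ * q * c⁻¹⁻¹ ∈ Q := (inferInstance : Q.Normal).conj_mem q hq _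
  have e : Commute (c⁻¹ * q * c⁻¹⁻¹) g :=
    congrArg Subtype.val (Subgroup.mem_center_iff.1 z.2 ⟨_, hq'⟩)
  show x * q = q * x
  rw [← hc']
  calc c * g * c⁻¹ * q = c * (g * (c⁻¹ * q * c⁻¹⁻¹)) * c⁻¹ := by group
    _ = c * ((c⁻¹ * q * c⁻¹⁻¹) * g) * c⁻¹ := by rw [e.eq]
    _ = q * (c * g * c⁻¹) := by group

theorem pPrimeCore_quotient_self : Cfsg.pPrimeCore 2 (G ⧸ Cfsg.pPrimeCore 2 G) = ⊥ := by
  set U := Cfsg.pPrimeCore 2 G with hU
  set f := QuotientGroup.mk' U
  set K := Cfsg.pPrimeCore 2 (G ⧸ U) with hK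
  have hUM : U ≤ K.comap f := fun x hx => by
    show f x ∈ K
    rw [show f x = 1 from (QuotientGroup.eq_one_iff x).2 hx]
    exact one_mem _
  have hrel : U.relIndex (K.comap f) = Nat.card K := by
    rw [show U.relIndex (K.comap f) = ((⊥ : Subgroup (G ⧸ U)).comap f).relIndex (K.comap f) by
      rw [MonoidHom.comap_bot, QuotientGroup.ker_mk'], relIndex_comap,
      map_comap_eq_self_of_surjective (QuotientGroup.mk'_surjective U), relIndex_bot_left]
  have hle : K.comap f ≤ U := by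
    refine Cores.le_pPrimeCore ?_
    rw [← relIndex_bot_left (K.comap f), ← relIndex_mul_relIndex ⊥ U _ bot_le hUM,
      relIndex_bot_left, hrel]
    exact (Cores.coprime_card_pPrimeCore 2).mul_left (Cores.coprime_card_pPrimeCore 2)
  rw [eq_bot_iff, ← map_comap_eq_self_of_surjective (QuotientGroup.mk'_surjective U) K]
  exact (Subgroup.map_mono hle).trans (le_of_eq (QuotientGroup.map_mk'_self U))

theorem pCore_quotient_self : Cfsg.pCore 2 (G ⧸ Cfsg.pCore 2 G) = ⊥ := by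
  set Q := Cfsg.pCore 2 G with hQ
  set f := QuotientGroup.mk' Q
  have hle : (Cfsg.pCore 2 (G ⧸ Q)).comap f ≤ Q :=
    Cores.le_pCore ((Cores.isPGroup_pCore 2).comap_of_ker_isPGroup f (by
      rw [QuotientGroup.ker_mk']; exact Cores.isPGroup_pCore 2))
  rw [eq_bot_iff, ← map_comap_eq_self_of_surjective (QuotientGroup.mk'_surjective Q)
    (Cfsg.pCore 2 (G ⧸ Q))]
  exact (Subgroup.map_mono hle).trans (le_of_eq (QuotientGroup.map_mk'_self Q))

theorem le_normalizer_centralizer {N R : Subgroup G} (h : N ≤ normalizer (R : Set G)) :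
    N ≤ normalizer (centralizer (R : Set G) : Set G) := by
  refine le_normalizer_iff.2 fun n hn c hc => mem_centralizer_iff.2 fun r hr => ?_
  have hr' := le_normalizer_iff.1 h n⁻¹ (inv_mem hn) r hr
  have e := mem_centralizer_iff.1 hc _ hr'
  calc r * (n * c * n⁻¹) = n * ((n⁻¹ * r * n⁻¹⁻¹) * c) * n⁻¹ := by group
    _ = n * (c * (n⁻¹ * r * n⁻¹⁻¹)) * n⁻¹ := by rw [e]
    _ = n * c * n⁻¹ * r := by group

theorem le_normalizer_commutator {N A B : Subgroup G} (hA : N ≤ normalizer (A : Set G))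
    (hB : N ≤ normalizer (B : Set G)) : N ≤ normalizer ((⁅A, B⁆ : Subgroup G) : Set G) := fun n hn =>
  mem_normalizer_of_conj_map_le (conj_map_le_iff.1 (by
    rw [map_commutator, conj_map_eq_self_of_mem_normalizer (hA hn),
      conj_map_eq_self_of_mem_normalizer (hB hn)]))

/-- The section `D`. -/
theorem exists_section [Group.IsSolvable G] {Q V R N : Subgroup G} (hQ : IsPGroup 2 Q)
    (hV : ∀ x : G, x ∈ V ↔ x ^ 2 = 1) (hVR : V ≤ centralizer (R : Set G)) (hVQ : V ≤ Q)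
    (hVC : ∀ v ∈ V, ∀ q ∈ Q, Commute v q) [V.Normal] (hV4 : 4 ≤ Nat.card V)
    (hodd : Odd (Nat.card R)) (hRN : R ≤ N) (hNQ : N ≤ normalizer (Q : Set G))
    (hNR : N ≤ normalizer (R : Set G))
    (htrans : ∀ u ∈ V, u ≠ 1 → ∀ v ∈ V, v ≠ 1 → ∃ n ∈ N, n * u * n⁻¹ = v)
    (hfaith : ¬ R ≤ centralizer (Q : Set G)) :
    ∃ D ≤ Q, AnisotropicSquares.Sys V D R N ∧ ∃ y ∈ R, ∃ d ∈ D, ¬ Commute y d := by
  classical
  haveI := Fact.mk Nat.prime_two
  obtain ⟨D, hDle, ⟨hDQ, hND, hDR⟩, hmin⟩ :=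
    (Set.toFinite {D : Subgroup G | D ≤ Q ∧ N ≤ normalizer (D : Set G) ∧
      ¬ R ≤ centralizer (D : Set G)}).exists_le_minimal (a := Q) ⟨le_rfl, hNQ, hfaith⟩
  have hsub : ∀ X ≤ D, N ≤ normalizer (X : Set G) → X ≠ D → X ≤ centralizer (R : Set G) := by
    intro X hXD hNX hne
    by_contra h
    exact hne (le_antisymm hXD (hmin ⟨hXD.trans hDQ, hNX, fun h' => h (le_centralizer_iff.1 h')⟩ hXD))
  have hDp : IsPGroup 2 D := hQ.to_le hDQ
  have hRD : R ≤ normalizer (D : Set G) := hRN.trans hND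
  have hcop : (Nat.card R).Coprime (Nat.card D) := by
    obtain ⟨m, hm⟩ := (IsPGroup.iff_card (p := 2)).1 hDp
    rw [hm]
    exact Nat.Coprime.pow_right m (Nat.coprime_two_right.2 hodd)
  have hDne : D ≠ ⊥ := by
    rintro rfl
    exact hDR (le_centralizer_iff.1 bot_le)
  have hDDR : ⁅D, R⁆ = D := by
    have hle : ⁅D, R⁆ ≤ D := le_normalizer_iff_commutator_le_left.1 hRD
    by_contra hne
    have h1 := hsub _ hle (le_normalizer_commutator hND hNR) hne
    rw [← commutator_eq_bot_iff_le_centralizer] at h1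
    have h2 := commutator_eq_bot_of_commutator_commutator (coprime_of_le hcop le_rfl hle) h1
    exact hDR (le_centralizer_iff.1 (commutator_eq_bot_iff_le_centralizer.1 h2))
  set C₀ := D ⊓ centralizer (R : Set G) with hC₀
  have hrot : ∀ X ≤ centralizer (R : Set G), ⁅X, D⁆ ≤ centralizer (R : Set G) → ⁅D, X⁆ = ⊥ := by
    intro X hX hXD
    have h1 : ⁅R, X⁆ = ⊥ := by rw [commutator_comm]; exact commutator_eq_bot_iff_le_centralizer.2 hX
    have h := commutator_commutator_eq_bot_of_rotate (H₁ := D) (H₂ := R) (H₃ := X)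
      (by rw [h1, commutator_bot_left]) (commutator_eq_bot_iff_le_centralizer.2 hXD)
    rwa [hDDR] at h
  have hder : ⁅D, D⁆ < D := by
    haveI := hDp.isNilpotent
    exact commutator_self_lt inferInstance hDne
  have hderR : ⁅D, D⁆ ≤ centralizer (R : Set G) :=
    hsub _ hder.le (le_normalizer_commutator hND hND) hder.ne
  have hder0 : ⁅D, ⁅D, D⁆⁆ = ⊥ :=
    hrot _ hderR ((commutator_mono (hder.le) le_rfl).trans hderR)
  have hC0cent : ⁅D, C₀⁆ = ⊥ :=
    hrot _ inf_le_right ((commutator_mono inf_le_left le_rfl).trans hderR)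
  have hcomm0 : ∀ c ∈ C₀, ∀ d ∈ D, Commute d c := fun c hc d hd =>
    commutatorElement_eq_one_iff_commute.1
      (Subgroup.mem_bot.1 (hC0cent ▸ commutator_mem_commutator hd hc))
  have hsq0 : ∀ d ∈ D, d ^ 2 ∈ C₀ := by
    set Φ := (frattini D).map D.subtype with hΦ
    have hΦD : Φ ≤ D := map_subtype_le _
    have hne : Φ ≠ D := fun e => by
      have h1 : frattini D = ⊤ := by
        apply map_injective D.subtype_injective
        rw [← MonoidHom.range_eq_map, range_subtype]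
        exact e
      have h2 := frattini_nongenerating (K := (⊥ : Subgroup D)) (by rw [h1, sup_top_eq])
      haveI : Nontrivial D := (Subgroup.nontrivial_iff_ne_bot D).2 hDne
      exact bot_ne_top h2
    have hNΦ : N ≤ normalizer (Φ : Set G) := fun n hn =>
      FixedPointFreeOnModule.mem_normalizer_map_of_char (frattini D) (hND hn)
    intro d hd
    have h1 : d ^ 2 ∈ Φ := ⟨⟨d, hd⟩ ^ 2, PGroup.Frattini.pow_mem_frattini hDp ⟨d, hd⟩, rfl⟩
    exact mem_inf.2 ⟨hΦD h1, hsub Φ hΦD hNΦ hne h1⟩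
  have hderV : ⁅D, D⁆ ≤ V := by
    refine commutator_le.2 fun x hx y hy => (hV _).2 ?_
    have hz := Subgroup.mem_bot.1 (hder0 ▸ commutator_mem_commutator hx
      (commutator_mem_commutator hx hy) : ⁅x, ⁅x, y⁆⁆ ∈ (⊥ : Subgroup G))
    have hz' : Commute x ⁅x, y⁆ := commutatorElement_eq_one_iff_commute.1 hz
    have e : ⁅x ^ 2, y⁆ = x * ⁅x, y⁆ * x⁻¹ * ⁅x, y⁆ := by
      simp only [commutatorElement_def, pow_two]; group
    rw [hz'.eq, mul_inv_cancel_right,
      commutatorElement_eq_one_iff_commute.2 (hcomm0 _ (hsq0 x hx) y hy).symm] at e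
    rw [pow_two]; exact e.symm
  have hVD : V ≤ D := by
    haveI : Nontrivial D := (Subgroup.nontrivial_iff_ne_bot D).2 hDne
    obtain ⟨i, hi⟩ := (IsPGroup.iff_card (p := 2)).1 hDp
    have h2 : 2 ∣ Nat.card D := by
      rw [hi]
      refine dvd_pow_self 2 fun e => ?_
      rw [e, pow_zero] at hi
      have h1 := Finite.one_lt_card (α := D)
      omega
    obtain ⟨z, hz⟩ := exists_prime_orderOf_dvd_card' (G := D) 2 h2
    have hz2 : (z : G) ^ 2 = 1 := by
      have := pow_orderOf_eq_one z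
      rw [hz] at this
      exact congrArg Subtype.val this
    have hz1 : (z : G) ≠ 1 := fun e => by
      rw [show z = 1 from Subtype.ext e, orderOf_one] at hz; omega
    intro v hv
    by_cases hv1 : v = 1
    · subst hv1; exact one_mem D
    obtain ⟨n, hn, e⟩ := htrans z ((hV _).2 hz2) hz1 v hv hv1
    exact e ▸ le_normalizer_iff.1 hND n hn _ z.2
  have hsq : ∀ d ∈ D, d ^ 2 ∈ V := by
    let S : Subgroup G := {
      carrier := {d | d ∈ D ∧ d ^ 2 ∈ V}
      one_mem' := ⟨one_mem D, by rw [one_pow]; exact one_mem V⟩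
      mul_mem' := fun {x y} hx hy => ⟨mul_mem hx.1 hy.1, by
        have hc : Commute x ⁅y, x⁆ := (hVC _ (hderV (commutator_mem_commutator hy.1 hx.1))
          x (hDQ hx.1)).symm
        have e : (x * y) ^ 2 = ⁅y, x⁆ * (x ^ 2 * y ^ 2) := by
          calc (x * y) ^ 2 = x * ⁅y, x⁆ * (x * y * y) := by
                simp only [commutatorElement_def, pow_two]; group
            _ = ⁅y, x⁆ * x * (x * y * y) := by rw [hc.eq]
            _ = _ := by simp only [pow_two]; group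
        rw [e]
        exact mul_mem (hderV (commutator_mem_commutator hy.1 hx.1)) (mul_mem hx.2 hy.2)⟩
      inv_mem' := fun {x} hx => ⟨inv_mem hx.1, by rw [inv_pow]; exact inv_mem hx.2⟩ }
    have hle : D ≤ S := by
      conv_lhs => rw [← hDDR]
      refine commutator_le.2 fun d hd r hr => ⟨?_, ?_⟩
      · rw [← hDDR]; exact commutator_mem_commutator hd hr
      · set y := r * d⁻¹ * r⁻¹ with hy
        have hyD : y ∈ D := le_normalizer_iff.1 hRD r hr _ (inv_mem hd)
        have e : ⁅d, r⁆ = d * y := by rw [commutatorElement_def, hy]; group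
        have hc : Commute d ⁅y, d⁆ := (hVC _ (hderV (commutator_mem_commutator hyD hd))
          d (hDQ hd)).symm
        have e2 : y ^ 2 = (d ^ 2)⁻¹ := by
          have h3 := mem_centralizer_iff.1 (inv_mem (mem_inf.1 (hsq0 d hd)).2) r hr
          rw [hy, conj_pow, inv_pow, h3, mul_inv_cancel_right]
        have e3 : ⁅d, r⁆ ^ 2 = ⁅y, d⁆ := by
          calc ⁅d, r⁆ ^ 2 = d * ⁅y, d⁆ * (d * y * y) := by
                rw [e]; simp only [commutatorElement_def, pow_two]; group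
            _ = ⁅y, d⁆ * d * (d * y * y) := by rw [hc.eq]
            _ = ⁅y, d⁆ * (d ^ 2 * y ^ 2) := by simp only [pow_two]; group
            _ = ⁅y, d⁆ := by rw [e2, mul_inv_cancel, mul_one]
        rw [e3]
        exact hderV (commutator_mem_commutator hyD hd)
    exact fun d hd => (hle hd).2
  have hfixed : C₀ ≤ V := by
    haveI := Fintype.ofFinite G
    set f := QuotientGroup.mk' V with hf
    set A := D.map f with hA
    letI : CommGroup A := { (inferInstance : Group A) with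
      mul_comm := by
        rintro ⟨_, x, hx, rfl⟩ ⟨_, y, hy, rfl⟩
        refine Subtype.ext ?_
        show f x * f y = f y * f x
        rw [← commutatorElement_eq_one_iff_mul_comm, ← map_commutatorElement]
        exact (QuotientGroup.eq_one_iff _).2 (hderV (commutator_mem_commutator hx hy)) }
    let ψ : R → D →* A := fun r => MonoidHom.mk'
      (fun d => ⟨f (r * d * (r : G)⁻¹), mem_map_of_mem f (le_normalizer_iff.1 hRD r r.2 d d.2)⟩)
      fun a b => Subtype.ext (by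
        show f _ = f _ * f _
        rw [← map_mul]; congr 1; simp [mul_assoc])
    let π : D →* A := MonoidHom.mk' (fun d => ∏ r : R, ψ r d) fun a b => by
      simp only [map_mul, Finset.prod_mul_distrib]
    have hker : D ≤ π.ker.map D.subtype := by
      conv_lhs => rw [← hDDR]
      refine commutator_le.2 fun d hd r hr => ?_
      have hy : r * d⁻¹ * r⁻¹ ∈ D := le_normalizer_iff.1 hRD r hr _ (inv_mem hd)
      refine ⟨⟨d, hd⟩ * ⟨r * d⁻¹ * r⁻¹, hy⟩, ?_, by
        show d * (r * d⁻¹ * r⁻¹) = ⁅d, r⁆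
        rw [commutatorElement_def]; group⟩
      show π _ = 1
      rw [map_mul, show π ⟨r * d⁻¹ * r⁻¹, hy⟩ = π (⟨d, hd⟩ : D)⁻¹ from ?_, ← map_mul,
        mul_inv_cancel, map_one]
      refine Fintype.prod_equiv (Equiv.mulRight (⟨r, hr⟩ : R)) _ _ fun x => Subtype.ext ?_
      show f _ = f _
      congr 1
      simp [mul_assoc]
    intro c hc
    obtain ⟨w, hw, e⟩ := hker (mem_inf.1 hc).1
    have hwc : w = (⟨c, (mem_inf.1 hc).1⟩ : D) := Subtype.ext e
    subst hwc
    have h1 : ∏ r : R, ψ r ⟨c, (mem_inf.1 hc).1⟩ = 1 := hw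
    rw [Finset.prod_congr rfl (g := fun _ => (⟨f c, mem_map_of_mem f (mem_inf.1 hc).1⟩ : A))
      (fun r _ => Subtype.ext (by
        show f ((r : G) * c * (r : G)⁻¹) = f c
        rw [mem_centralizer_iff.1 (mem_inf.1 hc).2 r r.2, mul_inv_cancel_right]))] at h1
    rw [Finset.prod_const, Finset.card_univ, ← Nat.card_eq_fintype_card] at h1
    have h2 : f c ^ Nat.card R = 1 := congrArg Subtype.val h1
    have h3 : f c ^ 2 = 1 := by
      rw [← map_pow]; exact (QuotientGroup.eq_one_iff _).2 (hsq c (mem_inf.1 hc).1)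
    have h4 := pow_gcd_eq_one.2 ⟨h3, h2⟩
    rw [Nat.coprime_two_left.2 hodd, pow_one] at h4
    exact (QuotientGroup.eq_one_iff c).1 h4
  have hne : ∃ y ∈ R, ∃ d ∈ D, ¬ Commute y d := by
    by_contra h
    push Not at h
    exact hDR fun y hy => mem_centralizer_iff.2 fun d hd => (h y hy d hd).symm.eq
  refine ⟨D, hDQ, ⟨fun v hv => (hV v).1 hv, fun x hx => (hV x).2 hx, hVD, hDp, hderV, hsq,
    fun v hv d hd => hVC v hv d (hDQ hd), hodd, hRD, hVR, hfixed, hND, htrans, fun h => ?_, hV4⟩, hne⟩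
  exact hDR (le_centralizer_iff.1 (h.trans hVR))

/-- Thompson's theorem for `O(G) = 1`. -/
theorem main : ∀ (n : ℕ) (G : Type u) [Group G] [Finite G] [Group.IsSolvable G], Nat.card G = n →
    Cfsg.pPrimeCore 2 G = ⊥ → OneClass G →
    ∀ x : G, (∃ k, x ^ 2 ^ k = 1) → x ∈ Cfsg.pCore 2 G := by
  intro n
  induction n using Nat.strong_induction_on with | _ n ih => ?_
  intro G _ _ _ hn hO hone x₀ hx₀
  haveI := Fact.mk Nat.prime_two
  obtain ⟨hc, xi, yi, hxy, hxi1, hxi2, hyi1, hyi2, hxyc⟩ := id hone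
  haveI : Nontrivial G := ⟨⟨xi, 1, hxi1⟩⟩
  set Q := Cfsg.pCore 2 G with hQ
  by_contra hx₀Q
  let V : Subgroup G := {
    carrier := {x | x ^ 2 = 1}
    one_mem' := one_pow 2
    mul_mem' := fun {a b} (ha : a ^ 2 = 1) (hb : b ^ 2 = 1) => by
      show (a * b) ^ 2 = 1
      rw [((inv_mem_center hO hone ha).2 b (inv_mem_center hO hone hb).1).mul_pow, ha, hb, one_mul]
    inv_mem' := fun {a} (ha : a ^ 2 = 1) => by
      show a⁻¹ ^ 2 = 1
      rw [inv_pow, ha, inv_one] }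
  have hV : ∀ x : G, x ∈ V ↔ x ^ 2 = 1 := fun x => Iff.rfl
  haveI : V.Normal := ⟨fun a ha g => by
    show (g * a * g⁻¹) ^ 2 = 1
    rw [conj_pow, show a ^ 2 = 1 from ha, mul_one, mul_inv_cancel]⟩
  have hVQ : V ≤ Q := fun a ha => (inv_mem_center hO hone ha).1
  have hVC : ∀ v ∈ V, ∀ q ∈ Q, Commute v q := fun v hv => (inv_mem_center hO hone hv).2
  have hV4 : 4 ≤ Nat.card V := by
    classical
    haveI := Fintype.ofFinite G
    let l : Finset V := {1, ⟨xi, hxi2⟩, ⟨yi, hyi2⟩}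
    have hl : l.card = 3 := Finset.card_eq_three.2 ⟨_, _, _,
      fun e => hxi1 (congrArg Subtype.val e).symm, fun e => hyi1 (congrArg Subtype.val e).symm,
      fun e => hxy (congrArg Subtype.val e), rfl⟩
    have h3 : 3 ≤ Nat.card V := by
      rw [← hl, Nat.card_eq_fintype_card]; exact Finset.card_le_univ l
    obtain ⟨i, hi⟩ := (IsPGroup.iff_card (p := 2)).1 ((Cores.isPGroup_pCore 2).to_le hVQ)
    rcases i with _ | _ | i
    · rw [hi] at h3; norm_num at h3
    · rw [hi] at h3; norm_num at h3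
    · rw [hi, pow_add, pow_add]; have := Nat.one_le_two_pow (n := i); omega
  have hCQ : centralizer (Q : Set G) ≤ Q := by
    rw [hQ, ← Cores.fittingSubgroup_eq_pCore 2 hO]; exact Cores.centralizer_fittingSubgroup_le
  -- the odd group `R`
  set f := QuotientGroup.mk' Q with hf
  haveI : Nontrivial (G ⧸ Q) := ⟨⟨f x₀, 1, fun e => hx₀Q ((QuotientGroup.eq_one_iff _).1 e)⟩⟩
  set K := Cfsg.pPrimeCore 2 (G ⧸ Q) with hK
  have hKne : K ≠ ⊥ := fun e => Cores.fittingSubgroup_ne_bot (G := G ⧸ Q)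
    ((Cores.fittingSubgroup_eq_pCore 2 e).trans pCore_quotient_self)
  set M := K.comap f with hM
  have hQM : Q ≤ M := fun q hq => by
    show f q ∈ K
    rw [show f q = 1 from (QuotientGroup.eq_one_iff q).2 hq]
    exact one_mem _
  have hidx : (Q.subgroupOf M).index = Nat.card K := by
    change Q.relIndex M = _
    rw [show Q.relIndex M = ((⊥ : Subgroup (G ⧸ Q)).comap f).relIndex M by
      rw [MonoidHom.comap_bot, QuotientGroup.ker_mk'], relIndex_comap, hM,
      map_comap_eq_self_of_surjective (QuotientGroup.mk'_surjective Q), relIndex_bot_left]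
  have hKodd : Odd (Nat.card K) :=
    Nat.coprime_two_right.1 (Cores.coprime_card_pPrimeCore (G := G ⧸ Q) 2)
  obtain ⟨a, ha⟩ := Cores.card_pow_of_pCore (G := G) 2
  obtain ⟨R', hR'⟩ := Subgroup.exists_right_complement'_of_coprime (N := Q.subgroupOf M) (by
    rw [hidx, Nat.card_congr (subgroupOfEquivOfLe hQM).toEquiv,
      show Nat.card Q = 2 ^ a from ha]
    exact Nat.Coprime.pow_left a (Nat.coprime_two_left.2 hKodd))
  set R := R'.map M.subtype with hR
  have hcardR : Nat.card R = Nat.card K := by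
    rw [hR, card_map_of_injective M.subtype_injective, ← hidx, hR'.symm.index_eq_card]
  have hRodd : Odd (Nat.card R) := hcardR ▸ hKodd
  have hRM : R ≤ M := map_subtype_le _
  have hQR : Q ⊔ R = M := by
    have h1 := congrArg (Subgroup.map M.subtype) hR'.sup_eq_top
    rwa [Subgroup.map_sup, subgroupOf_map_subtype, inf_eq_left.2 hQM, ← MonoidHom.range_eq_map,
      range_subtype] at h1
  have hcopQR : (Nat.card Q).Coprime (Nat.card R) := by
    rw [show Nat.card Q = 2 ^ a from ha]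
    exact Nat.Coprime.pow_left a (Nat.coprime_two_left.2 hRodd)
  have hQsol : Group.IsSolvable Q := inferInstance
  set N := normalizer (R : Set G) with hN
  have hfrat : ∀ g : G, ∃ q ∈ Q, q * g ∈ N := by
    intro g
    have hle : R.map (MulAut.conj g).toMonoidHom ≤ Q ⊔ R := by
      rintro _ ⟨r, hr, rfl⟩
      rw [hQR]
      exact (inferInstance : M.Normal).conj_mem r (hRM hr) g
    obtain ⟨q, hq, e⟩ := exists_conj_eq (N := Q) (Or.inl hQsol)
      (by rw [Subgroup.normalizer_eq_top]; exact le_top)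
      (by rw [Subgroup.normalizer_eq_top]; exact le_top) hle (card_conj_map R g)
      (by rw [card_conj_map]; exact hcopQR)
    rw [conj_map_map] at e
    exact ⟨q, hq, mem_normalizer_of_conj_map_le (conj_map_le_iff.1 e.le)⟩
  have hQNC : ∀ e ∈ Q, e ∈ N → e ∈ centralizer (R : Set G) := by
    intro e he heN
    refine mem_centralizer_iff.2 fun r hr => ?_
    have h1 : ⁅e, r⁆ ∈ Q := by
      rw [commutatorElement_def, mul_assoc, mul_assoc, ← mul_assoc r]
      exact mul_mem he ((inferInstance : Q.Normal).conj_mem _ (inv_mem he) r)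
    have h2 : ⁅e, r⁆ ∈ R := by
      rw [commutatorElement_def]
      exact mul_mem ((mem_normalizer_iff.1 heN r).1 hr) (inv_mem hr)
    have h3 := (Subgroup.mem_bot.1 (inf_eq_bot_of_coprime hcopQR ▸ mem_inf.2 ⟨h1, h2⟩))
    exact (commutatorElement_eq_one_iff_commute.1 h3).symm.eq
  -- a 2-element of `N` outside `Q`
  obtain ⟨e, heN, heQ, i, hei⟩ : ∃ e ∈ N, e ∉ Q ∧ ∃ i, e ^ 2 ^ i = 1 := by
    obtain ⟨q, hq, hqN⟩ := hfrat x₀
    obtain ⟨k, hk⟩ := hx₀
    obtain ⟨i, m, hm, e⟩ := Nat.exists_eq_two_pow_mul_odd (orderOf_pos (q * x₀)).ne'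
    refine ⟨(q * x₀) ^ m, pow_mem hqN m, fun hmem => hx₀Q ?_, i, by
      rw [← pow_mul, mul_comm, ← e, pow_orderOf_eq_one]⟩
    have h1 : f x₀ ^ m = 1 := by
      have h2 : f ((q * x₀) ^ m) = 1 := (QuotientGroup.eq_one_iff _).2 hmem
      rwa [map_pow, map_mul, show f q = 1 from (QuotientGroup.eq_one_iff q).2 hq, one_mul] at h2
    have h3 : f x₀ ^ 2 ^ k = 1 := by rw [← map_pow, hk, map_one]
    have h4 := pow_gcd_eq_one.2 ⟨h3, h1⟩
    rw [Nat.Coprime.pow_left k (Nat.coprime_two_left.2 hm), pow_one] at h4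
    exact (QuotientGroup.eq_one_iff x₀).1 h4
  -- `R` centralises `V`
  have hVR : V ≤ centralizer (R : Set G) := by
    obtain ⟨j, hj, hj2⟩ := exists_sq_mem (V := (⊥ : Subgroup G)) hei (fun h => heQ (by
      rw [Subgroup.mem_bot.1 h]; exact one_mem Q))
    set z := e ^ 2 ^ j with hz
    have hz2 : z ^ 2 = 1 := Subgroup.mem_bot.1 hj2
    have hz1 : z ≠ 1 := fun h => hj (Subgroup.mem_bot.2 h)
    have hzC := hQNC z (hVQ hz2) (pow_mem heN _)
    intro v hv
    by_cases hv1 : v = 1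
    · subst hv1; exact one_mem _
    obtain ⟨g, hg⟩ := isConj_iff.1 (hc z v hz1 hz2 hv1 hv)
    obtain ⟨q, hq, hqg⟩ := hfrat g
    have hmem := le_normalizer_iff.1 (le_normalizer_centralizer (le_refl N)) (q * g) hqg z hzC
    have e2 : q * g * z * (q * g)⁻¹ = v := by
      calc q * g * z * (q * g)⁻¹ = q * (g * z * g⁻¹) * q⁻¹ := by group
        _ = v := by rw [hg, ← (hVC v hv q hq).eq, mul_inv_cancel_right]
    rwa [e2] at hmem
  have hVN : V ≤ N := hVR.trans (centralizer_le_normalizer _)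
  have htrans : ∀ u ∈ V, u ≠ 1 → ∀ v ∈ V, v ≠ 1 → ∃ n ∈ N, n * u * n⁻¹ = v := by
    intro u hu hu1 v hv hv1
    obtain ⟨g, hg⟩ := isConj_iff.1 (hc u v hu1 hu hv1 hv)
    obtain ⟨q, hq, hqg⟩ := hfrat g
    refine ⟨q * g, hqg, ?_⟩
    calc q * g * u * (q * g)⁻¹ = q * (g * u * g⁻¹) * q⁻¹ := by group
      _ = v := by rw [hg, ← (hVC v hv q hq).eq, mul_inv_cancel_right]
  -- induction in `N`
  set U := Cfsg.pPrimeCore 2 N with hU
  have hUodd : Odd (Nat.card U) :=
    Nat.coprime_two_right.1 (Cores.coprime_card_pPrimeCore (G := N) 2)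
  have hRN : R ≤ N := le_normalizer
  have hUne : U ≠ ⊥ := fun h => by
    haveI : (R.subgroupOf N).Normal := normal_subgroupOf_of_le_normalizer le_rfl
    have h1 : R.subgroupOf N ≤ U := Cores.le_pPrimeCore (by
      rw [Nat.card_congr (subgroupOfEquivOfLe hRN).toEquiv]
      exact Nat.coprime_two_right.2 hRodd)
    rw [h, le_bot_iff] at h1
    have h2 : Nat.card R = 1 := by
      rw [← Nat.card_congr (subgroupOfEquivOfLe hRN).toEquiv, h1, Subgroup.card_bot]
    exact hKne (Subgroup.card_eq_one.1 (hcardR ▸ h2))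
  have hlt : Nat.card (N ⧸ U) < n := by
    have h1 := U.card_mul_index
    have h2 : 2 ≤ Nat.card U := (Subgroup.one_lt_card_iff_ne_bot U).2 hUne
    have h3 : Nat.card N ≤ Nat.card G := Subgroup.card_le_card_group N
    have h4 : 0 < U.index := Nat.pos_of_ne_zero Subgroup.index_ne_zero_of_finite
    rw [← Subgroup.index_eq_card]
    nlinarith
  have honeN : OneClass N := by
    refine ⟨fun a b ha ha2 hb hb2 => ?_, ⟨xi, hVN hxi2⟩, ⟨yi, hVN hyi2⟩, ?_, ?_, Subtype.ext hxi2,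
      ?_, Subtype.ext hyi2, Subtype.ext hxyc.eq⟩
    · obtain ⟨g, hg, e2⟩ := htrans a ((hV _).2 (congrArg Subtype.val ha2))
        (fun h => ha (Subtype.ext h)) b ((hV _).2 (congrArg Subtype.val hb2))
        (fun h => hb (Subtype.ext h))
      exact isConj_iff.2 ⟨⟨g, hg⟩, Subtype.ext e2⟩
    · exact fun h => hxy (congrArg Subtype.val h)
    · exact fun h => hxi1 (congrArg Subtype.val h)
    · exact fun h => hyi1 (congrArg Subtype.val h)
  have honeQ := quotient_oneClass U hUodd honeN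
  have hOQ : Cfsg.pPrimeCore 2 (N ⧸ U) = ⊥ := pPrimeCore_quotient_self
  have IH := ih _ hlt (N ⧸ U) rfl hOQ honeQ
  -- 2-elements of `N` centralise `V`
  have hcentV : ∀ t ∈ N, (∃ k, t ^ 2 ^ k = 1) → ∀ v ∈ V, Commute t v := by
    rintro t ht ⟨k, hk⟩ v hv
    have h1 := IH ((⟨t, ht⟩ : N) : N ⧸ U) ⟨k, by
      rw [← QuotientGroup.mk_pow, show (⟨t, ht⟩ : N) ^ 2 ^ k = 1 from Subtype.ext hk]; rfl⟩
    have h2 := (inv_mem_center hOQ honeQ (x := ((⟨v, hVN hv⟩ : N) : N ⧸ U)) (by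
      rw [← QuotientGroup.mk_pow, show (⟨v, hVN hv⟩ : N) ^ 2 = 1 from Subtype.ext hv]; rfl)).2 _ h1
    have h3 : ⁅(⟨t, ht⟩ : N), (⟨v, hVN hv⟩ : N)⁆ ∈ U := by
      rw [← QuotientGroup.eq_one_iff, ← QuotientGroup.mk'_apply, map_commutatorElement]
      exact commutatorElement_eq_one_iff_commute.2 h2.symm
    have h4 : ⁅t, v⁆ ∈ V := by
      rw [commutatorElement_def]
      exact mul_mem ((inferInstance : V.Normal).conj_mem v hv t) (inv_mem hv)
    have h5 := eq_one_of_pow_two_pow hUodd h3 (i := 1) (Subtype.ext (by rw [pow_one]; exact h4))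
    exact commutatorElement_eq_one_iff_commute.1 (congrArg Subtype.val h5)
  -- a Sylow subgroup of `N`
  have hep : IsPGroup 2 (zpowers (⟨e, heN⟩ : N)) := by
    rintro ⟨z, w, rfl⟩
    refine ⟨i, Subtype.ext ?_⟩
    show ((⟨e, heN⟩ : N) ^ w) ^ 2 ^ i = 1
    rw [← zpow_natCast, ← zpow_mul, mul_comm, zpow_mul, zpow_natCast,
      show (⟨e, heN⟩ : N) ^ 2 ^ i = 1 from Subtype.ext hei, one_zpow]
  obtain ⟨T', hT'⟩ := hep.exists_le_sylow
  set T : Subgroup G := (T' : Subgroup N).map N.subtype with hT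
  have hTN : T ≤ N := map_subtype_le _
  have hTp : IsPGroup 2 T := T'.isPGroup'.map _
  have hTtwo : ∀ t ∈ T, ∃ k, t ^ 2 ^ k = 1 := fun t ht =>
    (hTp ⟨t, ht⟩).imp fun k hk => congrArg Subtype.val hk
  have heT : e ∈ T := ⟨⟨e, heN⟩, hT' (mem_zpowers _), rfl⟩
  obtain ⟨j, hpV, hp2⟩ := exists_sq_mem (V := V) hei (fun h => heQ (hVQ h))
  set p := e ^ 2 ^ j with hp
  have hpT : p ∈ T := pow_mem heT _
  have hp1 : p ^ 2 ≠ 1 := fun h => hpV h
  obtain ⟨v, hv, hv1, hvp⟩ : ∃ v ∈ V, v ≠ 1 ∧ v ≠ p ^ 2 := by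
    by_cases h : xi = p ^ 2
    · exact ⟨yi, hyi2, hyi1, fun h' => hxy (h.trans h'.symm)⟩
    · exact ⟨xi, hxi2, hxi1, h⟩
  obtain ⟨g, hgN, hg⟩ := htrans (p ^ 2) hp2 hp1 v hv hv1
  have hq0 : g * p * g⁻¹ ∈ N := mul_mem (mul_mem hgN (hTN hpT)) (inv_mem hgN)
  obtain ⟨k, hk⟩ := hTtwo p hpT
  have hq0k : (g * p * g⁻¹) ^ 2 ^ k = 1 := by rw [conj_pow, hk, mul_one, mul_inv_cancel]
  have hmem := Cores.pCore_le_sylow (T'.mapSurjective (QuotientGroup.mk'_surjective U))
    (IH ((⟨_, hq0⟩ : N) : N ⧸ U) ⟨k, by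
      rw [← QuotientGroup.mk_pow, show (⟨_, hq0⟩ : N) ^ 2 ^ k = 1 from Subtype.ext hq0k]; rfl⟩)
  obtain ⟨t, htT, hte⟩ := hmem
  have htT' : (t : G) ∈ T := mem_map_of_mem N.subtype htT
  have hVT : ∀ w : N, (w : G) ∈ V → w ∈ (T' : Subgroup N) := by
    haveI : (V.subgroupOf N).Normal := inferInstance
    have hVp : IsPGroup 2 (V.subgroupOf N) :=
      ((Cores.isPGroup_pCore 2).to_le hVQ).comap_of_injective N.subtype N.subtype_injective
    exact fun w hw => hVp.le_sylow_of_normal T' hw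
  have ht2 : (t : G) ^ 2 = v := by
    have h1 : t ^ 2 * (⟨v, hVN hv⟩ : N)⁻¹ ∈ U := by
      rw [← QuotientGroup.eq_one_iff, QuotientGroup.mk_mul, QuotientGroup.mk_pow,
        show (t : N ⧸ U) = ((⟨_, hq0⟩ : N) : N ⧸ U) from hte, ← QuotientGroup.mk_pow,
        show (⟨_, hq0⟩ : N) ^ 2 = (⟨v, hVN hv⟩ : N) from Subtype.ext (by
          show (g * p * g⁻¹) ^ 2 = v
          rw [conj_pow, hg]), ← QuotientGroup.mk_mul, mul_inv_cancel]
      rfl
    obtain ⟨l, hl⟩ := T'.isPGroup' ⟨_, mul_mem (pow_mem htT 2) (inv_mem (hVT ⟨v, hVN hv⟩ hv))⟩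
    have h2 := eq_one_of_pow_two_pow hUodd h1 (i := l) (congrArg Subtype.val hl)
    exact congrArg Subtype.val (mul_inv_eq_one.1 h2)
  -- the contradiction
  obtain ⟨D, hDQ, hsys, hne⟩ := exists_section (N := N) (R := R) (Cores.isPGroup_pCore 2) hV hVR hVQ
    hVC hV4 hRodd hRN (by rw [Subgroup.normalizer_eq_top]; exact le_top) le_rfl htrans
    (fun h => hKne (Subgroup.card_eq_one.1 (by
      rw [← hcardR, Subgroup.card_eq_one, eq_bot_iff, ← inf_eq_bot_of_coprime hcopQR]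
      exact fun r hr => mem_inf.2 ⟨hCQ (h hr), hr⟩)))
  refine AnisotropicSquares.no_two_squares hsys hTp (hTN.trans hsys.nnorm) hTN ?_ ?_ hne hpT htT'
    hpV ?_ hp2 ?_ ?_
  · exact fun s hs => mem_centralizer_iff.2 fun w hw => (hcentV s (hTN hs) (hTtwo s hs) w hw).symm.eq
  · exact fun s hs => hsys.fixed (mem_inf.2 ⟨(mem_inf.1 hs).2,
      hQNC s (hDQ (mem_inf.1 hs).2) (hTN (mem_inf.1 hs).1)⟩)
  · exact fun h => hv1 (ht2 ▸ (hV _).1 h)
  · rw [ht2]; exact hv
  · rw [ht2]; exact fun h => hvp h.symm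

end CfsgLib.Coprime.OneClassInvolutions
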