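import Cfsg.Agent.Lib.Coprime.Action
import Mathlib.GroupTheory.Nilpotent
import Mathlib.GroupTheory.Sylow
import Mathlib.Algebra.Group.Pi.Basic

/-!
Generators of `p`-groups and the commutator pairing into a group of order `p`.
-/

namespace CfsgLib.Coprime

open Subgroup
open scoped commutatorElement

/-- A group of order at most `p ^ d` in a `p`-group has at most `d` generators. -/
lemma exists_generators {Q : Type*} [Group Q] [Finite Q] {p : ℕ} [hp : Fact p.Prime] (hQ : IsPGroup p Q)
    (d : ℕ) (hd : Nat.card Q ≤ p ^ d) :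
    ∃ S : Finset Q, S.card ≤ d ∧ Subgroup.closure (S : Set Q) = ⊤ := by
  classical
  have : ∀ k ≤ d, ∃ S : Finset Q, S.card ≤ k ∧
      (Subgroup.closure (S : Set Q) = ⊤ ∨ p ^ k ≤ Nat.card (Subgroup.closure (S : Set Q))) := by
    intro k
    induction k with
    | zero => intro _; exact ⟨∅, by simp, .inr (by simp)⟩
    | succ k ih =>
      intro hk
      obtain ⟨S, hS, h⟩ := ih (by omega)
      by_cases htop : Subgroup.closure (S : Set Q) = ⊤
      · exact ⟨S, by omega, .inl htop⟩
      obtain ⟨x, hx⟩ : ∃ x, x ∉ Subgroup.closure (S : Set Q) := by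
        simpa [Subgroup.eq_top_iff'] using htop
      refine ⟨insert x S, (Finset.card_insert_le _ _).trans (by omega), .inr ?_⟩
      set H := Subgroup.closure (S : Set Q)
      set K := Subgroup.closure ((insert x S : Finset Q) : Set Q)
      have hle : H ≤ K := Subgroup.closure_mono (by simp)
      have hlt : Nat.card H < Nat.card K := lt_of_le_of_ne (Subgroup.card_le_of_le hle) fun e =>
        hx ((Subgroup.eq_of_le_of_card_ge hle e.ge).symm ▸ Subgroup.subset_closure (by simp))
      obtain ⟨i, hi⟩ := (hQ.to_subgroup H).exists_card_eq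
      obtain ⟨j, hj⟩ := (hQ.to_subgroup K).exists_card_eq
      have h1 := h.resolve_left htop
      rw [hi] at h1 hlt
      rw [hj] at hlt ⊢
      have h2 := (Nat.pow_le_pow_iff_right hp.out.one_lt).1 h1
      have h3 := (Nat.pow_lt_pow_iff_right hp.out.one_lt).1 hlt
      exact Nat.pow_le_pow_right hp.out.pos (by omega)
  obtain ⟨S, hS, h⟩ := this d le_rfl
  exact ⟨S, hS, h.elim id fun h => Subgroup.eq_top_of_le_card _ (hd.trans h)⟩


variable {G : Type*} [Group G]

/-- A subgroup of order `p` normalised by a `p`-subgroup is centralised by it. -/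
lemma le_centralizer_of_card_eq_prime [Finite G] {p : ℕ} [hp : Fact p.Prime] {P Z : Subgroup G}
    (hP : IsPGroup p P) (hZ : Nat.card Z = p) (hPZ : P ≤ normalizer (Z : Set G)) :
    P ≤ centralizer (Z : Set G) := by
  have hb : Z ≠ ⊥ := fun e => hp.out.one_lt.ne (by rw [← hZ, e, card_bot])
  have hlt := commutator_lt_of_isPGroup hP (IsPGroup.of_card (n := 1) (by rw [hZ, pow_one])) hPZ hb
  have h1 : Nat.card ↥⁅Z, P⁆ = 1 := by
    rcases hp.out.eq_one_or_self_of_dvd _ (hZ ▸ card_dvd_of_le hlt.le) with h | h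
    · exact h
    · exact absurd (eq_of_le_of_card_ge hlt.le (by rw [h, hZ])) hlt.ne
  rw [← commutator_eq_bot_iff_le_centralizer, commutator_comm]
  exact eq_bot_of_card_eq _ h1

lemma commutatorElement_mul_right_of_commute {a b b' : G} (h : Commute b ⁅a, b'⁆) :
    ⁅a, b * b'⁆ = ⁅a, b⁆ * ⁅a, b'⁆ := by
  have e : b * ⁅a, b'⁆ = ⁅a, b'⁆ * b := h
  calc ⁅a, b * b'⁆ = ⁅a, b⁆ * (b * ⁅a, b'⁆ * b⁻¹) := by simp [commutatorElement_def, mul_assoc]
    _ = _ := by rw [e, mul_inv_cancel_right]

lemma commutatorElement_mul_left_of_commute {a a' b : G} (h : Commute a ⁅a', b⁆) :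
    ⁅a * a', b⁆ = ⁅a', b⁆ * ⁅a, b⁆ := by
  have e : a * ⁅a', b⁆ = ⁅a', b⁆ * a := h
  calc ⁅a * a', b⁆ = (a * ⁅a', b⁆ * a⁻¹) * ⁅a, b⁆ := by simp [commutatorElement_def, mul_assoc]
    _ = _ := by rw [e, mul_inv_cancel_right]

lemma relIndex_centralizer_le [Finite G] {p : ℕ} [hp : Fact p.Prime] (hG : IsPGroup p G)
    {A B : Subgroup G} (hAB : ⁅A, B⁆ ≤ A ⊓ B) (hcard : Nat.card ↥⁅A, B⁆ = p) :
    (A ⊓ centralizer (B : Set G)).relIndex A ≤ (B ⊓ centralizer (A : Set G)).relIndex B := by
  classical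
  set Z := ⁅A, B⁆
  have hZcA : A ≤ centralizer (Z : Set G) :=
    le_centralizer_of_card_eq_prime (hG.to_subgroup A) hcard (normalizer_commutator_ge_left A B)
  have hZcB : B ≤ centralizer (Z : Set G) :=
    le_centralizer_of_card_eq_prime (hG.to_subgroup B) hcard (normalizer_commutator_ge_right A B)
  let : CommGroup Z := { (inferInstance : Group Z) with
    mul_comm := fun x y => Subtype.ext
      (mem_centralizer_iff.1 (hZcA ((hAB y.2).1 : (y : G) ∈ A)) x x.2) }
  let Φ : B →* (A → Z) := MonoidHom.mk'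
    (fun b a => (⟨⁅(a : G), (b : G)⁆, commutator_mem_commutator a.2 b.2⟩ : Z))
    (fun b b' => funext fun a => Subtype.ext (commutatorElement_mul_right_of_commute
      (mem_centralizer_iff.1 (hZcB b.2) _ (commutator_mem_commutator a.2 b'.2)).symm))
  let Ψ : A →* (B → Z) := MonoidHom.mk'
    (fun a b => (⟨⁅(a : G), (b : G)⁆, commutator_mem_commutator a.2 b.2⟩ : Z))
    (fun a a' => funext fun b => by
      rw [Pi.mul_apply, mul_comm]
      exact Subtype.ext (commutatorElement_mul_left_of_commute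
        (mem_centralizer_iff.1 (hZcA a.2) _ (commutator_mem_commutator a'.2 b.2)).symm))
  have hΦ : Nat.card Φ.range = (B ⊓ centralizer (A : Set G)).relIndex B := by
    rw [← index_ker, relIndex]
    congr 1
    ext b
    rw [mem_subgroupOf, mem_inf, MonoidHom.mem_ker, mem_centralizer_iff]
    refine ⟨fun h => ⟨b.2, fun a ha => ?_⟩, fun h => funext fun a => Subtype.ext ?_⟩
    · exact commutatorElement_eq_one_iff_mul_comm.1 (congrArg Subtype.val (congrFun h ⟨a, ha⟩))
    · exact commutatorElement_eq_one_iff_mul_comm.2 (h.2 a a.2)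
  have hΨ : Nat.card Ψ.range = (A ⊓ centralizer (B : Set G)).relIndex A := by
    rw [← index_ker, relIndex]
    congr 1
    ext a
    rw [mem_subgroupOf, mem_inf, MonoidHom.mem_ker, mem_centralizer_iff]
    refine ⟨fun h => ⟨a.2, fun b hb => ?_⟩, fun h => funext fun b => Subtype.ext ?_⟩
    · exact (commutatorElement_eq_one_iff_mul_comm.1
        (congrArg Subtype.val (congrFun h ⟨b, hb⟩))).symm
    · exact commutatorElement_eq_one_iff_mul_comm.2 (h.2 b b.2).symm
  rw [← hΦ, ← hΨ]
  have hQ : IsPGroup p Φ.range := IsPGroup.of_surjective (hG.to_subgroup B) Φ.rangeRestrict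
    Φ.rangeRestrict_surjective
  obtain ⟨d, hd⟩ := hQ.exists_card_eq
  obtain ⟨S, hS, hgen⟩ := exists_generators hQ d hd.le
  have hlift : ∀ s : S, ∃ b : B, Φ.rangeRestrict b = s := fun s => Φ.rangeRestrict_surjective _
  choose β hβ using hlift
  refine le_trans (Nat.card_le_card_of_injective
    (fun (f : Ψ.range) (s : S) => (f : B → Z) (β s)) ?_) ?_
  · rintro ⟨_, a, rfl⟩ ⟨_, a', rfl⟩ h
    refine Subtype.ext (funext fun b => ?_)
    let ev : A → (Φ.range →* Z) := fun a => MonoidHom.mk' (fun q => (q : A → Z) a) fun _ _ => rfl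
    have he : ev a = ev a' := by
      refine MonoidHom.eq_of_eqOn_dense hgen fun q hq => ?_
      show ev a q = ev a' q
      have e := hβ ⟨q, Finset.mem_coe.1 hq⟩
      change Φ.rangeRestrict _ = q at e
      rw [← e]
      exact congrFun h ⟨q, Finset.mem_coe.1 hq⟩
    exact DFunLike.congr_fun he (Φ.rangeRestrict b)
  · rw [Nat.card_fun, hcard, Nat.card_eq_fintype_card, Fintype.card_coe, hd]
    exact Nat.pow_le_pow_right hp.out.pos hS

lemma relIndex_centralizer_eq [Finite G] {p : ℕ} [hp : Fact p.Prime] (hG : IsPGroup p G)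
    {A B : Subgroup G} (hAB : ⁅A, B⁆ ≤ A ⊓ B) (hcard : Nat.card ↥⁅A, B⁆ ≤ p) :
    (A ⊓ centralizer (B : Set G)).relIndex A = (B ⊓ centralizer (A : Set G)).relIndex B := by
  obtain ⟨n, hn⟩ := (hG.to_subgroup ⁅A, B⁆).exists_card_eq
  rcases Nat.eq_zero_or_pos n with rfl | hn0
  · have h0 : ⁅A, B⁆ = ⊥ := eq_bot_of_card_eq _ (by rw [hn, pow_zero])
    have h1 : A ≤ centralizer (B : Set G) := commutator_eq_bot_iff_le_centralizer.1 h0
    rw [inf_eq_left.2 h1, inf_eq_left.2 (le_centralizer_iff.1 h1), relIndex_self, relIndex_self]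
  · have hc : Nat.card ↥⁅A, B⁆ = p := le_antisymm hcard
      (by rw [hn]; exact Nat.le_self_pow hn0.ne' p)
    refine le_antisymm (relIndex_centralizer_le hG hAB hc) (relIndex_centralizer_le hG ?_ ?_)
    · rw [commutator_comm, inf_comm]; exact hAB
    · rw [commutator_comm]; exact hc

end CfsgLib.Coprime
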