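import Cfsg.Agent.Lib.Coprime.Action
import Mathlib.GroupTheory.FixedPointFree
import Mathlib.GroupTheory.Sylow
import Mathlib.Algebra.BigOperators.Group.Finset.Basic
import Mathlib.Data.Int.Basic

/-!
A 2-group `D` of class two whose involutions all lie in `V = C_D(R)`, `R` of odd order, with a
group transitive on `V#`: `|D| = |V|^3`, every functional of the commutator form is non-degenerate,
every element of `R` acts trivially or without fixed points on `D/V`, and consequently no group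
of automorphisms of `R`-twisting 2-elements has two different squares in `V`.
-/

set_option autoImplicit false

namespace CfsgLib.Coprime.AnisotropicSquares

open Subgroup Finset
open scoped commutatorElement

variable {G : Type*} [Group G] [Finite G]

/-- The data. -/
structure Sys (V D R N : Subgroup G) : Prop where
  elem : ∀ v ∈ V, v ^ 2 = 1
  invol : ∀ x : G, x ^ 2 = 1 → x ∈ V
  le : V ≤ D
  pgroup : IsPGroup 2 D
  comm : ⁅D, D⁆ ≤ V
  sq : ∀ d ∈ D, d ^ 2 ∈ V
  cent : ∀ v ∈ V, ∀ d ∈ D, Commute v d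
  odd : Odd (Nat.card R)
  rnorm : R ≤ normalizer (D : Set G)
  rfix : V ≤ centralizer (R : Set G)
  fixed : D ⊓ centralizer (R : Set G) ≤ V
  nnorm : N ≤ normalizer (D : Set G)
  trans : ∀ u ∈ V, u ≠ 1 → ∀ v ∈ V, v ≠ 1 → ∃ n ∈ N, n * u * n⁻¹ = v
  proper : ¬ D ≤ V
  big : 4 ≤ Nat.card V

variable {V D R N : Subgroup G}

/-- The commutator form. -/
def b (h : Sys V D R N) (u d : D) : V :=
  ⟨⁅(u : G), (d : G)⁆, h.comm (commutator_mem_commutator u.2 d.2)⟩

/-- The squaring form. -/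
def s (h : Sys V D R N) (d : D) : V := ⟨(d : G) ^ 2, h.sq d d.2⟩

theorem vcomm (h : Sys V D R N) (u v : V) : u * v = v * u :=
  Subtype.ext (h.cent u u.2 v (h.le v.2)).eq

theorem vsq (h : Sys V D R N) (u : V) : u * u = 1 := Subtype.ext (by
  show (u : G) * u = 1
  rw [← pow_two]; exact h.elem u u.2)

theorem b_mul_left (h : Sys V D R N) (u v d : D) : b h (u * v) d = b h u d * b h v d := by
  refine Subtype.ext ?_
  show ⁅(u : G) * v, (d : G)⁆ = ⁅(u : G), (d : G)⁆ * ⁅(v : G), (d : G)⁆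
  have hexp : ⁅(u : G) * v, (d : G)⁆ = u * ⁅(v : G), (d : G)⁆ * (u : G)⁻¹ * ⁅(u : G), (d : G)⁆ := by
    simp only [commutatorElement_def]; group
  rw [hexp]
  have hc := (h.cent _ (b h v d).2 u u.2).eq
  have e : (u : G) * ⁅(v : G), (d : G)⁆ * (u : G)⁻¹ = ⁅(v : G), (d : G)⁆ := by
    change (u : G) * (b h v d : G) * (u : G)⁻¹ = (b h v d : G)
    rw [← hc, mul_inv_cancel_right]
  rw [e]
  exact congrArg Subtype.val (vcomm h (b h v d) (b h u d))

theorem b_swap (h : Sys V D R N) (u d : D) : b h u d = b h d u := by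
  rw [← mul_left_inj (b h d u), vsq h]
  refine Subtype.ext ?_
  show ⁅(u : G), (d : G)⁆ * ⁅(d : G), (u : G)⁆ = 1
  rw [← commutatorElement_inv (d : G) u, inv_mul_cancel]

theorem b_mul_right (h : Sys V D R N) (u v d : D) : b h d (u * v) = b h d u * b h d v := by
  rw [b_swap h d, b_mul_left, b_swap h u, b_swap h v]

theorem s_mul (h : Sys V D R N) (u v : D) : s h (u * v) = b h v u * (s h u * s h v) := by
  refine Subtype.ext ?_
  show ((u : G) * v) ^ 2 = ⁅(v : G), (u : G)⁆ * ((u : G) ^ 2 * (v : G) ^ 2)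
  have hc : (u : G) * ⁅(v : G), (u : G)⁆ = ⁅(v : G), (u : G)⁆ * u :=
    ((h.cent _ (b h v u).2 u u.2).eq).symm
  have e : (v : G) * u = ⁅(v : G), (u : G)⁆ * (u * v) := by rw [commutatorElement_def]; group
  calc ((u : G) * v) ^ 2 = u * ((v : G) * u) * v := by rw [pow_two]; group
    _ = u * (⁅(v : G), (u : G)⁆ * (u * v)) * v := by rw [e]
    _ = (u * ⁅(v : G), (u : G)⁆) * ((u : G) * v * v) := by group
    _ = ⁅(v : G), (u : G)⁆ * u * ((u : G) * v * v) := by rw [hc]
    _ = _ := by rw [pow_two, pow_two]; group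

/-- `b(x^r, y^r) = b(x, y)`. -/
theorem b_conj (h : Sys V D R N) {r : G} (hr : r ∈ R) (u d : D) :
    b h ⟨r * u * r⁻¹, le_normalizer_iff.1 h.rnorm r hr u u.2⟩
      ⟨r * d * r⁻¹, le_normalizer_iff.1 h.rnorm r hr d d.2⟩ = b h u d := by
  refine Subtype.ext ?_
  show ⁅r * u * r⁻¹, r * d * r⁻¹⁆ = ⁅(u : G), (d : G)⁆
  rw [← conjugate_commutatorElement]
  have := mem_centralizer_iff.1 (h.rfix (b h u d).2) r hr
  change r * (b h u d : G) * r⁻¹ = (b h u d : G)
  rw [this, mul_inv_cancel_right]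

omit [Finite G] in
/-- A sign functional with prescribed kernel. -/
theorem exists_sign [Finite V] (hV : ∀ v ∈ V, v ^ 2 = 1) (hcm : ∀ u v : V, u * v = v * u)
    (H : Subgroup V) (u : V) (hu : u ∉ H) :
    ∃ f : V →* ℤˣ, f u = -1 ∧ ∀ x ∈ H, f x = 1 := by
  classical
  obtain ⟨M, hHM, hmax⟩ := Finite.exists_le_maximal (p := fun M : Subgroup V => u ∉ M) hu
  have huu : ∀ x : V, x * x = 1 := fun x => Subtype.ext (by
    show (x : G) * x = 1
    rw [← pow_two]; exact hV x x.2)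
  have hcl : ∀ x, x ∉ M → u * x ∈ M := by
    intro x hx
    by_contra hux
    let K : Subgroup V :=
      { carrier := {y | y ∈ M ∨ y * x ∈ M}
        one_mem' := Or.inl (one_mem M)
        mul_mem' := by
          rintro y z (hy | hy) (hz | hz)
          · exact Or.inl (mul_mem hy hz)
          · exact Or.inr (by rw [mul_assoc]; exact mul_mem hy hz)
          · exact Or.inr (by rw [mul_assoc, hcm z x, ← mul_assoc]; exact mul_mem hy hz)
          · refine Or.inl ?_
            have h1 := mul_mem hy hz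
            rw [mul_assoc, hcm z x, ← mul_assoc x, huu x, one_mul] at h1
            exact h1
        inv_mem' := by
          intro y hy
          rwa [inv_eq_of_mul_eq_one_right (huu y)] }
    have hMK : M ≤ K := fun y hy => Or.inl hy
    have huK : u ∉ K := by
      rintro (h | h)
      · exact hmax.1 h
      · exact hux h
    have hxK : x ∈ K := Or.inr (by rw [huu x]; exact one_mem M)
    exact hx (hmax.2 huK hMK hxK)
  refine ⟨{ toFun := fun x => if x ∈ M then 1 else -1, map_one' := if_pos (one_mem M),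
            map_mul' := ?_ }, if_neg hmax.1, fun x hx => if_pos (hHM hx)⟩
  intro x y
  by_cases hx : x ∈ M
  · by_cases hy : y ∈ M
    · simp [hx, hy, mul_mem hx hy]
    · have : x * y ∉ M := fun h => hy ((mul_mem_cancel_left hx).1 h)
      simp [hx, hy, this]
  · by_cases hy : y ∈ M
    · have : x * y ∉ M := fun h => hx ((mul_mem_cancel_right hy).1 h)
      simp [hx, hy, this]
    · have : x * y ∈ M := by
        have h1 := mul_mem (hcl x hx) (hcl y hy)
        rw [mul_assoc, ← mul_assoc x u, hcm x u, mul_assoc u x y, ← mul_assoc u u, huu u,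
          one_mul] at h1
        exact h1
      simp [hx, hy, this]

theorem sq_surjective (h : Sys V D R N) {v : G} (hv : v ∈ V) (hv1 : v ≠ 1) :
    ∃ d ∈ D, d ^ 2 = v := by
  obtain ⟨d, hd, hdV⟩ := SetLike.not_le_iff_exists.1 h.proper
  obtain ⟨n, hn, e⟩ := h.trans (d ^ 2) (h.sq d hd) (fun e => hdV (h.invol d e)) v hv hv1
  exact ⟨n * d * n⁻¹, le_normalizer_iff.1 h.nnorm n hn d hd, by rw [conj_pow, e]⟩

theorem two_adic {x y u v : ℕ} (hu : Odd u) (hv : Odd v) (e : 2 ^ x * u = 2 ^ y * v) :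
    x = y ∧ u = v := by
  have hxy : x = y := by
    by_contra hne
    rcases Nat.lt_or_ge x y with hlt | hge
    · obtain ⟨k, rfl⟩ := Nat.exists_eq_add_of_lt hlt
      rw [pow_add, pow_add, mul_assoc, mul_assoc] at e
      have := Nat.eq_of_mul_eq_mul_left (Nat.two_pow_pos x) e
      exact (Nat.not_odd_iff_even.2 ⟨2 ^ k * v, by rw [this]; ring⟩) hu
    · obtain ⟨k, rfl⟩ := Nat.exists_eq_add_of_lt (lt_of_le_of_ne hge (Ne.symm hne))
      rw [pow_add, pow_add, mul_assoc, mul_assoc] at e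
      have := Nat.eq_of_mul_eq_mul_left (Nat.two_pow_pos y) e
      exact (Nat.not_odd_iff_even.2 ⟨2 ^ k * u, by rw [← this]; ring⟩) hv
  subst hxy
  exact ⟨rfl, Nat.eq_of_mul_eq_mul_left (Nat.two_pow_pos x) e⟩

theorem arith {n M k : ℕ} (hn : 2 ≤ n) (hnM : n < M)
    (e : ((2 : ℤ) ^ n - 1) ^ 2 * (2 ^ M * 2 ^ k) = (((2 : ℤ) ^ n) ^ 2 - 2 ^ M) ^ 2) :
    M = 3 * n ∧ k = n := by
  have hodd : ∀ j : ℕ, 1 ≤ j → Odd ((2 ^ j - 1) ^ 2) := fun j hj => by
    refine Odd.pow ?_
    obtain ⟨i, rfl⟩ := Nat.exists_eq_add_of_le hj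
    exact ⟨2 ^ i - 1, by have := Nat.one_le_two_pow (n := i); rw [pow_add, pow_one]; omega⟩
  have inj : ∀ a c : ℕ, 1 ≤ a → (2 ^ a - 1) ^ 2 = (2 ^ c - 1) ^ 2 → a = c := fun a c ha e' => by
    have h1 := Nat.pow_left_injective (n := 2) (by norm_num) e'
    have h2 : 2 ^ a = 2 ^ c := by
      have := Nat.one_le_two_pow (n := a); have := Nat.one_le_two_pow (n := c)
      omega
    exact Nat.pow_right_injective le_rfl h2
  rcases Nat.lt_trichotomy M (2 * n) with hlt | heq | hgt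
  · obtain ⟨j, hj⟩ := Nat.exists_eq_add_of_lt hlt
    have e1 : (2 : ℤ) ^ n * 2 ^ n = 2 ^ M * 2 ^ (j + 1) := by
      rw [← pow_add, ← pow_add]; congr 1; omega
    have e2 : ((2 ^ (M + k) * (2 ^ n - 1) ^ 2 : ℕ) : ℤ)
        = ((2 ^ (M + M) * (2 ^ (j + 1) - 1) ^ 2 : ℕ) : ℤ) := by
      push_cast [Nat.one_le_two_pow]
      calc (2 : ℤ) ^ (M + k) * (2 ^ n - 1) ^ 2 = ((2 : ℤ) ^ n * 2 ^ n - 2 ^ M) ^ 2 := by
            rw [pow_add, ← sq ((2 : ℤ) ^ n), ← e]; ring
        _ = _ := by rw [e1, pow_add (2 : ℤ) M M]; ring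
    obtain ⟨-, h2⟩ := two_adic (hodd n (by omega)) (hodd (j + 1) (by omega)) (by exact_mod_cast e2)
    have := inj n (j + 1) (by omega) h2
    omega
  · exfalso
    subst heq
    have e0 : (((2 : ℤ) ^ n) ^ 2 - 2 ^ (2 * n)) ^ 2 = 0 := by rw [← pow_mul, mul_comm n 2]; ring
    rw [e0] at e
    have h1 : (4 : ℤ) ≤ 2 ^ n := by
      calc (4 : ℤ) = 2 ^ 2 := by norm_num
        _ ≤ 2 ^ n := pow_le_pow_right₀ (by norm_num) hn
    have : (0 : ℤ) < ((2 : ℤ) ^ n - 1) ^ 2 * (2 ^ (2 * n) * 2 ^ k) := by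
      have : (0 : ℤ) < (2 : ℤ) ^ n - 1 := by linarith
      positivity
    omega
  · obtain ⟨j, hj⟩ := Nat.exists_eq_add_of_lt hgt
    have e1 : (2 : ℤ) ^ M = 2 ^ n * 2 ^ n * 2 ^ (j + 1) := by
      rw [← pow_add, ← pow_add]; congr 1; omega
    have e2 : ((2 ^ (M + k) * (2 ^ n - 1) ^ 2 : ℕ) : ℤ)
        = ((2 ^ (4 * n) * (2 ^ (j + 1) - 1) ^ 2 : ℕ) : ℤ) := by
      push_cast [Nat.one_le_two_pow]
      calc (2 : ℤ) ^ (M + k) * (2 ^ n - 1) ^ 2 = (((2 : ℤ) ^ n) ^ 2 - 2 ^ M) ^ 2 := by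
            rw [pow_add, ← e]; ring
        _ = _ := by rw [e1, show 4 * n = n + n + n + n by ring, pow_add, pow_add, pow_add]; ring
    obtain ⟨h1, h2⟩ := two_adic (hodd n (by omega)) (hodd (j + 1) (by omega)) (by exact_mod_cast e2)
    have := inj n (j + 1) (by omega) h2
    omega

/-- Gauss sums: the radical is trivial and `|D| = |V|^3`. -/
theorem form_facts (h : Sys V D R N) (f : V →* ℤˣ) {u₀ : V} (hf : f u₀ = -1) :
    Nat.card D = Nat.card V ^ 3 ∧ ∀ u : D, (∀ d : D, f (b h u d) = 1) → (u : G) ∈ V := by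
  classical
  haveI := Fintype.ofFinite G
  set φ : V → ℤ := fun v => ((f v : ℤˣ) : ℤ) with hφ
  have φmul : ∀ u v, φ (u * v) = φ u * φ v := fun u v => by simp [hφ]
  have φone : φ 1 = 1 := by simp [hφ]
  have φsum : ∑ v : V, φ v = 0 := by
    have h1 : ∑ v : V, φ (u₀ * v) = ∑ v : V, φ v :=
      Fintype.sum_equiv (Equiv.mulLeft u₀) _ _ fun v => rfl
    have h0 : φ u₀ = -1 := by simp [hφ, hf]
    simp only [φmul, ← Finset.mul_sum, h0] at h1
    linarith
  -- the radical
  let Rad : Subgroup D :=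
    { carrier := {u | ∀ d : D, f (b h u d) = 1}
      one_mem' := fun d => by
        have : b h 1 d = 1 := Subtype.ext (commutatorElement_one_left _)
        rw [this, map_one]
      mul_mem' := fun {x y} hx hy d => by rw [b_mul_left, map_mul, hx d, hy d, one_mul]
      inv_mem' := fun {x} hx d => by
        have h1 := b_mul_left h x⁻¹ x d
        have h2 : b h (x⁻¹ * x) d = 1 := by
          rw [inv_mul_cancel]; exact Subtype.ext (commutatorElement_one_left _)
        rw [h2] at h1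
        have := congrArg f h1
        rwa [map_one, map_mul, hx d, mul_one, eq_comm] at this }
  -- squares on the radical
  have hrad : ∀ u ∈ Rad, f (s h u) = 1 := by
    set W : Subgroup G := Rad.map D.subtype with hW
    let Z : Subgroup G :=
      { carrier := {x | ∃ u ∈ Rad, f (s h u) = 1 ∧ (u : G) = x}
        one_mem' := ⟨1, one_mem _, by
          have : s h 1 = 1 := Subtype.ext (one_pow 2)
          rw [this, map_one], rfl⟩
        mul_mem' := by
          rintro _ _ ⟨u, hu, hu1, rfl⟩ ⟨v, hv, hv1, rfl⟩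
          exact ⟨u * v, mul_mem hu hv, by
            rw [s_mul, map_mul, map_mul, hv u, hu1, hv1, one_mul, one_mul], rfl⟩
        inv_mem' := by
          rintro _ ⟨u, hu, hu1, rfl⟩
          refine ⟨u⁻¹, inv_mem hu, ?_, rfl⟩
          have h1 := s_mul h u⁻¹ u
          have h2 : s h (u⁻¹ * u) = 1 := by rw [inv_mul_cancel]; exact Subtype.ext (one_pow 2)
          rw [h2] at h1
          have h3 := congrArg f h1
          rw [map_one, map_mul, map_mul, hu u⁻¹, hu1, one_mul, mul_one] at h3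
          exact h3.symm }
    have hWD : W ≤ D := Subgroup.map_subtype_le Rad
    have hnW : R ≤ normalizer (W : Set G) := by
      refine le_normalizer_iff.2 fun r hr x hx => ?_
      obtain ⟨u, hu, rfl⟩ := hx
      refine ⟨⟨r * u * r⁻¹, le_normalizer_iff.1 h.rnorm r hr u u.2⟩, fun d => ?_, rfl⟩
      have hd : r⁻¹ * d * r⁻¹⁻¹ ∈ D := le_normalizer_iff.1 h.rnorm _ (inv_mem hr) d d.2
      have h1 := b_conj h hr u ⟨_, hd⟩
      have h2 : (⟨r * (r⁻¹ * d * r⁻¹⁻¹) * r⁻¹,
          le_normalizer_iff.1 h.rnorm r hr _ hd⟩ : D) = d := Subtype.ext (by simp [mul_assoc])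
      rw [h2] at h1
      rw [h1]; exact hu _
    have hcop : (Nat.card R).Coprime (Nat.card W) := by
      obtain ⟨m, hm⟩ := (IsPGroup.iff_card (p := 2)).1 (h.pgroup.to_le hWD)
      rw [hm]
      exact Nat.Coprime.pow_right m (Nat.coprime_two_right.2 h.odd)
    have hsol : Group.IsSolvable W := by
      haveI := Fact.mk Nat.prime_two
      haveI := (h.pgroup.to_le hWD).isNilpotent
      infer_instance
    have hle : W ≤ Z := by
      rw [← commutator_sup_centralizer hnW hcop (Or.inr hsol)]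
      refine sup_le (commutator_le.2 ?_) ?_
      · rintro _ ⟨u, hu, rfl⟩ r hr
        have hmem : (u : G) * (r * (u : G)⁻¹ * r⁻¹) ∈ D :=
          mul_mem u.2 (le_normalizer_iff.1 h.rnorm r hr _ (inv_mem u.2))
        set u' : D := ⟨r * (u : G)⁻¹ * r⁻¹, le_normalizer_iff.1 h.rnorm r hr _ (inv_mem u.2)⟩
        have hu'W : (u' : G) ∈ W :=
          le_normalizer_iff.1 hnW r hr _ (inv_mem (mem_map_of_mem D.subtype hu))
        have hu' : u' ∈ Rad := by
          obtain ⟨w, hw, e⟩ := hu'W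
          rwa [← Subtype.ext (e : (w : G) = u')]
        refine ⟨u * u', mul_mem hu hu', ?_, by
          show (u : G) * (r * (u : G)⁻¹ * r⁻¹) = ⁅(u : G), r⁆
          rw [commutatorElement_def]; group⟩
        have e : s h u' = (s h u)⁻¹ := Subtype.ext (by
          show (r * (u : G)⁻¹ * r⁻¹) ^ 2 = ((u : G) ^ 2)⁻¹
          rw [conj_pow, inv_pow]
          have := mem_centralizer_iff.1 (h.rfix (inv_mem (s h u).2)) r hr
          change r * ((s h u : G))⁻¹ * r⁻¹ = ((s h u : G))⁻¹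
          rw [this, mul_inv_cancel_right])
        rw [s_mul, map_mul, map_mul, hu' u, e, map_inv, mul_inv_cancel, mul_one]
      · rintro x hx
        obtain ⟨u, hu, rfl⟩ := (mem_inf.1 hx).1
        refine ⟨u, hu, ?_, rfl⟩
        have : s h u = 1 := Subtype.ext (h.elem _ (h.fixed ⟨u.2, (mem_inf.1 hx).2⟩))
        rw [this, map_one]
    intro u hu
    obtain ⟨w, -, hw1, e⟩ := hle (mem_map_of_mem D.subtype hu)
    rwa [← Subtype.ext (e : (w : G) = u)]
  set S : ℤ := ∑ d : D, φ (s h d) with hS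
  -- square of the sum
  have hS2 : S * S = (Nat.card D : ℤ) * Nat.card Rad := by
    have h1 : S * S = ∑ u : D, φ (s h u) * ∑ d : D, φ (b h u d) := by
      rw [hS, Finset.sum_mul_sum]
      calc ∑ d : D, ∑ e : D, φ (s h d) * φ (s h e)
          = ∑ d : D, ∑ u : D, φ (s h d) * φ (s h (d * u)) := by
            refine Finset.sum_congr rfl fun d _ => ?_
            exact (Fintype.sum_equiv (Equiv.mulLeft d) _ _ fun u => rfl).symm
        _ = ∑ d : D, ∑ u : D, φ (s h u) * φ (b h u d) := by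
            refine Finset.sum_congr rfl fun d _ => Finset.sum_congr rfl fun u _ => ?_
            rw [s_mul, φmul, φmul]
            have : φ (s h d) * φ (s h d) = 1 := by rw [← φmul, vsq h, φone]
            calc φ (s h d) * (φ (b h u d) * (φ (s h d) * φ (s h u)))
                = (φ (s h d) * φ (s h d)) * (φ (s h u) * φ (b h u d)) := by ring
              _ = _ := by rw [this, one_mul]
        _ = _ := by rw [Finset.sum_comm]; simp [Finset.mul_sum]
    have h2 : ∀ u : D, φ (s h u) * ∑ d : D, φ (b h u d) =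
        if u ∈ Rad then (Nat.card D : ℤ) else 0 := by
      intro u
      by_cases hu : u ∈ Rad
      · have hb : ∀ d : D, φ (b h u d) = 1 := fun d => by simp [hφ, hu d]
        have hsu : φ (s h u) = 1 := by simp [hφ, hrad u hu]
        rw [if_pos hu, Finset.sum_congr rfl fun d _ => hb d, hsu, one_mul]
        simp [Nat.card_eq_fintype_card]
      · rw [if_neg hu]
        obtain ⟨d₁, hd₁⟩ : ∃ d₁ : D, f (b h u d₁) ≠ 1 := not_forall.1 hu
        have h0 : φ (b h u d₁) = -1 := by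
          rcases Int.units_eq_one_or (f (b h u d₁)) with e | e
          · exact absurd e hd₁
          · simp [hφ, e]
        have h1 : ∑ d : D, φ (b h u (d₁ * d)) = ∑ d : D, φ (b h u d) :=
          Fintype.sum_equiv (Equiv.mulLeft d₁) _ _ fun d => rfl
        simp only [b_mul_right, φmul, ← Finset.mul_sum, h0] at h1
        have : ∑ d : D, φ (b h u d) = 0 := by linarith
        rw [this, mul_zero]
    rw [h1, Finset.sum_congr rfl fun u _ => h2 u, ← Finset.sum_filter, Finset.sum_const,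
      nsmul_eq_mul, mul_comm]
    congr 2
    rw [Nat.card_eq_fintype_card, ← Fintype.card_subtype]
  -- value of the sum
  let c : V → ℕ := fun v => (Finset.univ.filter fun d : D => s h d = v).card
  have hc1 : c 1 = Nat.card V := by
    rw [Nat.card_eq_fintype_card, ← Finset.card_univ]
    refine Finset.card_bij' (fun d hd => (⟨(d : G), h.invol _ (congrArg Subtype.val
        (Finset.mem_filter.1 hd).2)⟩ : V)) (fun v _ => (⟨(v : G), h.le v.2⟩ : D))
      (fun _ _ => Finset.mem_univ _) (fun v _ => ?_) (fun _ _ => rfl) (fun _ _ => rfl)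
    simp only [Finset.mem_filter, Finset.mem_univ, true_and]
    exact Subtype.ext (h.elem v v.2)
  have hceq : ∀ v : V, v ≠ 1 → c v ≤ c u₀ ∧ c u₀ ≤ c v := by
    have key : ∀ x y : V, x ≠ 1 → y ≠ 1 → c x ≤ c y := by
      intro x y hx hy
      obtain ⟨n, hn, e⟩ := h.trans x x.2 (fun e => hx (Subtype.ext e)) y y.2
        (fun e => hy (Subtype.ext e))
      refine Finset.card_le_card_of_injOn
        (fun d : D => (⟨n * d * n⁻¹, le_normalizer_iff.1 h.nnorm n hn d d.2⟩ : D)) ?_ ?_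
      · intro d hd
        simp only [Finset.coe_filter, Finset.mem_univ, true_and, Set.mem_setOf_eq] at hd ⊢
        refine Subtype.ext ?_
        show (n * d * n⁻¹) ^ 2 = (y : G)
        rw [conj_pow, ← e]
        exact congrArg (fun z : G => n * z * n⁻¹) (congrArg Subtype.val hd)
      · intro d _ d' _ e'
        exact Subtype.ext (mul_left_cancel (mul_right_cancel (congrArg Subtype.val e')))
    have hu0 : u₀ ≠ 1 := fun e => by
      rw [e, map_one] at hf
      exact absurd hf (by decide)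
    exact fun v hv => ⟨key v u₀ hv hu0, key u₀ v hu0 hv⟩
  have hsplit : ∀ g : V → ℤ, ∑ d : D, g (s h d) =
      (Nat.card V : ℤ) * g 1 + (c u₀ : ℤ) * ((∑ v : V, g v) - g 1) := by
    intro g
    have h1 : ∑ d : D, g (s h d) = ∑ v : V, (c v : ℤ) * g v := by
      rw [← Finset.sum_fiberwise' Finset.univ (s h) g]
      simp [c]
    rw [h1, ← Finset.add_sum_erase _ _ (Finset.mem_univ (1 : V)), hc1]
    congr 1
    rw [← Finset.sum_erase_eq_sub (Finset.mem_univ (1 : V)), Finset.mul_sum]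
    refine Finset.sum_congr rfl fun v hv => ?_
    obtain ⟨a1, a2⟩ := hceq v (Finset.ne_of_mem_erase hv)
    rw [le_antisymm a1 a2]
  have eD := hsplit fun _ => 1
  simp only [Finset.sum_const, Finset.card_univ, nsmul_eq_mul, mul_one] at eD
  rw [← Nat.card_eq_fintype_card, ← Nat.card_eq_fintype_card] at eD
  have eS : S = (Nat.card V : ℤ) - c u₀ := by
    rw [hS, hsplit φ, φsum, φone]; ring
  -- arithmetic
  obtain ⟨M, hM⟩ := (IsPGroup.iff_card (p := 2)).1 h.pgroup
  obtain ⟨n, hn⟩ := (IsPGroup.iff_card (p := 2)).1 (h.pgroup.to_le h.le)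
  obtain ⟨k, hk⟩ := (IsPGroup.iff_card (p := 2)).1 (h.pgroup.to_subgroup Rad)
  have hn2 : 2 ≤ n := by
    have := h.big
    rw [hn] at this
    by_contra hlt
    interval_cases n <;> simp at this
  have hnM : n < M := by
    have hlt : Nat.card V < Nat.card D := by
      by_contra hge
      exact h.proper (eq_of_le_of_card_ge h.le (not_lt.1 hge)).ge
    rw [hn, hM] at hlt
    exact (Nat.pow_lt_pow_iff_right Nat.one_lt_two).1 hlt
  have eI : ((2 : ℤ) ^ n - 1) ^ 2 * (2 ^ M * 2 ^ k) = (((2 : ℤ) ^ n) ^ 2 - 2 ^ M) ^ 2 := by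
    have a1 : (Nat.card V : ℤ) = 2 ^ n := by exact_mod_cast hn
    have a2 : (Nat.card D : ℤ) = 2 ^ M := by exact_mod_cast hM
    have a3 : (Nat.card Rad : ℤ) = 2 ^ k := by exact_mod_cast hk
    have e1 : ((2 : ℤ) ^ n - 1) * S = ((2 : ℤ) ^ n) ^ 2 - 2 ^ M := by
      rw [← a1, ← a2, eS, eD]; ring
    rw [← e1, ← a2, ← a3, ← hS2]; ring
  obtain ⟨eM, ek⟩ := arith hn2 hnM eI
  refine ⟨by rw [hM, hn, eM, ← pow_mul, mul_comm n 3], fun u hu => ?_⟩
  have hle : V.subgroupOf D ≤ Rad := fun v hv d => by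
    have : b h v d = 1 := Subtype.ext (commutatorElement_eq_one_iff_commute.2 (h.cent v hv d d.2))
    rw [this, map_one]
  have heq : V.subgroupOf D = Rad := eq_of_le_of_card_ge hle (by
    rw [hk, ek, ← hn, Nat.card_congr (subgroupOfEquivOfLe h.le).toEquiv])
  have hu' : u ∈ V.subgroupOf D := by rw [heq]; exact hu
  exact hu'

/-- `⁅u, ·⁆ : D → V` is onto for `u ∉ V`. -/
theorem b_surjective (h : Sys V D R N) (u : D) (hu : (u : G) ∉ V) :
    ∀ v : V, ∃ d : D, b h u d = v := by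
  classical
  let φu : D →* V := MonoidHom.mk' (b h u) fun x y => b_mul_right h x y u
  intro v
  by_contra hv
  obtain ⟨f, hf, hf1⟩ := exists_sign h.elem (vcomm h) φu.range v (fun ⟨d, hd⟩ => hv ⟨d, hd⟩)
  exact hu ((form_facts h f hf).2 u fun d => hf1 _ ⟨d, rfl⟩)

theorem card_D (h : Sys V D R N) : Nat.card D = Nat.card V ^ 3 := by
  obtain ⟨d, hd, hdV⟩ := SetLike.not_le_iff_exists.1 h.proper
  have hne : (⟨d ^ 2, h.sq d hd⟩ : V) ≠ 1 := fun e => hdV (h.invol d (congrArg Subtype.val e))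
  obtain ⟨f, hf, -⟩ := exists_sign h.elem (vcomm h) ⊥ _ (fun e => hne (Subgroup.mem_bot.1 e))
  exact (form_facts h f hf).1

/-- An element of `R` centralising an element of `D \ V` centralises `D`. -/
theorem fixedPointFree (h : Sys V D R N) {y : G} (hy : y ∈ R) {c : G} (hcD : c ∈ D) (hcV : c ∉ V)
    (hyc : Commute y c) : ∀ d ∈ D, Commute y d := by
  set Y := zpowers y with hY
  have hYR : Y ≤ R := zpowers_le.2 hy
  have hYD : Y ≤ normalizer (D : Set G) := hYR.trans h.rnorm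
  set C := D ⊓ centralizer (Y : Set G) with hC
  set U := ⁅D, Y⁆ with hU
  have hUD : U ≤ D := le_normalizer_iff_commutator_le_left.1 hYD
  have hcC : c ∈ C := by
    refine mem_inf.2 ⟨hcD, mem_centralizer_iff.2 fun z hz => ?_⟩
    obtain ⟨i, rfl⟩ := hz
    exact (hyc.zpow_left i).eq
  -- the two factors are orthogonal
  have horth : ∀ x (hx : x ∈ C) u (hu : u ∈ U),
      b h ⟨x, (mem_inf.1 hx).1⟩ ⟨u, hUD hu⟩ = 1 := by
    intro x hx
    let φx : D →* V := MonoidHom.mk' (b h ⟨x, (mem_inf.1 hx).1⟩) fun a a' => b_mul_right h a a' _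
    have hle : U ≤ φx.ker.map D.subtype := by
      refine commutator_le.2 fun a ha z hz => ?_
      have hza : z * a⁻¹ * z⁻¹ ∈ D := le_normalizer_iff.1 hYD z hz _ (inv_mem ha)
      refine ⟨⟨a, ha⟩ * ⟨z * a⁻¹ * z⁻¹, hza⟩, ?_, by
        show a * (z * a⁻¹ * z⁻¹) = ⁅a, z⁆
        rw [commutatorElement_def]; group⟩
      have e : b h ⟨x, (mem_inf.1 hx).1⟩ ⟨z * a⁻¹ * z⁻¹, hza⟩ =
          b h ⟨x, (mem_inf.1 hx).1⟩ (⟨a, ha⟩ : D)⁻¹ := by
        have h1 := b_conj h (hYR hz) (⟨x, (mem_inf.1 hx).1⟩ : D) (⟨a, ha⟩ : D)⁻¹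
        have h2 : (⟨z * x * z⁻¹, le_normalizer_iff.1 h.rnorm z (hYR hz) x (mem_inf.1 hx).1⟩ : D) =
            ⟨x, (mem_inf.1 hx).1⟩ := Subtype.ext (by
          show z * x * z⁻¹ = x
          rw [mem_centralizer_iff.1 (mem_inf.1 hx).2 z hz, mul_inv_cancel_right])
        rw [h2] at h1
        exact h1
      show φx _ = 1
      rw [map_mul]
      change φx ⟨a, ha⟩ * b h ⟨x, (mem_inf.1 hx).1⟩ ⟨z * a⁻¹ * z⁻¹, hza⟩ = 1
      rw [e]
      change φx ⟨a, ha⟩ * φx (⟨a, ha⟩ : D)⁻¹ = 1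
      rw [← map_mul, mul_inv_cancel, map_one]
    intro u hu
    obtain ⟨w, hw, e⟩ := hle hu
    rw [← (Subtype.ext e : w = (⟨u, hUD hu⟩ : D))]
    exact hw
  have hcop : (Nat.card Y).Coprime (Nat.card D) := by
    obtain ⟨m, hm⟩ := (IsPGroup.iff_card (p := 2)).1 h.pgroup
    rw [hm]
    exact Nat.Coprime.pow_right m (Nat.coprime_two_right.2
      (h.odd.of_dvd_nat (card_dvd_of_le hYR)))
  -- `U ≤ V`
  have hUV : U ≤ V := by
    intro u hu
    by_contra huV
    let c' : D := ⟨c, hcD⟩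
    let u' : D := ⟨u, hUD hu⟩
    let Φ : D →* V × V := MonoidHom.mk' (fun d => (b h c' d, b h u' d)) fun x z =>
      Prod.ext (b_mul_right h x z c') (b_mul_right h x z u')
    have hdec : ∀ d : D, ∃ (w : D) (x : D), (w : G) ∈ U ∧ (x : G) ∈ C ∧ d = w * x := by
      intro d
      have hd : (d : G) ∈ U ⊔ C := by
        rw [hU, hC, commutator_sup_centralizer hYD hcop (Or.inl (isSolvable_zpowers y))]
        exact d.2
      have hCn : C ≤ normalizer (U : Set G) :=
        inf_le_left.trans (normalizer_commutator_ge_left D Y)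
      obtain ⟨w, hw, x, hx, e⟩ := (mem_sup_of_le_normalizer hCn).1 hd
      exact ⟨⟨w, hUD hw⟩, ⟨x, (mem_inf.1 hx).1⟩, hw, hx, Subtype.ext e.symm⟩
    have hsurj : Function.Surjective Φ := by
      rintro ⟨v, v'⟩
      obtain ⟨d, hd⟩ := b_surjective h c' hcV v
      obtain ⟨d', hd'⟩ := b_surjective h u' huV v'
      obtain ⟨w, x, hw, hx, rfl⟩ := hdec d
      obtain ⟨w', x', hw', hx', rfl⟩ := hdec d'
      refine ⟨x * w', ?_⟩
      have e1 : b h c' w = 1 := horth c hcC w hw
      have e2 : b h c' w' = 1 := horth c hcC w' hw'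
      have e3 : b h u' x = 1 := by rw [b_swap]; exact horth x hx u hu
      have e4 : b h u' x' = 1 := by rw [b_swap]; exact horth x' hx' u hu
      rw [b_mul_right, e1, one_mul] at hd
      rw [b_mul_right, e4, mul_one] at hd'
      refine Prod.ext ?_ ?_
      · show b h c' (x * w') = v
        rw [b_mul_right, e2, mul_one, hd]
      · show b h u' (x * w') = v'
        rw [b_mul_right, e3, one_mul, hd']
    have hcard := Φ.ker.card_mul_index
    rw [Subgroup.index_ker, MonoidHom.range_eq_top.2 hsurj, Subgroup.card_top, Nat.card_prod,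
      card_D h] at hcard
    have hker : Nat.card Φ.ker = Nat.card V := by
      refine Nat.eq_of_mul_eq_mul_right (Nat.mul_pos Nat.card_pos Nat.card_pos) (hcard.trans ?_)
      ring
    have hle : V.subgroupOf D ≤ Φ.ker := fun v hv => Prod.ext
      (Subtype.ext (commutatorElement_eq_one_iff_commute.2 (h.cent v hv c hcD).symm))
      (Subtype.ext (commutatorElement_eq_one_iff_commute.2 (h.cent v hv u (hUD hu)).symm))
    have heq := eq_of_le_of_card_ge hle (by
      rw [hker, Nat.card_congr (subgroupOfEquivOfLe h.le).toEquiv])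
    have hc' : c' ∈ Φ.ker := Prod.ext (Subtype.ext (commutatorElement_self c)) (by
      show b h u' c' = 1
      rw [b_swap]; exact horth c hcC u hu)
    rw [← heq] at hc'
    exact hcV hc'
  have hbot : ⁅D, Y⁆ = ⊥ := by
    refine commutator_eq_bot_of_commutator_commutator (coprime_of_le hcop le_rfl hUD) ?_
    rw [commutator_eq_bot_iff_le_centralizer]
    intro x hx
    exact centralizer_le hYR (h.rfix (hUV hx))
  intro d hd
  exact (commutatorElement_eq_one_iff_commute.1 (Subgroup.mem_bot.1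
    (hbot ▸ commutator_mem_commutator hd (mem_zpowers y)))).symm

/-- A 2-element whose action commutes with that of a non-trivial element of `R` lies in `D`. -/
theorem twist (h : Sys V D R N) {p y : G} (hp : p ∈ normalizer (D : Set G))
    (hpV : ∀ v ∈ V, Commute p v) (hp2 : p ^ 2 ∈ V) (hy : y ∈ R)
    (hne : ∃ d ∈ D, ¬ Commute y d)
    (hc : ∀ d ∈ D, p * (y * d * y⁻¹) * p⁻¹ = y * (p * d * p⁻¹) * y⁻¹) : p ∈ D := by
  have hpD : ∀ d ∈ D, p * d * p⁻¹ ∈ D := fun d hd => (mem_normalizer_iff.1 hp d).1 hd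
  let μ : G → G := fun k => p * k * p⁻¹ * k⁻¹
  have μmul : ∀ k ∈ D, ∀ l ∈ D, μ k ∈ V → μ l ∈ V → μ (k * l) = μ k * μ l := by
    intro k hk l hl _ hlV
    have hc := (h.cent _ hlV k hk).eq
    calc μ (k * l) = p * k * p⁻¹ * (μ l * k⁻¹) := by simp only [μ]; group
      _ = p * k * p⁻¹ * k⁻¹ * (k * μ l) * k⁻¹ := by group
      _ = p * k * p⁻¹ * k⁻¹ * (μ l * k) * k⁻¹ := by rw [hc]
      _ = μ k * μ l := by simp only [μ]; group
  let Kt : Subgroup G := {
    carrier := {k | k ∈ D ∧ μ k ∈ V}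
    one_mem' := ⟨one_mem D, by simp [μ]⟩
    mul_mem' := fun {k l} hk hl => ⟨mul_mem hk.1 hl.1, by
      rw [μmul k hk.1 l hl.1 hk.2 hl.2]; exact mul_mem hk.2 hl.2⟩
    inv_mem' := fun {k} hk => ⟨inv_mem hk.1, by
      have hc := (h.cent _ (inv_mem hk.2) k hk.1).eq
      have e : μ k⁻¹ = k⁻¹ * (μ k)⁻¹ * k := by simp only [μ]; group
      rw [e, mul_assoc, hc, inv_mul_cancel_left]
      exact inv_mem hk.2⟩ }
  let Z : Subgroup G := {
    carrier := {k | p * k * p⁻¹ = k}
    one_mem' := by simp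
    mul_mem' := fun {k l} (hk : p * k * p⁻¹ = k) (hl : p * l * p⁻¹ = l) => by
      show p * (k * l) * p⁻¹ = k * l
      conv_rhs => rw [← hk, ← hl]
      group
    inv_mem' := fun {k} (hk : p * k * p⁻¹ = k) => by
      show p * k⁻¹ * p⁻¹ = k⁻¹
      conv_rhs => rw [← hk]
      group }
  have hYR : zpowers y ≤ R := zpowers_le.2 hy
  have hpow : ∀ z ∈ zpowers y, ∀ k ∈ Kt, z * k * z⁻¹ ∈ Kt ∧ μ (z * k * z⁻¹) = μ k := by
    intro z hz
    obtain ⟨i, rfl⟩ := mem_powers_iff_mem_zpowers.2 hz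
    induction i with
    | zero => intro k hk; simpa using hk
    | succ i ih =>
      intro k hk
      obtain ⟨h1, h2⟩ := ih (Submonoid.mem_powers_iff _ _ |>.2 ⟨i, rfl⟩ |> mem_powers_iff_mem_zpowers.1) k hk
      set l := y ^ i * k * (y ^ i)⁻¹ with hl
      have e : y ^ (i + 1) * k * (y ^ (i + 1))⁻¹ = y * l * y⁻¹ := by rw [hl, pow_succ']; group
      have e2 : μ (y * l * y⁻¹) = μ l := by
        have hv := mem_centralizer_iff.1 (h.rfix h1.2) y hy
        calc μ (y * l * y⁻¹) = p * (y * l * y⁻¹) * p⁻¹ * (y * l⁻¹ * y⁻¹) := by simp only [μ]; group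
          _ = y * μ l * y⁻¹ := by rw [hc l h1.1]; simp only [μ]; group
          _ = μ l := by rw [hv, mul_inv_cancel_right]
      show y ^ (i + 1) * k * (y ^ (i + 1))⁻¹ ∈ Kt ∧ _
      rw [e]
      refine ⟨⟨le_normalizer_iff.1 h.rnorm y hy l h1.1, ?_⟩, e2.trans h2⟩
      show μ (y * l * y⁻¹) ∈ V
      rw [e2]; exact h1.2
  have hKD : Kt ≤ D := fun k hk => hk.1
  have hKZ : Kt ≤ Z := by
    have hn : zpowers y ≤ normalizer (Kt : Set G) :=
      le_normalizer_iff.2 fun z hz k hk => (hpow z hz k hk).1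
    have hcop : (Nat.card (zpowers y)).Coprime (Nat.card Kt) := by
      obtain ⟨m, hm⟩ := (IsPGroup.iff_card (p := 2)).1 (h.pgroup.to_le hKD)
      rw [hm]
      exact Nat.Coprime.pow_right m (Nat.coprime_two_right.2
        (h.odd.of_dvd_nat (card_dvd_of_le hYR)))
    rw [← commutator_sup_centralizer hn hcop (Or.inl (isSolvable_zpowers y))]
    refine sup_le (commutator_le.2 fun k hk z hz => ?_) fun x hx => ?_
    · obtain ⟨h1, h2⟩ := hpow z hz k⁻¹ (inv_mem hk)
      have hm : μ ⁅k, z⁆ = 1 := by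
        have e : ⁅k, z⁆ = k * (z * k⁻¹ * z⁻¹) := by rw [commutatorElement_def]; group
        rw [e, μmul k hk.1 _ h1.1 hk.2 h1.2, h2, ← μmul k hk.1 _ (inv_mem hk).1 hk.2 (inv_mem hk).2,
          mul_inv_cancel]
        simp [μ]
      exact mul_inv_eq_one.1 hm
    · obtain ⟨hxK, hxc⟩ := mem_inf.1 hx
      have hxV : x ∈ V := by
        by_contra hxV
        obtain ⟨d, hd, hnd⟩ := hne
        exact hnd (fixedPointFree h hy (hKD hxK) hxV
          (mem_centralizer_iff.1 hxc y (mem_zpowers y)) d hd)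
      show p * x * p⁻¹ = x
      rw [(hpV x hxV).eq, mul_inv_cancel_right]
  have hfixD : ∀ w ∈ D, p * w * p⁻¹ = w := by
    intro w hw
    set w' := p * w * p⁻¹ with hw'
    have hw'D : w' ∈ D := hpD w hw
    have hpp : p * w' * p⁻¹ = w := by
      have e := (h.cent _ hp2 w hw).eq
      calc p * w' * p⁻¹ = p ^ 2 * w * (p ^ 2)⁻¹ := by rw [hw', pow_two]; group
        _ = w := by rw [e, mul_inv_cancel_right]
    have hkp : p * (w * w') * p⁻¹ = w' * w := by
      calc p * (w * w') * p⁻¹ = p * w * p⁻¹ * (p * w' * p⁻¹) := by group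
        _ = w' * w := by rw [hpp]
    have hmu : μ (w * w') ∈ V := by
      simp only [μ]
      rw [hkp, show w' * w * (w * w')⁻¹ = ⁅w', w⁆ by rw [commutatorElement_def]; group]
      exact h.comm (commutator_mem_commutator hw'D hw)
    have hfix : p * (w * w') * p⁻¹ = w * w' := hKZ (show w * w' ∈ Kt from ⟨mul_mem hw hw'D, hmu⟩)
    have hww : Commute w w' := (hkp.symm.trans hfix).symm
    have hk2 : (w * w') ^ 2 = 1 := by
      rw [hww.mul_pow, hw', conj_pow, (hpV _ (h.sq w hw)).eq, mul_inv_cancel_right, ← pow_add,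
        show 2 + 2 = 2 * 2 by norm_num, pow_mul]
      exact h.elem _ (h.sq w hw)
    have hmuw : μ w ∈ V := by
      have hkV : w * w' ∈ V := h.invol _ hk2
      have e : μ w = (w ^ 2)⁻¹ * (w * w') := by
        calc μ w = w' * w⁻¹ := rfl
          _ = w⁻¹ * w' := (hww.symm.inv_right).eq
          _ = (w ^ 2)⁻¹ * (w * w') := by rw [pow_two]; group
      rw [e]; exact mul_mem (inv_mem (h.sq w hw)) hkV
    exact hKZ (show w ∈ Kt from ⟨hw, hmuw⟩)
  by_cases hp1 : p ^ 2 = 1
  · exact h.le (h.invol p hp1)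
  obtain ⟨d, hd, e⟩ := sq_surjective h hp2 hp1
  have hc' : Commute p d := by
    have := hfixD d hd
    calc p * d = p * d * p⁻¹ * p := by group
      _ = d * p := by rw [this]
  have hz : d⁻¹ * p ∈ V := h.invol _ (by
    rw [(hc'.symm.inv_left).mul_pow, inv_pow, e, inv_mul_cancel])
  simpa using mul_mem hd (h.le hz)

/-- No 2-group acting on `(D, R)` contains two elements with different squares in `V`. -/
theorem no_two_squares (h : Sys V D R N) {T : Subgroup G} (hT : IsPGroup 2 T)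
    (hTD : T ≤ normalizer (D : Set G)) (hTR : T ≤ normalizer (R : Set G))
    (hTV : T ≤ centralizer (V : Set G)) (hTDV : T ⊓ D ≤ V)
    (hne : ∃ y ∈ R, ∃ d ∈ D, ¬ Commute y d) {p q : G} (hp : p ∈ T) (hq : q ∈ T)
    (hpV : p ∉ V) (hqV : q ∉ V) (hp2 : p ^ 2 ∈ V) (hq2 : q ^ 2 ∈ V) (hpq : p ^ 2 ≠ q ^ 2) :
    False := by
  set L := normalizer (D : Set G) with hL
  let φ : L →* MulAut D := normalizerMonoidHom D
  have hφ : ∀ (x : L) (d : D), ((φ x d : D) : G) = (x : G) * d * (x : G)⁻¹ := fun _ _ => rfl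
  have hcomm : ∀ (g : G) (hg : g ∈ T) (z : G) (hz : z ∈ R), g ∉ V → g ^ 2 ∈ V →
      φ ⟨g, hTD hg⟩ * φ ⟨z, h.rnorm hz⟩ = φ ⟨z, h.rnorm hz⟩ * φ ⟨g, hTD hg⟩ →
      φ ⟨z, h.rnorm hz⟩ = 1 := by
    intro g hg z hz hgV hg2 e
    by_contra hne1
    have hex : ∃ d ∈ D, ¬ Commute z d := by
      by_contra hall
      push Not at hall
      refine hne1 (MulEquiv.ext fun d => Subtype.ext ?_)
      rw [hφ]
      show z * d * z⁻¹ = d
      rw [(hall d d.2).eq, mul_inv_cancel_right]
    refine hgV (hTDV (mem_inf.2 ⟨hg, twist h (hTD hg)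
      (fun v hv => (mem_centralizer_iff.1 (hTV hg) v hv).symm) hg2 hz hex fun d hd => ?_⟩))
    have := congrArg (fun a : MulAut D => ((a ⟨d, hd⟩ : D) : G)) e
    simpa [MulAut.mul_apply, hφ] using this
  have hsq1 : ∀ (g : G) (hg : g ∈ T), g ^ 2 ∈ V →
      φ ⟨g, hTD hg⟩ * φ ⟨g, hTD hg⟩ = 1 := by
    intro g hg hg2
    refine MulEquiv.ext fun d => Subtype.ext ?_
    rw [MulAut.mul_apply, hφ, hφ]
    show g * (g * d * g⁻¹) * g⁻¹ = d
    have e := (h.cent _ hg2 d d.2).eq
    calc g * (g * d * g⁻¹) * g⁻¹ = g ^ 2 * d * (g ^ 2)⁻¹ := by rw [pow_two]; group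
      _ = d := by rw [e, mul_inv_cancel_right]
  set Rb : Subgroup (MulAut D) := (R.subgroupOf L).map φ with hRb
  have hmem : ∀ x ∈ Rb, ∃ (z : G) (hz : z ∈ R), φ ⟨z, h.rnorm hz⟩ = x := by
    rintro _ ⟨z, hz, rfl⟩
    exact ⟨z, hz, rfl⟩
  have hinv : ∀ (g : G) (hg : g ∈ T), g ∉ V → g ^ 2 ∈ V →
      ∀ x ∈ Rb, φ ⟨g, hTD hg⟩ * x * (φ ⟨g, hTD hg⟩)⁻¹ = x⁻¹ := by
    intro g hg hgV hg2
    set a := φ ⟨g, hTD hg⟩ with ha
    have hst : ∀ x ∈ Rb, a * x * a⁻¹ ∈ Rb := by
      intro x hx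
      obtain ⟨z, hz, rfl⟩ := hmem x hx
      rw [ha, ← map_inv, ← map_mul, ← map_mul]
      exact mem_map_of_mem φ (show g * z * g⁻¹ ∈ R from le_normalizer_iff.1 hTR g hg z hz)
    let σ : Rb →* Rb := MonoidHom.mk' (fun x => ⟨a * x * a⁻¹, hst x x.2⟩) fun x x' => by
      apply Subtype.ext; simp only [Subgroup.coe_mul]; group
    have hfpf : MonoidHom.FixedPointFree σ := by
      intro x hx
      obtain ⟨z, hz, e⟩ := hmem x x.2
      refine Subtype.ext ?_
      rw [← e]
      refine hcomm g hg z hz hgV hg2 ?_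
      rw [e]
      exact mul_inv_eq_iff_eq_mul.1 (congrArg Subtype.val hx)
    have hsi : a⁻¹ = a := inv_eq_of_mul_eq_one_right (hsq1 g hg hg2)
    have hinvol : Function.Involutive σ := fun x => Subtype.ext (by
      show a * (a * x * a⁻¹) * a⁻¹ = x
      rw [hsi, show a * (a * (x : MulAut D) * a) * a = (a * a) * x * (a * a) by group,
        hsq1 g hg hg2, one_mul, mul_one])
    intro x hx
    exact congrArg Subtype.val (congrFun (hfpf.coe_eq_inv_of_involutive hinvol) ⟨x, hx⟩)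
  have hgT : p * q ∈ T := mul_mem hp hq
  have hgV : p * q ∉ V := by
    intro hg
    have hpg : Commute p⁻¹ (p * q) :=
      Commute.inv_left (show Commute p (p * q) from (mem_centralizer_iff.1 (hTV hp) _ hg).symm)
    refine hpq ?_
    have e : q ^ 2 = (p ^ 2)⁻¹ := by
      calc q ^ 2 = (p⁻¹ * (p * q)) ^ 2 := by rw [inv_mul_cancel_left]
        _ = (p ^ 2)⁻¹ := by rw [hpg.mul_pow, h.elem _ hg, mul_one, inv_pow]
    rw [e, eq_inv_iff_mul_eq_one, ← pow_two, h.elem _ hp2]
  classical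
  obtain ⟨i, hi⟩ := hT ⟨p * q, hgT⟩
  have hex : ∃ i, (p * q) ^ 2 ^ i ∈ V := ⟨i, by
    rw [show (p * q) ^ 2 ^ i = 1 from congrArg Subtype.val hi]; exact one_mem V⟩
  obtain ⟨j, hj⟩ : ∃ j, Nat.find hex = j + 1 := Nat.exists_eq_succ_of_ne_zero fun e => hgV (by
    have := Nat.find_spec hex
    rwa [e, pow_zero, pow_one] at this)
  set g := (p * q) ^ 2 ^ j with hg
  have hg2 : g ^ 2 ∈ V := by
    rw [hg, ← pow_mul, ← pow_succ, ← hj]; exact Nat.find_spec hex
  have hg1 : g ∉ V := Nat.find_min hex (by omega)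
  obtain ⟨y, hy, d, hd, hnd⟩ := hne
  have hx : φ ⟨y, h.rnorm hy⟩ ∈ Rb := mem_map_of_mem φ (show y ∈ R from hy)
  set x := φ ⟨y, h.rnorm hy⟩ with hxdef
  set a := φ ⟨p, hTD hp⟩ with hadef
  set c := φ ⟨q, hTD hq⟩ with hcdef
  have hac : Commute (a * c) x := by
    have e1 := hinv p hp hpV hp2 _ (inv_mem hx)
    have e2 := hinv q hq hqV hq2 _ hx
    rw [inv_inv] at e1
    refine mul_inv_eq_iff_eq_mul.1 ?_
    calc a * c * x * (a * c)⁻¹ = a * (c * x * c⁻¹) * a⁻¹ := by group
      _ = x := by rw [e2, e1]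
  have hgx : Commute (φ ⟨g, hTD (pow_mem hgT _)⟩) x := by
    have e : φ ⟨g, hTD (pow_mem hgT _)⟩ = (a * c) ^ 2 ^ j := by
      rw [hadef, hcdef, ← map_mul, ← map_pow]; rfl
    rw [e]; exact hac.pow_left _
  have h1 := hcomm g (pow_mem hgT _) y hy hg1 hg2 hgx.eq
  refine hnd ?_
  have h2 := congrArg (fun a : MulAut D => ((a ⟨d, hd⟩ : D) : G)) h1
  simp only [hφ, MulAut.one_apply] at h2
  exact mul_inv_eq_iff_eq_mul.1 h2

end CfsgLib.Coprime.AnisotropicSquares
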