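import Cfsg.Agent.Lib.Fusion.Basic
import Cfsg.Agent.Lib.PGroup.IndexPow
import Cfsg.Prelude.Def_Solvable
import Mathlib

/-!
# Disconnected prime graphs on class sizes

`A` is a set of primes such that no class size has prime divisors both in `A` and outside it, and the
group has a normal `p`-complement for every `p` in `A`.  Then the common kernel `K` of the
complements is abelian, so is the quotient, and `G / Z(G)` is a Frobenius group.
-/

set_option autoImplicit false
set_option linter.unusedSectionVars false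

namespace CfsgLib.Coprime.ClassSizeGraph

open scoped commutatorElement Pointwise

variable {G : Type*} [Group G] [Finite G]

/-- The size of the class of `g`. -/
noncomputable def csz (g : G) : ℕ := (Subgroup.centralizer ({g} : Set G)).index

theorem csz_ne_zero (g : G) : csz g ≠ 0 := Subgroup.index_ne_zero_of_finite

theorem csz_dvd_of_le {a g : G}
    (h : Subgroup.centralizer ({g} : Set G) ≤ Subgroup.centralizer ({a} : Set G)) :
    csz a ∣ csz g := Subgroup.index_dvd_of_le h

theorem centralizer_le_pow (g : G) (n : ℕ) :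
    Subgroup.centralizer ({g} : Set G) ≤ Subgroup.centralizer ({g ^ n} : Set G) := fun x hx => by
  rw [Subgroup.mem_centralizer_singleton_iff] at hx ⊢
  exact (Commute.pow_right (show Commute x g from hx) n).eq

theorem csz_pow_dvd (g : G) (n : ℕ) : csz (g ^ n) ∣ csz g :=
  csz_dvd_of_le (centralizer_le_pow g n)

theorem csz_conj (g x : G) : csz (x * g * x⁻¹) = csz g := by
  have h : Subgroup.centralizer ({x * g * x⁻¹} : Set G) =
      (Subgroup.centralizer ({g} : Set G)).comap (MulAut.conj x⁻¹).toMonoidHom := by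
    ext y
    rw [Subgroup.mem_comap, Subgroup.mem_centralizer_singleton_iff,
      Subgroup.mem_centralizer_singleton_iff]
    simp only [MulEquiv.coe_toMonoidHom, MulAut.conj_apply, inv_inv]
    constructor
    · intro h
      calc x⁻¹ * y * x * g = x⁻¹ * (y * (x * g * x⁻¹)) * x := by group
        _ = x⁻¹ * ((x * g * x⁻¹) * y) * x := by rw [h]
        _ = g * (x⁻¹ * y * x) := by group
    · intro h
      calc y * (x * g * x⁻¹) = x * (x⁻¹ * y * x * g) * x⁻¹ := by group
        _ = x * (g * (x⁻¹ * y * x)) * x⁻¹ := by rw [h]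
        _ = x * g * x⁻¹ * y := by group
  unfold csz
  rw [h, Subgroup.index_comap_of_surjective _ (MulAut.conj x⁻¹).surjective]

theorem csz_eq_one {g : G} (h : csz g = 1) : g ∈ Subgroup.center G := by
  rw [Subgroup.mem_center_iff]
  intro x
  have hx : x ∈ Subgroup.centralizer ({g} : Set G) := by
    rw [Subgroup.index_eq_one.1 h]; exact Subgroup.mem_top x
  exact Subgroup.mem_centralizer_singleton_iff.1 hx

/-- A factor of a commuting product of coprime orders is a power of the product. -/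
theorem exists_pow_eq_left {a b : G} (hab : Commute a b) {m n : ℕ} (ha : a ^ m = 1) (hb : b ^ n = 1)
    (hmn : Nat.Coprime m n) : ∃ c : ℕ, (a * b) ^ c = a := by
  obtain ⟨c, h1, h0⟩ := Nat.chineseRemainder hmn 1 0
  refine ⟨c, ?_⟩
  rw [hab.mul_pow,
    pow_eq_pow_mod c (show b ^ n = 1 from hb), show c % n = 0 % n from h0, Nat.zero_mod, pow_zero,
    mul_one, pow_eq_pow_mod c ha, show c % m = 1 % m from h1, ← pow_eq_pow_mod 1 ha, pow_one]

theorem csz_dvd_mul {a b : G} (hab : Commute a b) {m n : ℕ} (ha : a ^ m = 1) (hb : b ^ n = 1)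
    (hmn : Nat.Coprime m n) : csz a ∣ csz (a * b) ∧ csz b ∣ csz (a * b) := by
  obtain ⟨c, hc⟩ := exists_pow_eq_left hab ha hb hmn
  obtain ⟨d, hd⟩ := exists_pow_eq_left hab.symm hb ha hmn.symm
  rw [← hab.eq] at hd
  constructor
  · conv_lhs => rw [← hc]
    exact csz_pow_dvd _ _
  · conv_lhs => rw [← hd]
    exact csz_pow_dvd _ _

theorem relIndex_dvd_index_of_normal' (C K : Subgroup G) [K.Normal] : C.relIndex K ∣ C.index := by
  obtain ⟨m, hm⟩ := Subgroup.relIndex_dvd_index_of_normal K C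
  have h1 := (K.subgroupOf C).card_mul_index
  have h2 := (C.subgroupOf K).card_mul_index
  have hiso : Nat.card (K.subgroupOf C) = Nat.card (C.subgroupOf K) := by
    rw [← Subgroup.card_map_of_injective C.subtype_injective,
      ← Subgroup.card_map_of_injective K.subtype_injective, Subgroup.subgroupOf_map_subtype,
      Subgroup.subgroupOf_map_subtype, inf_comm]
  change _ * K.relIndex C = _ at h1
  change _ * C.relIndex K = _ at h2
  refine ⟨m, Nat.eq_of_mul_eq_mul_left (Nat.card_pos (α := C)) ?_⟩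
  rw [C.card_mul_index, ← K.card_mul_index, hm, ← h2, ← h1, hiso]
  ring

theorem le_centralizer_of_coprime (K : Subgroup G) [K.Normal] (g : G)
    (h : Nat.Coprime (csz g) (Nat.card K)) : K ≤ Subgroup.centralizer ({g} : Set G) := by
  rw [← Subgroup.relIndex_eq_one]
  exact Nat.eq_one_of_dvd_coprimes h (relIndex_dvd_index_of_normal' _ K)
    (((Subgroup.centralizer ({g} : Set G)).subgroupOf K).index_dvd_card)

/-- A set of primes cutting the class size graph. -/
structure Split (G : Type*) [Group G] (A : ℕ → Prop) : Prop where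
  prime : ∀ p, A p → p.Prime
  side : ∀ g : G, (∀ p : ℕ, p.Prime → p ∣ csz g → A p) ∨ (∀ p : ℕ, p.Prime → p ∣ csz g → ¬ A p)
  npc : ∀ p, A p → Cfsg.HasNormalPComplement p G
  exA : ∃ (g : G) (p : ℕ), A p ∧ p ∣ csz g
  exB : ∃ (g : G) (q : ℕ), q.Prime ∧ ¬ A q ∧ q ∣ csz g

variable {A : ℕ → Prop}

/-- The common kernel. -/
def kern (G : Type*) [Group G] (A : ℕ → Prop) : Subgroup G := ⨅ p : {p // A p}, Cfsg.pResidual p.1 G

theorem mem_kern (hS : Split G A) {g : G} :
    g ∈ kern G A ↔ ∀ p, A p → ¬ p ∣ orderOf g := by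
  simp only [kern, Subgroup.mem_iInf, Subtype.forall]
  refine forall₂_congr fun p hp => ?_
  have := Fact.mk (hS.prime p hp)
  rw [Fusion.Basic.mem_pResidual_iff (hS.npc p hp), Nat.coprime_comm,
    (hS.prime p hp).coprime_iff_not_dvd]

theorem kern_normal (hS : Split G A) : (kern G A).Normal := by
  refine ⟨fun n hn g => ?_⟩
  rw [mem_kern hS] at hn ⊢
  rwa [show g * n * g⁻¹ = (MulAut.conj g).toMonoidHom n from rfl,
    orderOf_injective _ (MulAut.conj g).injective]

theorem not_dvd_card_kern (hS : Split G A) {p : ℕ} (hp : A p) : ¬ p ∣ Nat.card (kern G A) := by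
  have := Fact.mk (hS.prime p hp)
  intro hd
  obtain ⟨x, hx⟩ := exists_prime_orderOf_dvd_card' p hd
  exact (mem_kern hS).1 x.2 p hp (by rw [Subgroup.orderOf_coe, hx])

theorem prime_dvd_index_kern (hS : Split G A) {r : ℕ} (hr : r.Prime)
    (hd : r ∣ (kern G A).index) : A r := by
  by_contra hA
  have := Fact.mk hr
  let R : Sylow r G := default
  have hle : (R : Subgroup G) ≤ kern G A := by
    intro x hx
    rw [mem_kern hS]
    intro p hp hdvd
    obtain ⟨j, hj⟩ := IsPGroup.iff_orderOf.1 R.2 ⟨x, hx⟩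
    rw [Subgroup.orderOf_mk] at hj
    have h1 : p ∣ r := (hS.prime p hp).dvd_of_dvd_pow (hj ▸ hdvd)
    exact hA ((Nat.prime_dvd_prime_iff_eq (hS.prime p hp) hr).1 h1 ▸ hp)
  exact R.not_dvd_index (hd.trans (Subgroup.index_dvd_of_le hle))

theorem coprime_kern (hS : Split G A) : Nat.Coprime (Nat.card (kern G A)) (kern G A).index :=
  Nat.coprime_of_dvd fun r hr h1 h2 => not_dvd_card_kern hS (prime_dvd_index_kern hS hr h2) h1

theorem le_centralizer_kern (hS : Split G A) {g : G}
    (h : ∀ p : ℕ, p.Prime → p ∣ csz g → A p) :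
    kern G A ≤ Subgroup.centralizer ({g} : Set G) := by
  have := kern_normal hS
  exact le_centralizer_of_coprime _ g
    (Nat.coprime_of_dvd fun r hr h1 h2 => not_dvd_card_kern hS (h r hr h1) h2)

/-- An element splits into its two parts. -/
theorem exists_parts (hS : Split G A) (g : G) : ∃ a k : G, Commute a k ∧ a * k = g ∧
    a ^ (kern G A).index = 1 ∧ k ∈ kern G A ∧ k ^ Nat.card (kern G A) = 1 ∧
    csz a ∣ csz g ∧ csz k ∣ csz g := by
  set m := (kern G A).index
  set n := Nat.card (kern G A)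
  have hmn : Nat.Coprime m n := (coprime_kern hS).symm
  have hg : g ^ (n * m) = 1 := by
    rw [(kern G A).card_mul_index]; exact pow_card_eq_one'
  obtain ⟨c, hc1, hc0⟩ := Nat.chineseRemainder hmn 1 0
  obtain ⟨d, hd0, hd1⟩ := Nat.chineseRemainder hmn 0 1
  have hcm : (g ^ c) ^ m = 1 := by
    rw [← pow_mul]
    obtain ⟨j, hj⟩ := Nat.modEq_zero_iff_dvd.1 hc0
    rw [hj, show n * j * m = n * m * j by ring, pow_mul, hg, one_pow]
  have hdn : (g ^ d) ^ n = 1 := by
    rw [← pow_mul]
    obtain ⟨j, hj⟩ := Nat.modEq_zero_iff_dvd.1 hd0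
    rw [hj, show m * j * n = n * m * j by ring, pow_mul, hg, one_pow]
  refine ⟨g ^ c, g ^ d, Commute.pow_pow (Commute.refl g) c d, ?_, hcm, ?_, hdn,
    csz_pow_dvd g c, csz_pow_dvd g d⟩
  · have h : c + d ≡ 1 [MOD m * n] :=
      (Nat.modEq_and_modEq_iff_modEq_mul hmn).1 ⟨by simpa using hc1.add hd0, by simpa using hc0.add hd1⟩
    rw [← pow_add]
    conv_rhs => rw [← pow_one g]
    exact pow_eq_pow_iff_modEq.2 (h.of_dvd (orderOf_dvd_of_pow_eq_one (mul_comm n m ▸ hg)))
  · rw [mem_kern hS]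
    exact fun p hp hd => not_dvd_card_kern hS hp (hd.trans (orderOf_dvd_of_pow_eq_one hdn))

theorem center_of_centralizes (hS : Split G A) (hder : commutator G ≤ kern G A) {a : G}
    (ha : a ^ (kern G A).index = 1) (hK : ∀ k ∈ kern G A, k * a = a * k) :
    a ∈ Subgroup.center G := by
  rw [Subgroup.mem_center_iff]
  intro x
  have hz : ⁅x, a⁆ ∈ kern G A :=
    hder (Subgroup.commutator_mem_commutator (Subgroup.mem_top x) (Subgroup.mem_top a))
  have hc : Commute ⁅x, a⁆ a := hK _ hz
  have h1 : (⁅x, a⁆ * a) ^ (kern G A).index = 1 := by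
    rw [show ⁅x, a⁆ * a = x * a * x⁻¹ by simp [commutatorElement_def], conj_pow, ha]; group
  rw [hc.mul_pow, ha, mul_one] at h1
  have h2 : ⁅x, a⁆ ^ Nat.card (kern G A) = 1 :=
    congrArg Subtype.val (pow_card_eq_one' (x := (⟨_, hz⟩ : kern G A)))
  exact commutatorElement_eq_one_iff_mul_comm.1 (orderOf_eq_one_iff.1
    (Nat.eq_one_of_dvd_coprimes (coprime_kern hS) (orderOf_dvd_of_pow_eq_one h2)
      (orderOf_dvd_of_pow_eq_one h1)))

theorem sylow_pow_index (hS : Split G A) {p : ℕ} [Fact p.Prime] (hp : A p) (P : Sylow p G) {a : G}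
    (ha : a ∈ (P : Subgroup G)) : a ^ (kern G A).index = 1 := by
  obtain ⟨j, hj⟩ := IsPGroup.iff_card.1 P.2
  refine orderOf_dvd_iff_pow_eq_one.1 ((Subgroup.orderOf_dvd_natCard _ ha).trans ?_)
  rw [hj]
  have h1 : p ^ j ∣ Nat.card (kern G A) * (kern G A).index := by
    rw [Subgroup.card_mul_index, ← hj]; exact Subgroup.card_subgroup_dvd_card _
  exact Nat.Coprime.dvd_of_dvd_mul_left (Nat.Coprime.pow_left _
    ((hS.prime p hp).coprime_iff_not_dvd.2 (not_dvd_card_kern hS hp))) h1

theorem exists_sylow_le_centralizer {p : ℕ} [Fact p.Prime] {g : G} (h : ¬ p ∣ csz g) :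
    ∃ P : Sylow p G, (P : Subgroup G) ≤ Subgroup.centralizer ({g} : Set G) := by
  let Q : Sylow p (Subgroup.centralizer ({g} : Set G)) := default
  obtain ⟨P, hP⟩ := (Q.2.map (Subgroup.centralizer ({g} : Set G)).subtype).exists_le_sylow
  have h1 : Nat.card ((Q : Subgroup _).map (Subgroup.centralizer ({g} : Set G)).subtype) =
      Nat.card (P : Subgroup G) := by
    rw [Subgroup.card_map_of_injective (Subgroup.subtype_injective _), Q.card_eq_multiplicity,
      P.card_eq_multiplicity, ← (Subgroup.centralizer ({g} : Set G)).card_mul_index,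
      Nat.factorization_mul Nat.card_pos.ne' Subgroup.index_ne_zero_of_finite, Finsupp.add_apply,
      Nat.factorization_eq_zero_of_not_dvd
        (show ¬ p ∣ (Subgroup.centralizer ({g} : Set G)).index from h),
      add_zero]
  exact ⟨P, (Subgroup.eq_of_le_of_card_ge hP h1.ge) ▸ Subgroup.map_subtype_le _⟩

/-- A `p`-element whose class size is prime to `p` commutes with its Sylow subgroups. -/
theorem commute_of_not_dvd (hS : Split G A) {p : ℕ} [Fact p.Prime] (hp : A p) (P : Sylow p G)
    {a b : G} (ha : a ∈ (P : Subgroup G)) (hb : b ∈ (P : Subgroup G)) (h : ¬ p ∣ csz a) :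
    a * b = b * a := by
  obtain ⟨Q, hQ⟩ := exists_sylow_le_centralizer h
  obtain ⟨c, n, hn, hc⟩ : ∃ c n, n ∈ Cfsg.pResidual p G ∧
      c ∈ Subgroup.centralizer ({a} : Set G) ∧ b = n * c := by
    obtain ⟨k, hk, x, hx, he⟩ := Subgroup.mem_sup_of_normal_left.1
      (show b ∈ Cfsg.pResidual p G ⊔ (Q : Subgroup G) by
        rw [Fusion.Basic.pResidual_sup_sylow Q]; trivial)
    exact ⟨x, k, hk, hQ hx, he.symm⟩
  have hmem : ⁅a, b⁆ ∈ Cfsg.pResidual p G := by
    have hca : c * a = a * c := Subgroup.mem_centralizer_singleton_iff.1 hc.1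
    have hN : (Cfsg.pResidual p G).Normal := inferInstance
    rw [hc.2, show ⁅a, n * c⁆ = (a * n * a⁻¹) * (a * c * a⁻¹ * c⁻¹) * n⁻¹ by
      simp [commutatorElement_def, mul_assoc], show a * c * a⁻¹ * c⁻¹ = 1 by
      rw [← hca]; group, mul_one]
    exact mul_mem (hN.conj_mem n hn a) (inv_mem hn)
  have hP : ⁅a, b⁆ ∈ (P : Subgroup G) := by
    rw [commutatorElement_def]
    exact mul_mem (mul_mem (mul_mem ha hb) (inv_mem ha)) (inv_mem hb)
  refine commutatorElement_eq_one_iff_mul_comm.1 (orderOf_eq_one_iff.1 ?_)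
  obtain ⟨j, hj⟩ := IsPGroup.iff_card.1 P.2
  refine Nat.eq_one_of_dvd_coprimes (Nat.Coprime.pow_right j
    ((Fusion.Basic.mem_pResidual_iff (hS.npc p hp)).1 hmem)) dvd_rfl ?_
  rw [← hj]
  exact Subgroup.orderOf_dvd_natCard _ hP

theorem commutator_le_kern (hS : Split G A)
    (h : ∀ p, A p → ∀ [Fact p.Prime], ∀ P : Sylow p G, ∀ a ∈ (P : Subgroup G),
      ∀ b ∈ (P : Subgroup G), a * b = b * a) : commutator G ≤ kern G A := by
  refine le_iInf fun ⟨p, hp⟩ => ?_
  have := Fact.mk (hS.prime p hp)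
  let P : Sylow p G := default
  rw [commutator_def, Subgroup.commutator_le]
  intro x _ y _
  obtain ⟨m, hm, a, ha, rfl⟩ := Subgroup.mem_sup_of_normal_left.1
    (show x ∈ Cfsg.pResidual p G ⊔ (P : Subgroup G) by
      rw [Fusion.Basic.pResidual_sup_sylow P]; trivial)
  obtain ⟨n, hn, b, hb, rfl⟩ := Subgroup.mem_sup_of_normal_left.1
    (show y ∈ Cfsg.pResidual p G ⊔ (P : Subgroup G) by
      rw [Fusion.Basic.pResidual_sup_sylow P]; trivial)
  rw [← QuotientGroup.eq_one_iff, ← QuotientGroup.mk'_apply, map_commutatorElement, map_mul,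
    map_mul, QuotientGroup.mk'_apply, QuotientGroup.mk'_apply, QuotientGroup.mk'_apply,
    QuotientGroup.mk'_apply, (QuotientGroup.eq_one_iff m).2 hm, (QuotientGroup.eq_one_iff n).2 hn,
    one_mul, one_mul, commutatorElement_eq_one_iff_mul_comm, ← QuotientGroup.mk_mul,
    ← QuotientGroup.mk_mul, h p hp P a ha b hb]

/-- The kernel is abelian. -/
theorem kern_comm (hS : Split G A) : ∀ x ∈ kern G A, ∀ y ∈ kern G A, x * y = y * x := by
  by_contra hcon
  push Not at hcon
  set K := kern G A with hK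
  have hKn : K.Normal := kern_normal hS
  set V := K ⊓ Subgroup.centralizer (K : Set G) with hV
  have hnotA : ∀ k ∈ K, k ∉ V → ∀ p, A p → ¬ p ∣ csz k := by
    intro k hk hkV p hp hd
    rcases hS.side k with h | h
    · exact hkV ⟨hk, fun x hx =>
        Subgroup.mem_centralizer_singleton_iff.1 (le_centralizer_kern hS h hx)⟩
    · exact h p (hS.prime p hp) hd hp
  obtain ⟨k0, hk0, y0, hy0, hne⟩ := hcon
  have hk0V : k0 ∉ V := fun h => hne (h.2 y0 hy0).symm
  -- every `p`-element has class size prime to `p`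
  have hab : ∀ p, A p → ∀ [Fact p.Prime], ∀ P : Sylow p G, ∀ a ∈ (P : Subgroup G),
      ∀ b ∈ (P : Subgroup G), a * b = b * a := by
    intro p hp _ P a ha b hb
    refine commute_of_not_dvd hS hp P ha hb fun hd => ?_
    obtain ⟨Q, hQ⟩ := exists_sylow_le_centralizer (hnotA k0 hk0 hk0V p hp)
    obtain ⟨g, rfl⟩ := MulAction.exists_smul_eq G P Q
    have haQ : g * a * g⁻¹ ∈ ((g • P : Sylow p G) : Subgroup G) := by
      rw [Sylow.coe_subgroup_smul, Subgroup.mem_pointwise_smul_iff_inv_smul_mem]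
      simp [MulAut.smul_def, mul_assoc]
      exact ha
    have hcomm : Commute (g * a * g⁻¹) k0 :=
      Subgroup.mem_centralizer_singleton_iff.1 (hQ haQ)
    obtain ⟨h1, h2⟩ := csz_dvd_mul hcomm
      (sylow_pow_index hS hp (g • P) haQ)
      (show k0 ^ Nat.card K = 1 from congrArg Subtype.val (pow_card_eq_one' (x := (⟨k0, hk0⟩ : K))))
      (coprime_kern hS).symm
    rcases hS.side (g * a * g⁻¹ * k0) with h | h
    · refine hk0V ⟨hk0, fun x hx => Subgroup.mem_centralizer_singleton_iff.1
        (le_centralizer_kern hS (fun r hr hr1 => h r hr (hr1.trans h2)) hx)⟩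
    · exact h p (hS.prime p hp) ((csz_conj a g ▸ hd).trans h1) hp
  have hder := commutator_le_kern hS hab
  -- `V` is central
  have hVcen : ∀ v ∈ V, v ∈ Subgroup.center G := by
    intro v hv
    refine csz_eq_one (Nat.eq_one_iff_not_exists_prime_dvd.2 fun r hr hd => ?_)
    have hKv : K ≤ Subgroup.centralizer ({v} : Set G) := fun x hx =>
      Subgroup.mem_centralizer_singleton_iff.2 (hv.2 x hx)
    have hA : A r := prime_dvd_index_kern hS hr (hd.trans (Subgroup.index_dvd_of_le hKv))
    have := Fact.mk hr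
    let P : Sylow r G := default
    suffices hle : (P : Subgroup G) ≤ Subgroup.centralizer ({v} : Set G) from
      P.not_dvd_index (hd.trans (Subgroup.index_dvd_of_le hle))
    set D := K ⊓ Subgroup.centralizer ((P : Subgroup G) : Set G) with hD
    set W := (D ⊔ V).subgroupOf K with hW
    have hM : (K ⊔ (P : Subgroup G)).Normal :=
      Subgroup.Normal.of_commutator_le _ (hder.trans le_sup_left)
    have hcoverD : ∀ k ∈ K, k ∉ V → ∃ a ∈ K, a⁻¹ * k * a ∈ D := by
      intro k hk hkV
      obtain ⟨Q, hQ⟩ := exists_sylow_le_centralizer (hnotA k hk hkV r hA)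
      obtain ⟨g, hg⟩ := MulAction.exists_smul_eq G P Q
      have hPM : (P : Subgroup G) ≤ K ⊔ (P : Subgroup G) := le_sup_right
      have hQM : (Q : Subgroup G) ≤ K ⊔ (P : Subgroup G) := by
        intro y hy
        rw [← hg, Sylow.coe_subgroup_smul, Subgroup.mem_pointwise_smul_iff_inv_smul_mem] at hy
        simp [MulAut.smul_def] at hy
        simpa [mul_assoc] using hM.conj_mem _ (hPM hy) g
      obtain ⟨t, ht⟩ := MulAction.exists_smul_eq (K ⊔ (P : Subgroup G) : Subgroup G)
        (P.subtype hPM) (Q.subtype hQM)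
      rw [Sylow.smul_subtype] at ht
      have heq := Sylow.subtype_injective ht
      obtain ⟨a, ha, x, hx, hax⟩ := Subgroup.mem_sup_of_normal_left.1 t.2
      refine ⟨a, ha, Subgroup.mem_inf.2 ⟨K.mul_mem (K.mul_mem (K.inv_mem ha) hk) ha, ?_⟩⟩
      rw [Subgroup.mem_centralizer_iff]
      intro y hy
      have hy' : a * y * a⁻¹ ∈ (Q : Subgroup G) := by
        rw [← heq, Subgroup.smul_def, ← hax, Sylow.coe_subgroup_smul,
          Subgroup.mem_pointwise_smul_iff_inv_smul_mem]
        simp [MulAut.smul_def, mul_assoc]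
        simpa [mul_assoc] using mul_mem (mul_mem (inv_mem hx) hy) hx
      have h1 : a * y * a⁻¹ * k = k * (a * y * a⁻¹) :=
        Subgroup.mem_centralizer_singleton_iff.1 (hQ hy')
      calc y * (a⁻¹ * k * a) = a⁻¹ * (a * y * a⁻¹ * k) * a := by group
        _ = a⁻¹ * (k * (a * y * a⁻¹)) * a := by rw [h1]
        _ = a⁻¹ * k * a * y := by group
    have hcover : ∀ k : K, ∃ a : K, a⁻¹ * k * a ∈ W := by
      intro k
      by_cases hkV : (k : G) ∈ V
      · exact ⟨1, by simpa [hW, Subgroup.mem_subgroupOf] using Subgroup.mem_sup_right hkV⟩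
      · obtain ⟨a, ha, h⟩ := hcoverD k k.2 hkV
        exact ⟨⟨a, ha⟩, Subgroup.mem_subgroupOf.2 (Subgroup.mem_sup_left h)⟩
    have hKDV : K ≤ D ⊔ V := Subgroup.subgroupOf_eq_top.1 (PGroup.IndexPow.eq_top_of_conj_cover hcover)
    have hDn : ∀ a ∈ K, ∀ d ∈ D, a * d * a⁻¹ ∈ D := by
      intro a ha d hd
      have hVn : V ≤ Subgroup.normalizer (D : Set G) := fun w hw =>
        Subgroup.centralizer_le_normalizer _ (show w ∈ Subgroup.centralizer (D : Set G) from
          fun x hx => hw.2 x (Subgroup.mem_inf.1 hx).1)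
      have hn : a ∈ Subgroup.normalizer (D : Set G) :=
        sup_le Subgroup.le_normalizer hVn (hKDV ha)
      exact (Subgroup.mem_normalizer_iff.1 hn d).1 hd
    obtain ⟨d, hd, w, hw, hdw⟩ : ∃ d ∈ D, ∃ w ∈ V, d * w = k0 := by
      have hVn : V.Normal := by rw [hV]; infer_instance
      exact Subgroup.mem_sup_of_normal_right.1 (hKDV hk0)
    have hdV : d ∉ V := fun h => hk0V (hdw ▸ mul_mem h hw)
    have hdvV : d * v ∉ V := fun h => hdV (by simpa using mul_mem h (inv_mem hv))
    have hdvK : d * v ∈ K := mul_mem hd.1 hv.1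
    obtain ⟨a, ha, had⟩ := hcoverD _ hdvK hdvV
    have hav : a⁻¹ * v * a = v := by
      rw [mul_assoc, ← hv.2 a ha, inv_mul_cancel_left]
    have hsplit : a⁻¹ * (d * v) * a = (a⁻¹ * d * a⁻¹⁻¹) * v := by
      calc a⁻¹ * (d * v) * a = (a⁻¹ * d * a⁻¹⁻¹) * (a⁻¹ * v * a) := by group
        _ = _ := by rw [hav]
    rw [hsplit] at had
    have hvD : v ∈ D := by
      have h := D.mul_mem (D.inv_mem (hDn a⁻¹ (K.inv_mem ha) d hd)) had
      rwa [inv_mul_cancel_left] at h
    exact fun x hx => Subgroup.mem_centralizer_singleton_iff.2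
      (Subgroup.mem_centralizer_iff.1 (Subgroup.mem_inf.1 hvD).2 x hx)
  obtain ⟨g, p, hp, hpd⟩ := hS.exA
  obtain ⟨a, k, hak, hg, ham, hkK, hkn, hca, hck⟩ := exists_parts hS g
  have hside : ∀ r : ℕ, r.Prime → r ∣ csz g → A r :=
    (hS.side g).resolve_right fun h => h p (hS.prime p hp) hpd hp
  have hacen : a ∈ Subgroup.center G := center_of_centralizes hS hder ham fun x hx =>
    Subgroup.mem_centralizer_singleton_iff.1
      (le_centralizer_kern hS (fun r hr hd => hside r hr (hd.trans hca)) hx)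
  have hkcen : k ∈ Subgroup.center G := hVcen k ⟨hkK, fun x hx =>
    Subgroup.mem_centralizer_singleton_iff.1
      (le_centralizer_kern hS (fun r hr hd => hside r hr (hd.trans hck)) hx)⟩
  have hgcen : g ∈ Subgroup.center G := hg ▸ mul_mem hacen hkcen
  have h1 : csz g = 1 := Subgroup.index_eq_one.2 (Subgroup.centralizer_eq_top_iff_subset.2
    (Set.singleton_subset_iff.2 hgcen))
  rw [h1, Nat.dvd_one] at hpd
  exact (hS.prime p hp).ne_one hpd

theorem classA_of_kern (hS : Split G A) {k : G} (hk : k ∈ kern G A) :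
    ∀ r : ℕ, r.Prime → r ∣ csz k → A r := fun r hr hd =>
  prime_dvd_index_kern hS hr (hd.trans (Subgroup.index_dvd_of_le fun x hx =>
    Subgroup.mem_centralizer_singleton_iff.2 (kern_comm hS x hx k hk)))

theorem sylow_comm (hS : Split G A) : ∀ p, A p → ∀ [Fact p.Prime], ∀ P : Sylow p G,
    ∀ a ∈ (P : Subgroup G), ∀ b ∈ (P : Subgroup G), a * b = b * a := by
  intro p hp _ P
  set K := kern G A with hK
  have hKn : K.Normal := kern_normal hS
  set C := Subgroup.centralizer (K : Set G) with hC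
  have hCn : C.Normal := by rw [hC]; infer_instance
  have hnot : ∀ a ∈ (P : Subgroup G), a ∉ C → ∀ b ∈ (P : Subgroup G), a * b = b * a := by
    intro a ha haC b hb
    refine commute_of_not_dvd hS hp P ha hb fun hd => ?_
    rcases hS.side a with h | h
    · exact haC fun x hx =>
        Subgroup.mem_centralizer_singleton_iff.1 (le_centralizer_kern hS h hx)
    · exact h p (hS.prime p hp) hd hp
  intro a ha b hb
  by_contra hne
  by_cases hPC : (P : Subgroup G) ≤ C
  · have hdvd : p ∣ csz a := by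
      by_contra hd
      exact hne (commute_of_not_dvd hS hp P ha hb hd)
    have hneC : C ≠ ⊤ := by
      intro htop
      obtain ⟨g, q, hq, hqA, hqd⟩ := hS.exB
      obtain ⟨x, k, -, hg, -, hk, -, hxd, -⟩ := exists_parts hS g
      have hkc : k ∈ Subgroup.center G := by
        rw [Subgroup.mem_center_iff]
        intro y
        have hy : y ∈ C := htop ▸ Subgroup.mem_top y
        exact (hy k hk).symm
      have hle : K ≤ Subgroup.centralizer ({g} : Set G) := by
        intro y hy
        rw [Subgroup.mem_centralizer_singleton_iff, ← hg, ← mul_assoc,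
          show y * x = x * y from (show x ∈ C from htop ▸ Subgroup.mem_top x) y hy, mul_assoc,
          Subgroup.mem_center_iff.1 hkc y, ← mul_assoc]
      exact hqA (prime_dvd_index_kern hS hq (hqd.trans (Subgroup.index_dvd_of_le hle)))
    obtain ⟨r, hr, hrd⟩ := Nat.exists_prime_and_dvd (fun h => hneC (Subgroup.index_eq_one.1 h))
    have hKC : K ≤ C := fun x hx y hy => kern_comm hS y hy x hx
    have hrA : A r := prime_dvd_index_kern hS hr (hrd.trans (Subgroup.index_dvd_of_le hKC))
    have := Fact.mk hr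
    let R : Sylow r G := default
    obtain ⟨c, hcR, hcC⟩ : ∃ c ∈ (R : Subgroup G), c ∉ C := by
      by_contra hcon
      push Not at hcon
      exact R.not_dvd_index (hrd.trans (Subgroup.index_dvd_of_le hcon))
    have hrp : r ≠ p := by
      rintro rfl
      obtain ⟨t, ht⟩ := MulAction.exists_smul_eq G P R
      rw [← ht, Sylow.coe_subgroup_smul, Subgroup.mem_pointwise_smul_iff_inv_smul_mem] at hcR
      simp [MulAut.smul_def] at hcR
      exact hcC (by simpa [mul_assoc] using hCn.conj_mem _ (hPC hcR) t)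
    have hcB : ∀ l : ℕ, l.Prime → l ∣ csz c → ¬ A l := (hS.side c).resolve_left fun h =>
      hcC fun x hx => Subgroup.mem_centralizer_singleton_iff.1 (le_centralizer_kern hS h hx)
    obtain ⟨Q, hQ⟩ := exists_sylow_le_centralizer
      (fun hd => hcB p (hS.prime p hp) hd hp)
    obtain ⟨t, rfl⟩ := MulAction.exists_smul_eq G P Q
    have haQ : t * a * t⁻¹ ∈ ((t • P : Sylow p G) : Subgroup G) := by
      rw [Sylow.coe_subgroup_smul, Subgroup.mem_pointwise_smul_iff_inv_smul_mem]
      simp [MulAut.smul_def, mul_assoc]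
      exact ha
    have hcomm : Commute (t * a * t⁻¹) c := Subgroup.mem_centralizer_singleton_iff.1 (hQ haQ)
    obtain ⟨i, hi⟩ := IsPGroup.iff_card.1 (t • P : Sylow p G).2
    obtain ⟨j, hj⟩ := IsPGroup.iff_card.1 R.2
    obtain ⟨h1, h2⟩ := csz_dvd_mul hcomm
      (show (t * a * t⁻¹) ^ p ^ i = 1 from hi ▸
        congrArg Subtype.val (pow_card_eq_one' (x := (⟨_, haQ⟩ : ((t • P : Sylow p G) : Subgroup G)))))
      (show c ^ r ^ j = 1 from hj ▸
        congrArg Subtype.val (pow_card_eq_one' (x := (⟨_, hcR⟩ : (R : Subgroup G)))))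
      (((Nat.coprime_primes (hS.prime p hp) hr).2 hrp.symm).pow i j)
    rcases hS.side (t * a * t⁻¹ * c) with h | h
    · exact hcC fun x hx => Subgroup.mem_centralizer_singleton_iff.1
        (le_centralizer_kern hS (fun l hl hd => h l hl (hd.trans h2)) hx)
    · exact h p (hS.prime p hp) ((csz_conj a t ▸ hdvd).trans h1) hp
  · obtain ⟨c, hcP, hcC⟩ := SetLike.not_le_iff_exists.1 hPC
    have haC : a ∈ C := by
      by_contra h
      exact hne (hnot a ha h b hb)
    have hbC : b ∈ C := by
      by_contra h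
      exact hne (hnot b hb h a ha).symm
    have h1 := hnot (a * c) (mul_mem ha hcP)
      (fun h => hcC (by simpa using mul_mem (inv_mem haC) h)) b hb
    have h2 := hnot c hcP hcC b hb
    rw [mul_assoc, h2, ← mul_assoc, ← mul_assoc] at h1
    exact hne (mul_right_cancel h1)

theorem der_le (hS : Split G A) : commutator G ≤ kern G A := commutator_le_kern hS (sylow_comm hS)

/-- Modulo the centre the group is Frobenius with abelian kernel and complement. -/
theorem frobenius (hS : Split G A) :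
    ∃ H : Subgroup (G ⧸ Subgroup.center G), Cfsg.IsFrobeniusComplement H ∧ IsMulCommutative H ∧
      ∀ x ∈ Cfsg.frobeniusKernel H, ∀ y ∈ Cfsg.frobeniusKernel H, x * y = y * x := by
  set K := kern G A with hK
  have hKn : K.Normal := kern_normal hS
  obtain ⟨H, hH⟩ := Subgroup.exists_right_complement'_of_coprime (coprime_kern hS)
  have hdis : ∀ x, x ∈ K → x ∈ H → x = 1 := fun x h1 h2 =>
    Subgroup.disjoint_def.1 hH.disjoint h1 h2
  have hdec : ∀ g : G, ∃ k ∈ K, ∃ h ∈ H, k * h = g := fun g =>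
    Subgroup.mem_sup_of_normal_left.1 (hH.sup_eq_top ▸ Subgroup.mem_top g)
  have hcardH : Nat.card H = K.index := hH.symm.index_eq_card.symm
  have hHm : ∀ h ∈ H, h ^ K.index = 1 := fun h hh => hcardH ▸
    congrArg Subtype.val (pow_card_eq_one' (x := (⟨h, hh⟩ : H)))
  have hKn' : ∀ k ∈ K, k ^ Nat.card K = 1 := fun k hk =>
    congrArg Subtype.val (pow_card_eq_one' (x := (⟨k, hk⟩ : K)))
  have hHab : ∀ a ∈ H, ∀ b ∈ H, a * b = b * a := fun a ha b hb =>
    commutatorElement_eq_one_iff_mul_comm.1 (hdis _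
      (der_le hS (Subgroup.commutator_mem_commutator (Subgroup.mem_top a) (Subgroup.mem_top b)))
      (by rw [commutatorElement_def]
          exact mul_mem (mul_mem (mul_mem ha hb) (inv_mem ha)) (inv_mem hb)))
  -- no commuting noncentral pair
  have hpair : ∀ h ∈ H, ∀ k ∈ K, h * k = k * h →
      h ∈ Subgroup.center G ∨ k ∈ Subgroup.center G := by
    intro h hh k hk hcomm
    by_cases hkc : k ∈ Subgroup.center G
    · exact Or.inr hkc
    refine Or.inl (center_of_centralizes hS (der_le hS) (hHm h hh) fun x hx =>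
      Subgroup.mem_centralizer_singleton_iff.1 (le_centralizer_kern hS (fun r hr hd => ?_) hx))
    obtain ⟨h1, h2⟩ := csz_dvd_mul (show Commute h k from hcomm) (hHm h hh) (hKn' k hk)
      (coprime_kern hS).symm
    obtain ⟨r0, hr0, hr0d⟩ := Nat.exists_prime_and_dvd (fun h0 => hkc (csz_eq_one h0))
    rcases hS.side (h * k) with hA' | hB'
    · exact hA' r hr (hd.trans h1)
    · exact absurd (classA_of_kern hS hk r0 hr0 hr0d) (hB' r0 hr0 (hr0d.trans h2))
  set Z := Subgroup.center G
  set π := QuotientGroup.mk' Z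
  have hmemH : ∀ x : G, π x ∈ H.map π → ∃ h ∈ H, ∃ z ∈ Z, h * z = x := by
    intro x hx
    have : x ∈ (H.map π).comap π := hx
    rw [Subgroup.comap_map_eq, QuotientGroup.ker_mk'] at this
    exact Subgroup.mem_sup_of_normal_right.1 this
  have hHZab : ∀ x y : G, π x ∈ H.map π → π y ∈ H.map π → x * y = y * x := by
    intro x y hx hy
    obtain ⟨a, ha, u, hu, rfl⟩ := hmemH x hx
    obtain ⟨b, hb, v, hv, rfl⟩ := hmemH y hy
    calc a * u * (b * v) = a * (u * b) * v := by group
      _ = a * b * (u * v) := by rw [← Subgroup.mem_center_iff.1 hu b]; group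
      _ = b * a * (v * u) := by rw [hHab a ha b hb, Subgroup.mem_center_iff.1 hv u]
      _ = b * (a * v) * u := by group
      _ = b * v * (a * u) := by rw [Subgroup.mem_center_iff.1 hv a]; group
  have hnotab : ∃ x y : G, x * y ≠ y * x := by
    by_contra hcon
    push Not at hcon
    obtain ⟨g, p, hp, hd⟩ := hS.exA
    rw [show csz g = 1 from Subgroup.index_eq_one.2 (top_le_iff.1 fun x _ =>
      Subgroup.mem_centralizer_singleton_iff.2 (hcon x g)), Nat.dvd_one] at hd
    exact (hS.prime p hp).ne_one hd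
  have hHnZ : ¬ H ≤ Z := by
    intro hle
    obtain ⟨x, y, hxy⟩ := hnotab
    obtain ⟨a, ha, h, hh, rfl⟩ := hdec x
    obtain ⟨b, hb, l, hl, rfl⟩ := hdec y
    refine hxy ?_
    calc a * h * (b * l) = a * (h * b) * l := by group
      _ = a * b * (h * l) := by rw [← Subgroup.mem_center_iff.1 (hle hh) b]; group
      _ = b * a * (l * h) := by rw [kern_comm hS a ha b hb, hHab h hh l hl]
      _ = b * (a * l) * h := by group
      _ = b * l * (a * h) := by rw [Subgroup.mem_center_iff.1 (hle hl) a]; group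
  refine ⟨H.map π, ⟨?_, ?_, ?_⟩, ?_, ?_⟩
  · rw [Ne, Subgroup.map_eq_bot_iff, QuotientGroup.ker_mk']
    exact hHnZ
  · intro htop
    obtain ⟨x, y, hxy⟩ := hnotab
    exact hxy (hHZab x y (htop ▸ Subgroup.mem_top _) (htop ▸ Subgroup.mem_top _))
  · intro q hq
    obtain ⟨g, rfl⟩ := QuotientGroup.mk'_surjective Z q
    rw [eq_bot_iff]
    rintro w ⟨hw1, hw2⟩
    obtain ⟨x, rfl⟩ := QuotientGroup.mk'_surjective Z w
    obtain ⟨k, hk, l, hl, rfl⟩ := hdec g
    have hkn : k ∉ Z := fun hkz => hq (by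
      rw [map_mul, show π k = 1 from (QuotientGroup.eq_one_iff k).2 hkz, one_mul]
      exact Subgroup.mem_map_of_mem π hl)
    replace hw2 := Subgroup.mem_pointwise_smul_iff_inv_smul_mem.1 hw2
    simp only [MulAut.smul_def, MulAut.conj_inv_apply] at hw2
    obtain ⟨h, hh, u, hu, rfl⟩ := hmemH x hw1
    have hkey : π (k⁻¹ * h * k) ∈ H.map π := by
      have h1 := mul_mem (mul_mem (Subgroup.mem_map_of_mem π hl) hw2)
        (inv_mem (Subgroup.mem_map_of_mem π hl))
      convert h1 using 1
      rw [map_mul π h u, show π u = 1 from (QuotientGroup.eq_one_iff u).2 hu]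
      simp [π, mul_assoc]
    obtain ⟨h', hh', v, hv, hhv⟩ := hmemH _ hkey
    have hcK : ⁅k⁻¹, h⁆ ∈ K :=
      der_le hS (Subgroup.commutator_mem_commutator (Subgroup.mem_top _) (Subgroup.mem_top h))
    have hc' : ⁅k⁻¹, h⁆ = (h⁻¹ * h') * v := by
      rw [commutatorElement_def, inv_inv, show k⁻¹ * h * k * h⁻¹ = (h' * v) * h⁻¹ by rw [hhv],
        mul_assoc h' v, ← Subgroup.mem_center_iff.1 hv h⁻¹, ← mul_assoc,
        hHab h' hh' h⁻¹ (inv_mem hh)]
    have hccen : ⁅k⁻¹, h⁆ ∈ Z := by
      have hb : ⁅k⁻¹, h⁆ * h = h * ⁅k⁻¹, h⁆ := by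
        rw [hc', mul_assoc, ← Subgroup.mem_center_iff.1 hv h, ← mul_assoc, ← mul_assoc h,
          hHab (h⁻¹ * h') (mul_mem (inv_mem hh) hh') h hh]
      rw [Subgroup.mem_center_iff]
      intro y
      obtain ⟨a, ha, b, hb', rfl⟩ := hdec y
      have h3 : ⁅k⁻¹, h⁆ * b = b * ⁅k⁻¹, h⁆ := by
        rw [hc', mul_assoc, ← Subgroup.mem_center_iff.1 hv b, ← mul_assoc, ← mul_assoc b,
          hHab (h⁻¹ * h') (mul_mem (inv_mem hh) hh') b hb']
      rw [mul_assoc, ← h3, ← mul_assoc, kern_comm hS a ha _ hcK, mul_assoc]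
    have hcomm : Commute ⁅k⁻¹, h⁆ h := (Subgroup.mem_center_iff.1 hccen h).symm
    have h4 : (⁅k⁻¹, h⁆ * h) ^ K.index = 1 := by
      rw [show ⁅k⁻¹, h⁆ * h = k⁻¹ * h * k⁻¹⁻¹ by simp [commutatorElement_def], conj_pow, hHm h hh]
      group
    rw [hcomm.mul_pow, hHm h hh, mul_one] at h4
    have h5 : ⁅k⁻¹, h⁆ = 1 := orderOf_eq_one_iff.1 (Nat.eq_one_of_dvd_coprimes (coprime_kern hS)
      (orderOf_dvd_of_pow_eq_one (hKn' _ hcK)) (orderOf_dvd_of_pow_eq_one h4))
    have h6 : h * k = k * h := by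
      have := commutatorElement_eq_one_iff_mul_comm.1 h5
      calc h * k = k * (k⁻¹ * h) * k := by group
        _ = k * (h * k⁻¹) * k := by rw [this]
        _ = k * h := by group
    rw [Subgroup.mem_bot]
    exact (QuotientGroup.eq_one_iff _).2
      (mul_mem ((hpair h hh k hk h6).resolve_right hkn) hu)
  · refine ⟨⟨fun a b => Subtype.ext ?_⟩⟩
    obtain ⟨_, x, hx, rfl⟩ := a
    obtain ⟨_, y, hy, rfl⟩ := b
    show π x * π y = π y * π x
    rw [← map_mul, ← map_mul, hHab x hx y hy]
  · have hker : ∀ q ∈ Cfsg.frobeniusKernel (H.map π), q ∈ K.map π := by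
      intro q hq
      rcases hq with rfl | hq
      · exact one_mem _
      obtain ⟨g, rfl⟩ := QuotientGroup.mk'_surjective Z q
      obtain ⟨k, hk, h, hh, rfl⟩ := hdec g
      by_cases hhz : h ∈ Z
      · exact ⟨k, hk, by rw [map_mul, show π h = 1 from (QuotientGroup.eq_one_iff h).2 hhz, mul_one]⟩
      exfalso
      -- conjugates of `h` fill the coset
      set K0 := K.map π
      let φ : K0 → K0 := fun y => ⟨⁅(y : G ⧸ Z), π h⁆, by
        obtain ⟨_, y', hy', rfl⟩ := y
        exact ⟨⁅y', h⁆, der_le hS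
          (Subgroup.commutator_mem_commutator (Subgroup.mem_top y') (Subgroup.mem_top h)),
          map_commutatorElement π y' h⟩⟩
      have hinj : Function.Injective φ := by
        rintro ⟨_, a, ha, rfl⟩ ⟨_, b, hb, rfl⟩ hab
        have h1 : ⁅π a, π h⁆ = ⁅π b, π h⁆ := congrArg Subtype.val hab
        have h2 : π a * π h * (π a)⁻¹ = π b * π h * (π b)⁻¹ := mul_right_cancel h1
        have h3 : ⁅b⁻¹ * a, h⁆ ∈ Z := by
          rw [← QuotientGroup.eq_one_iff]
          show π ⁅b⁻¹ * a, h⁆ = 1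
          rw [commutatorElement_def]
          simp only [map_mul, map_inv, mul_inv_rev, inv_inv]
          calc (π b)⁻¹ * π a * π h * ((π a)⁻¹ * π b) * (π h)⁻¹
              = (π b)⁻¹ * (π a * π h * (π a)⁻¹) * π b * (π h)⁻¹ := by group
            _ = 1 := by rw [h2]; group
        have hcm : Commute ⁅b⁻¹ * a, h⁆ h := (Subgroup.mem_center_iff.1 h3 h).symm
        have h4 : (⁅b⁻¹ * a, h⁆ * h) ^ K.index = 1 := by
          rw [show ⁅b⁻¹ * a, h⁆ * h = (b⁻¹ * a) * h * (b⁻¹ * a)⁻¹ by simp [commutatorElement_def],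
            conj_pow, hHm h hh]
          group
        rw [hcm.mul_pow, hHm h hh, mul_one] at h4
        have h5 : ⁅b⁻¹ * a, h⁆ = 1 := orderOf_eq_one_iff.1 (Nat.eq_one_of_dvd_coprimes
          (coprime_kern hS) (orderOf_dvd_of_pow_eq_one (hKn' _
            (der_le hS (Subgroup.commutator_mem_commutator (Subgroup.mem_top _) (Subgroup.mem_top h)))))
          (orderOf_dvd_of_pow_eq_one h4))
        have h6 := (hpair h hh _ (mul_mem (inv_mem hb) ha)
          (commutatorElement_eq_one_iff_mul_comm.1 h5).symm).resolve_left hhz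
        refine Subtype.ext ?_
        show π a = π b
        exact ((QuotientGroup.eq (s := Z)).2 h6).symm
      obtain ⟨⟨y, hy⟩, hφ⟩ := Finite.injective_iff_surjective.1 hinj
        ⟨π k, Subgroup.mem_map_of_mem π hk⟩
      refine hq y ?_
      rw [Subgroup.mem_pointwise_smul_iff_inv_smul_mem]
      have h1 : ⁅y, π h⁆ = π k := congrArg Subtype.val hφ
      refine ⟨h, hh, ?_⟩
      simp only [MulAut.smul_def, MulAut.conj_inv_apply]
      rw [map_mul, ← h1, commutatorElement_def]
      simp [π, mul_assoc]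
    intro a ha b hb
    obtain ⟨x, hx, rfl⟩ := hker a ha
    obtain ⟨y, hy, rfl⟩ := hker b hb
    rw [← map_mul, ← map_mul, kern_comm hS x hx y hy]

end CfsgLib.Coprime.ClassSizeGraph
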