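import Mathlib

set_option autoImplicit false

/-!
Functions of bounded degree on an elementary abelian 2-group sum to zero over large subgroups
(a form of Chevalley--Warning); cyclic actions of order nine on small elementary 2-groups.
-/

namespace CfsgLib.Coprime.DegreeSum

variable {Q : Type*} [CommGroup Q]

/-- `f` has degree at most `d`: all derivatives of order `d + 1` vanish. -/
def Deg : ℕ → (Q → ZMod 2) → Prop
  | 0, f => ∀ a b, f a = f b
  | d + 1, f => ∀ h, Deg d fun a => f (a * h) + f a

theorem Deg.const (c : ZMod 2) : ∀ d, Deg (Q := Q) d fun _ => c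
  | 0 => fun _ _ => rfl
  | d + 1 => fun _ => Deg.const (c + c) d

theorem Deg.add : ∀ {d : ℕ} {f g : Q → ZMod 2}, Deg d f → Deg d g → Deg d fun a => f a + g a
  | 0, f, g, hf, hg => fun a b => by simp only [hf a b, hg a b]
  | d + 1, f, g, hf, hg => fun h => by
    have h1 := Deg.add (hf h) (hg h)
    convert h1 using 2 with a
    ring

theorem Deg.succ : ∀ {d : ℕ} {f : Q → ZMod 2}, Deg d f → Deg (d + 1) f
  | 0, f, hf => fun h a b => by simp only [hf (a * h) (b * h), hf a b]
  | d + 1, f, hf => fun h => Deg.succ (hf h)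

theorem Deg.shift : ∀ {d : ℕ} {f : Q → ZMod 2} (k : Q), Deg d f → Deg d fun a => f (a * k)
  | 0, f, k, hf => fun a b => hf _ _
  | d + 1, f, k, hf => fun h => by
    have h1 := Deg.shift k (hf h)
    convert h1 using 2 with a
    rw [mul_right_comm]

theorem Deg.const_mul {d : ℕ} {f : Q → ZMod 2} (c : ZMod 2) (hf : Deg d f) :
    Deg d fun a => c * f a := by
  rcases (by decide : ∀ c : ZMod 2, c = 0 ∨ c = 1) c with rfl | rfl
  · simpa using Deg.const (Q := Q) 0 d
  · simpa using hf

theorem Deg.mul {a b : ℕ} {f g : Q → ZMod 2} (hf : Deg a f) (hg : Deg b g) :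
    Deg (a + b) fun x => f x * g x := by
  induction hn : a + b using Nat.strong_induction_on generalizing a b f g with
  | _ n ih =>
    subst hn
    match a, b with
    | 0, b =>
      have h1 : (fun x => f x * g x) = fun x => f 1 * g x := funext fun x => by rw [hf x 1]
      rw [h1, zero_add]
      exact hg.const_mul _
    | a + 1, 0 =>
      have h1 : (fun x => f x * g x) = fun x => g 1 * f x := funext fun x => by rw [hg x 1, mul_comm]
      rw [h1]
      exact hf.const_mul _
    | a + 1, b + 1 =>
      rw [show a + 1 + (b + 1) = (a + b + 1) + 1 by ring]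
      intro h
      have e1 := ih (a + (b + 1)) (by omega) (hf h) (hg.shift h) rfl
      have e2 := ih (a + 1 + b) (by omega) hf (hg h) rfl
      rw [show a + (b + 1) = a + b + 1 by ring] at e1
      rw [show a + 1 + b = a + b + 1 by ring] at e2
      have h1 := e1.add e2
      convert h1 using 2 with x
      have := CharTwo.add_self_eq_zero (f x * g (x * h))
      linear_combination -this

theorem sum_eq_zero [Finite Q] (h2 : ∀ x : Q, x * x = 1) : ∀ {d : ℕ} {f : Q → ZMod 2}, Deg d f →
    ∀ (H : Subgroup Q) [Fintype H], 2 ^ (d + 1) ≤ Nat.card H → ∑ x : H, f x = 0 := by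
  classical
  intro d
  induction d with
  | zero =>
    intro f hf H _ hH
    have hp : IsPGroup 2 H := fun x => ⟨1, Subtype.ext (by simp [pow_two, h2 (x : Q)])⟩
    obtain ⟨k, hk⟩ := hp.exists_card_eq
    rw [Finset.sum_congr rfl fun (x : H) _ => hf x 1, Finset.sum_const, Finset.card_univ, ← Nat.card_eq_fintype_card, hk]
    obtain ⟨j, rfl⟩ : ∃ j, k = j + 1 := ⟨k - 1, by
      rcases Nat.eq_zero_or_pos k with rfl | hk0
      · rw [hk] at hH; norm_num at hH
      · omega⟩
    rw [pow_succ', mul_smul, two_smul, CharTwo.add_self_eq_zero]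
  | succ d ih =>
    intro f hf H _ hH
    obtain ⟨h, hhH, hh1⟩ : ∃ h ∈ H, h ≠ 1 := by
      refine H.bot_or_exists_ne_one.resolve_left fun hb => ?_
      rw [hb, Subgroup.card_bot] at hH
      have : 2 ≤ 2 ^ (d + 1 + 1) := Nat.le_self_pow (by omega) 2
      omega
    obtain ⟨H₀, hH₀, hmax⟩ := Set.Finite.exists_maximal (Set.toFinite {K : Subgroup Q | K ≤ H ∧ h ∉ K})
      ⟨⊥, bot_le, by simpa using hh1⟩
    have hcover : ∀ a ∈ H, a ∈ H₀ ∨ a * h ∈ H₀ := by
      intro a ha
      by_contra hc
      push Not at hc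
      let K : Subgroup Q :=
        { carrier := {x | x ∈ H₀ ∨ x * a ∈ H₀}
          one_mem' := Or.inl (one_mem _)
          mul_mem' := by
            rintro u v (hu | hu) (hv | hv)
            · exact Or.inl (mul_mem hu hv)
            · exact Or.inr (by rw [mul_assoc]; exact mul_mem hu hv)
            · exact Or.inr (by rw [mul_right_comm]; exact mul_mem hu hv)
            · refine Or.inl ?_
              have := mul_mem hu hv
              rwa [mul_mul_mul_comm, h2 a, mul_one] at this
          inv_mem' := fun {u} hu => by rwa [inv_eq_of_mul_eq_one_right (h2 u)] }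
      have haK : a ∈ K := Or.inr (by rw [h2]; exact one_mem _)
      have hKH : K ≤ H := fun x hx => hx.elim (fun h => hH₀.1 h) fun h => by
        have := mul_mem (hH₀.1 h) ha
        rwa [mul_assoc, h2, mul_one] at this
      have hhK : h ∉ K := fun hk => hk.elim hH₀.2 fun hk => hc.2 (by rwa [mul_comm])
      exact hc.1 ((hmax (show K ∈ {K : Subgroup Q | K ≤ H ∧ h ∉ K} from ⟨hKH, hhK⟩) (fun x hx => Or.inl hx)) haK)
    let m : H₀ × Fin 2 → H := fun p => ⟨(p.1 : Q) * h ^ (p.2 : ℕ), mul_mem (hH₀.1 p.1.2) (pow_mem hhH _)⟩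
    have hm : Function.Bijective m := by
      refine ⟨?_, fun x => ?_⟩
      · rintro ⟨u, i⟩ ⟨v, j⟩ huv
        have h3 : (u : Q) * h ^ (i : ℕ) = v * h ^ (j : ℕ) := congrArg Subtype.val huv
        fin_cases i <;> fin_cases j <;> simp at h3
        · simp [h3]
        · exact absurd (show h ∈ H₀ by
            rw [show h = (v : Q)⁻¹ * u by rw [h3, inv_mul_cancel_left]]; exact mul_mem (inv_mem v.2) u.2) hH₀.2
        · exact absurd (show h ∈ H₀ by
            rw [show h = (u : Q)⁻¹ * v by rw [← h3, inv_mul_cancel_left]]; exact mul_mem (inv_mem u.2) v.2) hH₀.2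
        · simp [h3]
      · rcases hcover x x.2 with hx | hx
        · exact ⟨⟨⟨x, hx⟩, 0⟩, Subtype.ext (by simp [m])⟩
        · exact ⟨⟨⟨_, hx⟩, 1⟩, Subtype.ext (by simp [m, mul_assoc, h2])⟩
    have hcard : 2 ^ (d + 1) ≤ Nat.card H₀ := by
      have := Nat.card_congr (Equiv.ofBijective m hm)
      rw [Nat.card_prod, Nat.card_eq_fintype_card (α := Fin 2), Fintype.card_fin] at this
      rw [← this, pow_succ] at hH
      omega
    haveI : Fintype H₀ := Fintype.ofFinite H₀
    have h0 := ih (hf h) H₀ hcard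
    rw [← (Equiv.ofBijective m hm).sum_comp, Fintype.sum_prod_type]
    simpa [m, Fin.sum_univ_two, add_comm] using h0

/-- A permutation of order dividing nine whose cube is not trivial, respecting a group structure of exponent
two, needs at least thirty-two points. -/
theorem thirtyTwo_le_card [Finite Q] (h2 : ∀ x : Q, x * x = 1) (ψ : Q →* Q) (h9 : ∀ x, ψ^[9] x = x)
    {a : Q} (ha : ψ^[3] a ≠ a) : 32 ≤ Nat.card Q := by
  classical
  haveI := Fintype.ofFinite Q
  have hper : ∀ x : Q, ψ^[3] x ≠ x → Function.minimalPeriod ψ x = 9 := by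
    intro x hx
    have h1 : Function.minimalPeriod ψ x ∣ 3 ^ 2 := Function.IsPeriodicPt.minimalPeriod_dvd (h9 x)
    obtain ⟨k, hk, hk'⟩ := (Nat.dvd_prime_pow Nat.prime_three).mp h1
    have hne : ¬ Function.minimalPeriod ψ x ∣ 3 := fun h =>
      hx (Function.isPeriodicPt_iff_minimalPeriod_dvd.mpr h)
    interval_cases k <;> simp_all
  let orb : Q → Finset Q := fun x => (Finset.range 9).image fun i => ψ^[i] x
  have horb : ∀ x : Q, ψ^[3] x ≠ x → (orb x).card = 9 := by
    intro x hx
    rw [Finset.card_image_of_injOn, Finset.card_range]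
    intro i hi j hj hij
    simp only [Finset.coe_range, Set.mem_Iio] at hi hj
    exact Function.iterate_injOn_Iio_minimalPeriod (by rw [Set.mem_Iio, hper x hx]; exact hi)
      (by rw [Set.mem_Iio, hper x hx]; exact hj) hij
  have hp : IsPGroup 2 Q := fun x => ⟨1, by rw [pow_one, pow_two, h2]⟩
  obtain ⟨k, hk⟩ := hp.exists_card_eq
  have h9le : 9 ≤ Nat.card Q := by
    rw [Nat.card_eq_fintype_card, ← horb a ha]; exact Finset.card_le_univ _
  have hk4 : 4 ≤ k := by
    by_contra hlt
    rw [hk] at h9le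
    have := Nat.pow_le_pow_right (show 0 < 2 by norm_num) (show k ≤ 3 by omega)
    norm_num at this
    omega
  by_contra hlt
  have hk4' : k = 4 := by
    by_contra hne
    have := Nat.pow_le_pow_right (show 0 < 2 by norm_num) (show 5 ≤ k by omega)
    rw [hk] at hlt; norm_num at this; omega
  subst hk4'
  let F : Subgroup Q :=
    { carrier := {x | ψ^[3] x = x}
      one_mem' := by simp [Function.iterate_succ]
      mul_mem' := fun {u v} hu hv => by
        show ψ^[3] (u * v) = u * v
        simp only [Set.mem_setOf_eq] at hu hv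
        conv_rhs => rw [← hu, ← hv]
        simp [Function.iterate_succ]
      inv_mem' := fun {u} hu => by
        show ψ^[3] u⁻¹ = u⁻¹
        simp only [Set.mem_setOf_eq] at hu
        conv_rhs => rw [← hu]
        simp [Function.iterate_succ] }
  have hnon : ∀ x, ψ^[3] x ≠ x → ∀ y ∈ orb x, y ∉ F := by
    intro x hx y hy hyF
    obtain ⟨i, hi, rfl⟩ := Finset.mem_image.mp hy
    refine hx ?_
    have h1 : ψ^[9 - i] (ψ^[3] (ψ^[i] x)) = ψ^[9 - i] (ψ^[i] x) := congrArg _ hyF
    rw [Finset.mem_range] at hi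
    rw [← Function.iterate_add_apply, ← Function.iterate_add_apply, ← Function.iterate_add_apply,
      show 9 - i + 3 + i = 3 + 9 by omega, show 9 - i + i = 9 by omega, Function.iterate_add_apply, h9] at h1
    exact h1
  have hF : Nat.card F ≤ 4 := by
    have hd : Nat.card F ∣ 2 ^ 4 := hk ▸ Subgroup.card_subgroup_dvd_card F
    obtain ⟨j, hj, hj'⟩ := (Nat.dvd_prime_pow Nat.prime_two).mp hd
    have hsplit : (orb a).card + Nat.card F ≤ 16 := by
      rw [Nat.card_eq_fintype_card, ← Fintype.card_coe (orb a), ← Fintype.card_sum,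
        show 16 = Fintype.card Q by rw [← Nat.card_eq_fintype_card, hk]; norm_num]
      refine Fintype.card_le_of_injective (Sum.elim (fun y => (y : Q)) (fun y => (y : Q))) ?_
      rintro (⟨u, hu⟩ | ⟨u, hu⟩) (⟨v, hv⟩ | ⟨v, hv⟩) huv <;> simp at huv <;> subst huv
      · rfl
      · exact absurd hv (hnon a ha _ hu)
      · exact absurd hu (hnon a ha _ hv)
      · rfl
    rw [horb a ha, hj'] at hsplit
    rw [hj']
    interval_cases j <;> simp_all
  obtain ⟨b, hb⟩ : ∃ b : Q, b ∉ (orb a) ∪ (Finset.univ.filter (· ∈ F)) := by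
    by_contra hc
    push Not at hc
    have h1 : Fintype.card Q ≤ (orb a).card + (Finset.univ.filter (· ∈ F)).card :=
      (Finset.card_le_card (fun x _ => hc x)).trans (Finset.card_union_le _ _)
    rw [horb a ha, ← Fintype.card_subtype, ← Nat.card_eq_fintype_card, hk] at h1
    rw [← Nat.card_eq_fintype_card] at h1
    change 2 ^ 4 ≤ 9 + Nat.card F at h1
    omega
  rw [Finset.mem_union, not_or, Finset.mem_filter] at hb
  have hb3 : ψ^[3] b ≠ b := fun h => hb.2 ⟨Finset.mem_univ _, h⟩
  have hdisj : Disjoint (orb a) (orb b) := by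
    rw [Finset.disjoint_left]
    intro y hy hy'
    obtain ⟨i, hi, rfl⟩ := Finset.mem_image.mp hy
    obtain ⟨j, hj, hj'⟩ := Finset.mem_image.mp hy'
    rw [Finset.mem_range] at hj
    refine hb.1 (Finset.mem_image.mpr ⟨(9 - j + i) % 9, Finset.mem_range.mpr (Nat.mod_lt _ (by norm_num)), ?_⟩)
    have h1 : ψ^[9 - j] (ψ^[j] b) = ψ^[9 - j] (ψ^[i] a) := congrArg _ hj'
    rw [← Function.iterate_add_apply, ← Function.iterate_add_apply, Nat.sub_add_cancel hj.le, h9] at h1
    rw [h1]
    exact ((show Function.IsPeriodicPt ψ 9 a from h9 a).iterate_mod_apply _)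
  have h18 : (orb a ∪ orb b).card ≤ Fintype.card Q := Finset.card_le_univ _
  rw [Finset.card_union_of_disjoint hdisj, horb a ha, horb b hb3, ← Nat.card_eq_fintype_card, hk] at h18
  norm_num at h18

end CfsgLib.Coprime.DegreeSum
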