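import Cfsg.Agent.Lib.Coprime.OrbitCount
import Mathlib.GroupTheory.Commutator.Basic
import Mathlib.LinearAlgebra.Eigenspace.Triangularizable
import Mathlib.LinearAlgebra.Eigenspace.Minpoly
import Mathlib.RingTheory.Artinian.Module

/-!
An element of prime order `p > 3` whose conjugates generate a solvable group fixes less than half of
a module without trivial composition factor.
-/

set_option autoImplicit false

namespace CfsgLib.Coprime.FixedSpaceHalf

open Subgroup
open scoped commutatorElement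

universe u v

section Basic

variable {G : Type u} [Group G] [Finite G] {k : Type v} [Field k] [IsAlgClosed k]
  {V : Type*} [AddCommGroup V] [Module k V] [FiniteDimensional k V]
  {ρ : G →* Module.End k V}

theorem rho_inv (ρ : G →* Module.End k V) (g : G) (v : V) : ρ g⁻¹ (ρ g v) = v := by
  rw [← Module.End.mul_apply, ← map_mul, inv_mul_cancel, map_one, Module.End.one_apply]

theorem rho_inv' (ρ : G →* Module.End k V) (g : G) (v : V) : ρ g (ρ g⁻¹ v) = v := by
  rw [← Module.End.mul_apply, ← map_mul, mul_inv_cancel, map_one, Module.End.one_apply]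

/-- A commuting family has a common eigenvector. -/
theorem exists_common_eigen [Nontrivial V] (A : Subgroup G)
    (hcomm : ∀ a ∈ A, ∀ b ∈ A, ρ a * ρ b = ρ b * ρ a) :
    ∃ v : V, v ≠ 0 ∧ ∀ a ∈ A, ∃ c : k, ρ a v = c • v := by
  obtain ⟨U, ⟨hU0, hUinv⟩, hmin⟩ :=
    (IsWellFounded.wf (r := (· < · : Submodule k V → Submodule k V → Prop))).has_min
      {U : Submodule k V | U ≠ ⊥ ∧ ∀ a ∈ A, ∀ v ∈ U, ρ a v ∈ U}
      ⟨⊤, top_ne_bot, fun _ _ _ _ => Submodule.mem_top⟩
  obtain ⟨v, hvU, hv0⟩ := U.ne_bot_iff.1 hU0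
  refine ⟨v, hv0, fun a ha => ?_⟩
  haveI : Nontrivial U := Submodule.nontrivial_iff_ne_bot.2 hU0
  obtain ⟨c, hc⟩ := Module.End.exists_eigenvalue ((ρ a).restrict (hUinv a ha))
  obtain ⟨⟨w, hw⟩, hwc, hw0⟩ := hc.exists_hasEigenvector
  set U' := U ⊓ Module.End.eigenspace (ρ a) c with hU'
  have h1 : U' ≠ ⊥ := U'.ne_bot_iff.2 ⟨w, Submodule.mem_inf.2 ⟨hw, Module.End.mem_eigenspace_iff.2
    (congrArg Subtype.val (Module.End.mem_eigenspace_iff.1 hwc))⟩, fun h => hw0 (Subtype.ext h)⟩
  have h2 : ∀ b ∈ A, ∀ z ∈ U', ρ b z ∈ U' := fun b hb z hz => by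
    refine Submodule.mem_inf.2 ⟨hUinv b hb z (Submodule.mem_inf.1 hz).1,
      Module.End.mem_eigenspace_iff.2 ?_⟩
    rw [← Module.End.mul_apply, hcomm a ha b hb, Module.End.mul_apply,
      Module.End.mem_eigenspace_iff.1 (Submodule.mem_inf.1 hz).2, map_smul]
  have h3 : U' = U := by
    by_contra hne
    exact hmin U' ⟨h1, h2⟩ (lt_of_le_of_ne inf_le_left hne)
  exact ⟨c, Module.End.mem_eigenspace_iff.1 (Submodule.mem_inf.1 (h3.ge hvU)).2⟩

/-- Schur. -/
theorem exists_scalar [Nontrivial V]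
    (hirr : ∀ U : Submodule k V, (∀ g, ∀ v ∈ U, ρ g v ∈ U) → U = ⊥ ∨ U = ⊤)
    (T : Module.End k V) (hT : ∀ g, T * ρ g = ρ g * T) : ∃ c : k, T = c • 1 := by
  obtain ⟨c, hc⟩ := Module.End.exists_eigenvalue T
  refine ⟨c, ?_⟩
  have h := (hirr (Module.End.eigenspace T c) fun g v hv => ?_).resolve_left hc
  · exact LinearMap.ext fun v => Module.End.mem_eigenspace_iff.1 (h ▸ Submodule.mem_top)
  · rw [Module.End.mem_eigenspace_iff] at hv ⊢
    rw [← Module.End.mul_apply, hT, Module.End.mul_apply, hv, map_smul]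

end Basic

section Imprimitive

variable {G : Type u} [Group G] [Finite G] [Group.IsSolvable G] {k : Type v} [Field k] [IsAlgClosed k]
  {V : Type*} [AddCommGroup V] [Module k V] [FiniteDimensional k V] [Nontrivial V]
  {ρ : G →* Module.End k V}

/-- The case of a non-scalar abelian normal subgroup. -/
theorem imprimitive_bound
    (hirr : ∀ U : Submodule k V, (∀ g, ∀ v ∈ U, ρ g v ∈ U) → U = ⊥ ∨ U = ⊤)
    {p : ℕ} [hp : Fact p.Prime] (hp5 : 5 ≤ p) {x : G} (hx : x ^ p = 1)
    (hgen : normalClosure ({x} : Set G) = ⊤) (A : Subgroup G) [A.Normal]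
    (hcomm : ∀ a ∈ A, ∀ b ∈ A, ρ a * ρ b = ρ b * ρ a)
    (hns : ∃ a ∈ A, ∀ c : k, ρ a ≠ c • 1) :
    2 * Module.finrank k (LinearMap.ker (ρ x - 1)) < Module.finrank k V := by
  classical
  let E : (A → k) → Submodule k V := fun l => ⨅ a : A, Module.End.eigenspace (ρ a) (l a)
  have memE : ∀ l v, v ∈ E l ↔ ∀ a : A, ρ a v = l a • v := fun l v => by
    simp only [E, Submodule.mem_iInf, Module.End.mem_eigenspace_iff]
  let act : G → (A → k) → A → k := fun g l a =>
    l ⟨g⁻¹ * a * g⁻¹⁻¹, (inferInstance : A.Normal).conj_mem a a.2 g⁻¹⟩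
  have hmap : ∀ g l v, v ∈ E l → ρ g v ∈ E (act g l) := by
    intro g l v hv
    refine (memE _ _).2 fun a => ?_
    have h := (memE _ _).1 hv ⟨g⁻¹ * a * g⁻¹⁻¹, (inferInstance : A.Normal).conj_mem a a.2 g⁻¹⟩
    calc ρ a (ρ g v) = ρ g (ρ (g⁻¹ * a * g⁻¹⁻¹) v) := by
          rw [← Module.End.mul_apply, ← map_mul, ← Module.End.mul_apply, ← map_mul]; group
      _ = _ := by rw [h, map_smul]
  let Λ := {l : A → k // E l ≠ ⊥}
  haveI : Finite Λ := by
    let ev : Λ → (a : A) → {c : k // Module.End.HasEigenvalue (ρ (a : G)) c} := fun l a =>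
      ⟨l.1 a, fun h => l.2 (eq_bot_iff.2 ((iInf_le _ a).trans h.le))⟩
    haveI : ∀ a : A, Finite {c : k // Module.End.HasEigenvalue (ρ (a : G)) c} := fun a =>
      (Module.End.finite_hasEigenvalue (ρ (a : G))).to_subtype
    exact Finite.of_injective ev fun l m h =>
      Subtype.ext (funext fun a => congrArg Subtype.val (congrFun h a))
  haveI : Fintype Λ := Fintype.ofFinite _
  have act_ne : ∀ g (l : Λ), E (act g l.1) ≠ ⊥ := fun g l h => by
    obtain ⟨v, hv, hv0⟩ := (E l.1).ne_bot_iff.1 l.2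
    have h1 := hmap g _ v hv
    rw [h, Submodule.mem_bot] at h1
    exact hv0 (by rw [← rho_inv ρ g v, h1, map_zero])
  letI : MulAction G Λ :=
    { smul := fun g l => ⟨act g l.1, act_ne g l⟩
      one_smul := fun l => Subtype.ext (funext fun a => congrArg l.1 (Subtype.ext
        (show (1 : G)⁻¹ * (a : G) * (1 : G)⁻¹⁻¹ = a by group)))
      mul_smul := fun g h l => Subtype.ext (funext fun a => congrArg l.1 (Subtype.ext
        (show (g * h)⁻¹ * (a : G) * (g * h)⁻¹⁻¹ = h⁻¹ * (g⁻¹ * (a : G) * g⁻¹⁻¹) * h⁻¹⁻¹ by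
          group))) }
  have smul_val : ∀ (g : G) (l : Λ), (g • l).1 = act g l.1 := fun _ _ => rfl
  -- independence
  have hindep : ∀ (s : Finset Λ) (f : Λ → V), (∀ l ∈ s, f l ∈ E l.1) → ∑ l ∈ s, f l = 0 →
      ∀ l ∈ s, f l = 0 := by
    intro s
    induction s using Finset.induction with
    | empty => simp
    | @insert l₀ s hl₀ ih =>
      intro f hf hsum
      rw [Finset.sum_insert hl₀] at hsum
      have hs : ∀ l ∈ s, f l = 0 := by
        intro l hl
        obtain ⟨a, ha⟩ : ∃ a : A, l.1 a ≠ l₀.1 a := Function.ne_iff.1 fun e =>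
          hl₀ ((Subtype.ext e : l = l₀) ▸ hl)
        have h1 := congrArg (fun v => ρ a v - l₀.1 a • v) hsum
        simp only [map_add, map_sum, map_zero, smul_add, Finset.smul_sum, smul_zero, sub_zero] at h1
        rw [(memE _ _).1 (hf l₀ (Finset.mem_insert_self _ _)) a, add_sub_add_left_eq_sub,
          ← Finset.sum_sub_distrib,
          Finset.sum_congr rfl (g := fun m => (m.1 a - l₀.1 a) • f m) fun m hm => by
            rw [(memE _ _).1 (hf m (Finset.mem_insert_of_mem hm)) a, sub_smul]] at h1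
        have h2 := ih _ (fun m hm => (E m.1).smul_mem _ (hf m (Finset.mem_insert_of_mem hm))) h1 l hl
        exact (smul_eq_zero.1 h2).resolve_left (sub_ne_zero.2 ha)
      intro l hl
      rcases Finset.mem_insert.1 hl with rfl | hl
      · rwa [Finset.sum_eq_zero hs, add_zero] at hsum
      · exact hs l hl
  let Φ : ((l : Λ) → E l.1) →ₗ[k] V := LinearMap.lsum k (fun l : Λ => E l.1) k fun l => (E l.1).subtype
  have Φapply : ∀ f, Φ f = ∑ l, (f l : V) := fun f => by simp [Φ, LinearMap.lsum_apply]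
  have hΦinj : Function.Injective Φ := (injective_iff_map_eq_zero Φ).2 fun f hf =>
    funext fun l => Subtype.ext (hindep Finset.univ (fun l => (f l : V)) (fun l _ => (f l).2)
      ((Φapply f).symm.trans hf) l (Finset.mem_univ l))
  have hsingle : ∀ (l : Λ) (v : E l.1), Φ (Pi.single l v) = v := fun l v => by
    rw [Φapply, Finset.sum_eq_single l (fun m _ hm => by simp [Pi.single_eq_of_ne hm])
      fun h => absurd (Finset.mem_univ l) h, Pi.single_eq_same]
  have hΦsurj : Function.Surjective Φ := by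
    have hinv : ∀ g, ∀ v ∈ LinearMap.range Φ, ρ g v ∈ LinearMap.range Φ := by
      rintro g _ ⟨f, rfl⟩
      rw [Φapply, map_sum]
      refine Submodule.sum_mem _ fun l _ => ?_
      exact ⟨Pi.single (g • l) ⟨ρ g (f l), hmap g _ _ (f l).2⟩, hsingle _ _⟩
    rcases hirr _ hinv with h | h
    · obtain ⟨v, hv0, hv⟩ := exists_common_eigen (ρ := ρ) A hcomm
      choose c hc using hv
      have hvE : v ∈ E (fun a => c a a.2) := (memE _ _).2 fun a => hc a a.2
      refine absurd ?_ hv0
      have hl : E (fun a : A => c a a.2) ≠ ⊥ := Submodule.ne_bot_iff _ |>.2 ⟨v, hvE, hv0⟩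
      exact (Submodule.mem_bot k).1 (h ▸ ⟨Pi.single (⟨_, hl⟩ : Λ) ⟨v, hvE⟩, hsingle _ _⟩)
    · exact LinearMap.range_eq_top.1 h
  let L := LinearEquiv.ofBijective Φ ⟨hΦinj, hΦsurj⟩
  let π : Λ → Module.End k V := fun l => (E l.1).subtype ∘ₗ LinearMap.proj l ∘ₗ L.symm.toLinearMap
  have hπsum : ∀ v, ∑ l, π l v = (1 : k) • v := fun v => by
    rw [one_smul]
    exact (Φapply (L.symm v)).symm.trans (L.apply_symm_apply v)
  have hπuniq : ∀ (v : V) (f : (l : Λ) → E l.1), Φ f = v → ∀ l, π l v = (f l : V) := by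
    intro v f hf l
    show ((L.symm v l : E l.1) : V) = _
    rw [← hf, show L.symm (Φ f) = f from L.symm_apply_apply f]
  have heq : ∀ (l : Λ) v, π (x • l) (ρ x v) = ρ x (π l v) := by
    intro l v
    let f : (m : Λ) → E m.1 := fun m => ⟨ρ x (π (x⁻¹ • m) v), by
      have h := hmap x _ _ (L.symm v (x⁻¹ • m)).2
      rwa [← smul_val, smul_inv_smul] at h⟩
    rw [hπuniq (ρ x v) f (by
      rw [Φapply]
      show ∑ m, ρ x (π (x⁻¹ • m) v) = ρ x v
      refine (Equiv.sum_comp (MulAction.toPerm (x⁻¹ : G)) fun m => ρ x (π m v)).trans ?_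
      rw [← map_sum, hπsum, one_smul])]
    show ρ x (π (x⁻¹ • x • l) v) = _
    rw [inv_smul_smul]
  -- transitivity
  have htrans : MulAction.IsPretransitive G Λ := by
    refine ⟨fun l m => ?_⟩
    by_contra hm
    push Not at hm
    set S := ⨆ g : G, E (g • l).1 with hS
    have hinvS : ∀ g, ∀ v ∈ S, ρ g v ∈ S := by
      intro g
      show S ≤ S.comap (ρ g)
      refine iSup_le fun h v hv => ?_
      refine Submodule.mem_comap.2 (Submodule.mem_iSup_of_mem (g * h) ?_)
      rw [mul_smul, smul_val g (h • l)]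
      exact hmap g (h • l).1 v hv
    have hker : S ≤ LinearMap.ker (π m) := iSup_le fun g v hv => by
      rw [LinearMap.mem_ker, hπuniq v (Pi.single (g • l) ⟨v, hv⟩) (hsingle _ _),
        Pi.single_eq_of_ne (fun e => hm g e.symm)]
      rfl
    rcases hirr S hinvS with h | h
    · exact l.2 (eq_bot_iff.2 (le_trans (le_iSup_of_le (1 : G) (by rw [one_smul])) h.le))
    · obtain ⟨w, hw, hw0⟩ := (E m.1).ne_bot_iff.1 m.2
      have h1 := hπuniq w (Pi.single m ⟨w, hw⟩) (hsingle _ _) m
      rw [Pi.single_eq_same] at h1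
      exact hw0 (h1.symm.trans (LinearMap.mem_ker.1 (hker (h ▸ Submodule.mem_top))))
  obtain ⟨a₀, ha₀, hns⟩ := hns
  haveI : Nontrivial Λ := by
    by_contra h
    rw [not_nontrivial_iff_subsingleton] at h
    haveI : Nonempty Λ := by
      by_contra he
      rw [not_nonempty_iff] at he
      obtain ⟨v, hv⟩ := exists_ne (0 : V)
      have := hπsum v
      rw [Fintype.sum_empty, one_smul] at this
      exact hv this.symm
    obtain ⟨l₀⟩ := ‹Nonempty Λ›
    refine hns (l₀.1 ⟨a₀, ha₀⟩) (LinearMap.ext fun v => ?_)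
    obtain ⟨f, rfl⟩ := hΦsurj v
    rw [Φapply, Fintype.sum_subsingleton _ l₀]
    exact (memE _ _).1 (f l₀).2 ⟨a₀, ha₀⟩
  have hd : ∀ l m : Λ, Module.finrank k (E l.1) ≤ Module.finrank k (E m.1) := by
    intro l m
    obtain ⟨g, rfl⟩ := MulAction.exists_smul_eq G l m
    refine LinearMap.finrank_le_finrank_of_injective
      (f := (ρ g).restrict fun v hv => hmap g l.1 v hv) fun v w e => ?_
    have h1 := congrArg (fun z : E (act g l.1) => ρ g⁻¹ (z : V)) e
    simp only [LinearMap.coe_restrict_apply, rho_inv] at h1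
    exact Subtype.ext h1
  obtain ⟨l₀⟩ : Nonempty Λ := inferInstance
  set d := Module.finrank k (E l₀.1) with hd0
  have hVd : Module.finrank k V = Fintype.card Λ * d := by
    rw [← L.finrank_eq, Module.finrank_pi_fintype,
      Finset.sum_congr rfl fun l _ => le_antisymm (hd l l₀) (hd l₀ l), Finset.sum_const,
      Finset.card_univ, smul_eq_mul]
  have hσ : (MulAction.toPermHom G Λ x) ^ p = 1 := by rw [← map_pow, hx, map_one]
  obtain ⟨R, hR, hRcard⟩ := OrbitCount.exists_orbit_reps (MulAction.toPermHom G Λ x) hσ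
  have hfix := OrbitCount.card_fixed_le (Ω := Λ) hx hgen
  have hle := OrbitCount.fixed_le R (fun l => x • l) hR (ρ x) π one_ne_zero hπsum heq (b := d)
    fun l => by
      refine (Submodule.finrank_mono (?_ : LinearMap.range (π l) ≤ E l.1)).trans (hd l l₀)
      rintro _ ⟨v, rfl⟩
      exact (L.symm v l).2
  rw [hVd]
  rw [show Nat.card Λ = Fintype.card Λ from Nat.card_eq_fintype_card] at hfix hRcard
  change p * R.card ≤ Fintype.card Λ + (p - 1) * Nat.card {l : Λ // x • l = l} at hRcard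
  have hdpos : 0 < d := Submodule.one_le_finrank_iff.2 l₀.2
  have hΛ : 0 < Fintype.card Λ := Fintype.card_pos
  have h1 : p * p * R.card ≤ (2 * p - 1) * Fintype.card Λ := by
    calc p * p * R.card ≤ p * (Fintype.card Λ + (p - 1) * Nat.card {l : Λ // x • l = l}) := by
          rw [mul_assoc]; exact Nat.mul_le_mul_left _ hRcard
      _ ≤ p * Fintype.card Λ + (p - 1) * Fintype.card Λ := by
          rw [mul_add, mul_left_comm]
          exact Nat.add_le_add_left (Nat.mul_le_mul_left _ hfix) _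
      _ = _ := by rw [← add_mul]; congr 1; omega
  have h2 : 2 * R.card < Fintype.card Λ := by
    by_contra h
    push Not at h
    have h3 : p * p * Fintype.card Λ ≤ 2 * ((2 * p - 1) * Fintype.card Λ) := by
      calc p * p * Fintype.card Λ ≤ p * p * (2 * R.card) := Nat.mul_le_mul_left _ h
        _ ≤ _ := by linarith
    have h4 : 2 * (2 * p - 1) < p * p := by
      have : 5 * p ≤ p * p := Nat.mul_le_mul_right p hp5
      omega
    rw [← mul_assoc] at h3
    exact absurd (Nat.le_of_mul_le_mul_right h3 hΛ) (by omega)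
  calc 2 * Module.finrank k (LinearMap.ker (ρ x - 1)) ≤ 2 * R.card * d := by
        rw [mul_assoc]; exact Nat.mul_le_mul_left _ hle
    _ < Fintype.card Λ * d := Nat.mul_lt_mul_of_pos_right h2 hdpos

end Imprimitive

section Extraspecial

variable {G : Type u} [Group G] [Finite G] {k : Type v} [Field k] [IsAlgClosed k]
  {V : Type*} [AddCommGroup V] [Module k V] [FiniteDimensional k V] [Nontrivial V]
  {ρ : G →* Module.End k V}

/-- The case of a normal subgroup of class two without non-central abelian part. -/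
theorem classTwo_bound
    (hirr : ∀ U : Submodule k V, (∀ g, ∀ v ∈ U, ρ g v ∈ U) → U = ⊥ ∨ U = ⊤)
    (hinj : Function.Injective ρ) {p : ℕ} [hp : Fact p.Prime] {x : G} (hx : x ^ p = 1) (hx1 : x ≠ 1)
    (E : Subgroup G) [E.Normal] (hder : ⁅E, E⁆ ≤ center G)
    (hZ : ∀ u ∈ E, (∀ w ∈ E, Commute u w) → u ∈ center G) (hE : (Nat.card E : k) ≠ 0)
    (hcount : ∀ σ : Equiv.Perm (E ⧸ (center G).subgroupOf E),
      (∀ u : E, σ (QuotientGroup.mk u) = QuotientGroup.mk (MulAut.conjNormal x u)) →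
      ∀ R : Finset (E ⧸ (center G).subgroupOf E),
        p * R.card ≤ Nat.card (E ⧸ (center G).subgroupOf E) + (p - 1) *
          Nat.card {u : E ⧸ (center G).subgroupOf E // σ u = u} →
        4 * R.card ≤ Nat.card (E ⧸ (center G).subgroupOf E)) :
    2 * Module.finrank k (LinearMap.ker (ρ x - 1)) < Module.finrank k V := by
  classical
  haveI := Fintype.ofFinite G
  set Z := (center G).subgroupOf E with hZdef
  haveI : Fintype (E ⧸ Z) := Fintype.ofFinite _
  -- the pairing
  have hex : ∀ w u : E, ∃ c : k, ρ w * ρ u = c • (ρ u * ρ w) := by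
    intro w u
    have hmem := hder (commutator_mem_commutator w.2 u.2)
    obtain ⟨c, hc⟩ := exists_scalar hirr (ρ ⁅(w : G), (u : G)⁆) fun g => by
      rw [← map_mul, ← map_mul, Subgroup.mem_center_iff.1 hmem g]
    refine ⟨c, ?_⟩
    rw [← map_mul, ← map_mul, show (w : G) * u = ⁅(w : G), (u : G)⁆ * (u * w) by
      rw [commutatorElement_def]; group, map_mul, hc, smul_mul_assoc, one_mul]
  choose c hc using hex
  have hunit : ∀ g : G, IsUnit (ρ g) := fun g => (Group.isUnit g).map ρ
  have huniq : ∀ (w u : E) (d : k), ρ w * ρ u = d • (ρ u * ρ w) → c w u = d := by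
    intro w u d hd
    have h := (hc w u).symm.trans hd
    have hne : ρ u * ρ w ≠ 0 := by rw [← map_mul]; exact (hunit _).ne_zero
    exact smul_left_injective k hne h
  have c_mul_left : ∀ w w' u, c (w * w') u = c w u * c w' u := fun w w' u => huniq _ _ _ (by
    rw [Subgroup.coe_mul, map_mul, mul_assoc, hc w' u, mul_smul_comm, ← mul_assoc, hc w u,
      smul_mul_assoc, smul_smul, mul_comm (c w u), mul_assoc])
  have c_mul_right : ∀ w u u', c w (u * u') = c w u * c w u' := fun w u u' => huniq _ _ _ (by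
    rw [Subgroup.coe_mul, map_mul, ← mul_assoc, hc w u, smul_mul_assoc, mul_assoc, hc w u',
      mul_smul_comm, smul_smul, ← mul_assoc])
  have c_one_iff : ∀ w u, c w u = 1 ↔ Commute (w : G) u := fun w u => by
    constructor
    · intro h
      refine hinj ?_
      rw [map_mul, map_mul, hc w u, h, one_smul]
    · intro h
      exact huniq _ _ _ (by rw [one_smul, ← map_mul, ← map_mul, h.eq])
  have c_ne : ∀ w u, c w u ≠ 0 := fun w u h => by
    have := hc w u
    rw [h, zero_smul, ← map_mul] at this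
    exact (hunit _).ne_zero this
  have c_coset : ∀ w u u' : E, (u : E ⧸ Z) = u' → c w u = c w u' := by
    intro w u u' h
    obtain ⟨z, hz, rfl⟩ : ∃ z ∈ Z, u' = u * z := ⟨u⁻¹ * u', QuotientGroup.eq.1 h, by group⟩
    rw [c_mul_right, (c_one_iff w z).2 (Subgroup.mem_center_iff.1 (mem_subgroupOf.1 hz) w), mul_one]
  have sum_left : ∀ u v : E, (u : E ⧸ Z) ≠ v → ∑ w : E, (c w v)⁻¹ * c w u = 0 := by
    intro u v huv
    obtain ⟨w₀, hw₀⟩ : ∃ w₀ : E, c w₀ v ≠ c w₀ u := by
      by_contra h
      push Not at h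
      refine huv (QuotientGroup.eq.2 (mem_subgroupOf.2 (hZ _ (u⁻¹ * v).2 fun w hw => ?_)))
      refine ((c_one_iff ⟨w, hw⟩ (u⁻¹ * v)).1 ?_).symm
      refine mul_left_cancel₀ (c_ne ⟨w, hw⟩ u) ?_
      rw [← c_mul_right, mul_inv_cancel_left, mul_one, h]
    have h1 : ∑ w : E, (c (w₀ * w) v)⁻¹ * c (w₀ * w) u = ∑ w : E, (c w v)⁻¹ * c w u :=
      Fintype.sum_equiv (Equiv.mulLeft w₀) _ _ fun w => rfl
    simp only [c_mul_left, mul_inv, mul_mul_mul_comm _ _ (c w₀ u), ← Finset.mul_sum] at h1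
    exact (mul_left_eq_self₀.1 h1).resolve_left fun e => hw₀
      ((inv_mul_eq_one₀ (c_ne w₀ v)).1 e)
  -- the projections
  let out : E ⧸ Z → E := Quotient.out
  have hout : ∀ q : E ⧸ Z, ((out q : E) : E ⧸ Z) = q := QuotientGroup.out_eq'
  let π : E ⧸ Z → Module.End k (Module.End k V) := fun q =>
    ∑ w : E, (c w (out q))⁻¹ • (LinearMap.mulLeft k (ρ w) ∘ₗ LinearMap.mulRight k (ρ (w : G)⁻¹))
  have hπ : ∀ q S, π q S = ∑ w : E, (c w (out q))⁻¹ • (ρ w * (S * ρ (w : G)⁻¹)) := fun q S => by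
    simp [π, LinearMap.sum_apply]
  have hrr : ∀ g : G, ρ g⁻¹ * ρ g = 1 := fun g => by rw [← map_mul, inv_mul_cancel, map_one]
  have hrr' : ∀ g : G, ρ g * ρ g⁻¹ = 1 := fun g => by rw [← map_mul, mul_inv_cancel, map_one]
  let B : Submodule k (Module.End k V) :=
    ⨅ w : E, LinearMap.ker (LinearMap.mulLeft k (ρ w) - LinearMap.mulRight k (ρ w))
  have memB : ∀ S, S ∈ B ↔ ∀ w : E, ρ w * S = S * ρ w := fun S => by
    simp [B, Submodule.mem_iInf, sub_eq_zero]
  -- the range of a projection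
  have hshift : ∀ q S (w₀ : E), ρ w₀ * π q S = c w₀ (out q) • (π q S * ρ w₀) := by
    intro q S w₀
    rw [hπ]
    conv_rhs => rw [← Fintype.sum_equiv (Equiv.mulLeft w₀) (fun w => (c (w₀ * w) (out q))⁻¹ •
      (ρ (w₀ * w : E) * (S * ρ ((w₀ * w : E) : G)⁻¹))) _ (fun w => rfl)]
    rw [Finset.mul_sum, Finset.sum_mul, Finset.smul_sum]
    refine Finset.sum_congr rfl fun w _ => ?_
    rw [c_mul_left, mul_inv, Subgroup.coe_mul, mul_inv_rev, map_mul, map_mul, mul_smul_comm,
      smul_mul_assoc, smul_smul, ← mul_assoc (c w₀ (out q)), mul_inv_cancel₀ (c_ne _ _), one_mul]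
    simp only [mul_assoc, hrr, mul_one]
  have hb : ∀ q, Module.finrank k (LinearMap.range (π q)) ≤ Module.finrank k B := by
    intro q
    have hmem : ∀ T ∈ LinearMap.range (π q), ρ (out q : G)⁻¹ * T ∈ B := by
      rintro _ ⟨S, rfl⟩
      refine (memB _).2 fun w => ?_
      have hi : ρ w * ρ (out q : G)⁻¹ = (c w (out q))⁻¹ • (ρ (out q : G)⁻¹ * ρ w) := by
        have h1 := hc w (out q)⁻¹
        have h2 : c w (out q)⁻¹ = (c w (out q))⁻¹ := eq_inv_of_mul_eq_one_left (by
          rw [← c_mul_right, inv_mul_cancel, (c_one_iff w 1).2 (Commute.one_right _)])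
        rwa [h2] at h1
      rw [← mul_assoc, hi, smul_mul_assoc, mul_assoc, hshift, mul_smul_comm, smul_smul,
        inv_mul_cancel₀ (c_ne _ _), one_smul, mul_assoc]
    refine LinearMap.finrank_le_finrank_of_injective
      (f := (LinearMap.mulLeft k (ρ (out q : G)⁻¹)).restrict hmem) fun S S' e => ?_
    have h1 := congrArg Subtype.val e
    change ρ (out q : G)⁻¹ * (S : Module.End k V) = ρ (out q : G)⁻¹ * (S' : Module.End k V) at h1
    exact Subtype.ext ((hunit _).mul_left_cancel h1)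
  have hdelta : ∀ (q r : E ⧸ Z) (S : B), π q (ρ (out r) * (S : Module.End k V)) =
      if r = q then (Nat.card E : k) • (ρ (out r) * (S : Module.End k V)) else 0 := by
    intro q r S
    have h1 : ∀ w : E, ρ w * (ρ (out r) * (S : Module.End k V) * ρ (w : G)⁻¹) =
        c w (out r) • (ρ (out r) * (S : Module.End k V)) := fun w => by
      rw [← mul_assoc, ← mul_assoc, hc w (out r), smul_mul_assoc, smul_mul_assoc,
        mul_assoc (ρ (out r)) (ρ w), (memB _).1 S.2 w]
      simp only [mul_assoc, hrr', mul_one]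
    rw [hπ, Finset.sum_congr rfl fun w _ => by rw [h1 w, smul_smul], ← Finset.sum_smul]
    by_cases hrq : r = q
    · subst hrq
      rw [if_pos rfl, Finset.sum_congr rfl fun w _ => inv_mul_cancel₀ (c_ne w _), Finset.sum_const,
        Finset.card_univ, ← Nat.card_eq_fintype_card, nsmul_eq_mul, mul_one]
    · rw [if_neg hrq, sum_left _ _ (by rw [hout, hout]; exact hrq), zero_smul]
  have hWb : Nat.card (E ⧸ Z) * Module.finrank k B ≤ Module.finrank k V ^ 2 := by
    let Ψ : (E ⧸ Z → B) →ₗ[k] Module.End k V :=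
      LinearMap.lsum k (fun _ : E ⧸ Z => B) k fun r => LinearMap.mulLeft k (ρ (out r)) ∘ₗ B.subtype
    have hΨ : Function.Injective Ψ := by
      refine (injective_iff_map_eq_zero Ψ).2 fun f hf => funext fun q => Subtype.ext ?_
      have h0 : ∑ r, ρ (out r) * (f r : Module.End k V) = 0 := by
        rw [← hf]; simp [Ψ, LinearMap.lsum_apply]
      have h1 := congrArg (π q) h0
      rw [map_sum, map_zero, Finset.sum_congr rfl fun r _ => hdelta q r (f r),
        Finset.sum_ite_eq', if_pos (Finset.mem_univ q), smul_eq_zero] at h1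
      have h2 := congrArg (fun T => ρ (out q : G)⁻¹ * T) (h1.resolve_left hE)
      simpa [← mul_assoc, hrr] using h2
    have h := LinearMap.finrank_le_finrank_of_injective hΨ
    rwa [Module.finrank_pi_fintype, Finset.sum_const, Finset.card_univ, smul_eq_mul,
      ← Nat.card_eq_fintype_card, Module.finrank_linearMap, ← pow_two] at h
  have hsum : ∀ S, ∑ q, π q S = (Nat.card E : k) • S := by
    intro S
    simp only [hπ]
    rw [Finset.sum_comm]
    simp only [← Finset.sum_smul]
    have hone : ∀ w : E, ∑ q : E ⧸ Z, (c w (out q))⁻¹ =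
        if w ∈ Z then (Nat.card (E ⧸ Z) : k) else 0 := by
      intro w
      by_cases hw : w ∈ Z
      · rw [if_pos hw, Finset.sum_congr rfl fun q _ => ?_, Finset.sum_const, Finset.card_univ,
          ← Nat.card_eq_fintype_card, nsmul_eq_mul, mul_one]
        rw [(c_one_iff w (out q)).2 (Subgroup.mem_center_iff.1 (mem_subgroupOf.1 hw) _).symm,
          inv_one]
      · rw [if_neg hw]
        obtain ⟨u₀, hu₀⟩ : ∃ u₀ : E, c w u₀ ≠ 1 := by
          by_contra h
          push Not at h
          exact hw (mem_subgroupOf.2 (hZ _ w.2 fun u hu => (c_one_iff w ⟨u, hu⟩).1 (h _)))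
        have h1 : ∑ q : E ⧸ Z, (c w (out ((u₀ : E ⧸ Z) * q)))⁻¹ =
            ∑ q : E ⧸ Z, (c w (out q))⁻¹ :=
          Fintype.sum_equiv (Equiv.mulLeft (u₀ : E ⧸ Z)) _ _ fun q => rfl
        have h2 : ∀ q : E ⧸ Z, c w (out ((u₀ : E ⧸ Z) * q)) = c w u₀ * c w (out q) := fun q => by
          rw [← c_mul_right]
          exact c_coset _ _ _ (by rw [hout, QuotientGroup.mk_mul, hout])
        simp only [h2, mul_inv, ← Finset.mul_sum] at h1
        exact (mul_left_eq_self₀.1 h1).resolve_left fun e => hu₀ (inv_eq_one.1 e)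
    rw [Finset.sum_congr rfl fun w _ => by rw [hone w]]
    simp only [ite_smul, zero_smul]
    rw [← Finset.sum_filter, Finset.sum_congr rfl (g := fun _ => (Nat.card (E ⧸ Z) : k) • S)
      fun w hw => ?_, Finset.sum_const, ← Nat.cast_smul_eq_nsmul k, smul_smul, ← Nat.cast_mul]
    · congr 2
      rw [← Fintype.card_subtype, ← Nat.card_eq_fintype_card, Z.card_eq_card_quotient_mul_card_subgroup,
        mul_comm]
    · have hcw := Subgroup.mem_center_iff.1 (mem_subgroupOf.1 (Finset.mem_filter.1 hw).2)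
      obtain ⟨d, hd⟩ := exists_scalar hirr (ρ (w : G)) fun g => by
        rw [← map_mul, ← map_mul, hcw g]
      have h0 : ρ (w : G) * S = S * ρ (w : G) := by
        rw [hd, smul_mul_assoc, one_mul, mul_smul_comm, mul_one]
      have h1 : ρ (w : G) * (S * ρ (w : G)⁻¹) = S := by
        rw [← mul_assoc, h0, mul_assoc, hrr', mul_one]
      rw [h1]
  -- the permutation induced by `x`
  have hconjZ : ∀ g : G, Z.map (MulAut.conjNormal g : E ≃* E).toMonoidHom = Z := by
    intro g
    ext u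
    simp only [Subgroup.mem_map_equiv, hZdef, mem_subgroupOf, MulAut.conjNormal_symm_apply]
    exact ⟨fun h => by simpa [mul_assoc] using (inferInstance : (center G).Normal).conj_mem _ h g,
      fun h => by simpa using (inferInstance : (center G).Normal).conj_mem _ h g⁻¹⟩
  let σ : Equiv.Perm (E ⧸ Z) := (QuotientGroup.congr Z Z (MulAut.conjNormal x) (hconjZ x)).toEquiv
  have hσ : ∀ u : E, σ (QuotientGroup.mk u) = QuotientGroup.mk (MulAut.conjNormal x u) :=
    fun u => rfl
  have hσp : σ ^ p = 1 := by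
    have hpow : ∀ (n : ℕ) (u : E), (σ ^ n) (QuotientGroup.mk u) =
        QuotientGroup.mk ((MulAut.conjNormal x ^ n) u) := by
      intro n
      induction n with
      | zero => intro u; rfl
      | succ n ih =>
        intro u
        rw [pow_succ', Equiv.Perm.mul_apply, ih, hσ, pow_succ', MulAut.mul_apply]
    refine Equiv.ext fun q => ?_
    obtain ⟨u, rfl⟩ := QuotientGroup.mk_surjective q
    rw [hpow, ← map_pow, hx, map_one]
    rfl
  obtain ⟨R, hR, hRcard⟩ := OrbitCount.exists_orbit_reps σ hσp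
  have h4 := hcount σ hσ R hRcard
  set T := ρ x with hTdef
  let X : Module.End k (Module.End k V) := LinearMap.mulLeft k T ∘ₗ LinearMap.mulRight k (ρ x⁻¹)
  have hX : ∀ S, X S = T * (S * ρ x⁻¹) := fun S => rfl
  have hsumE : (Nat.card E : k) ≠ 0 := hE
  have heq : ∀ q S, π (σ q) (X S) = X (π q S) := by
    intro q S
    rw [hX, hX, hπ, hπ, Finset.sum_mul, Finset.mul_sum]
    refine (Fintype.sum_equiv (MulAut.conjNormal x : E ≃* E).toEquiv _ _ fun w => ?_).symm
    have hcc : c (MulAut.conjNormal x w) (out (σ q)) = c w (out q) := by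
      have h0 : ((out (σ q) : E) : E ⧸ Z) = (MulAut.conjNormal x (out q) : E) := by
        rw [hout, ← hσ, hout]
      rw [c_coset _ _ _ h0]
      refine huniq _ _ _ ?_
      rw [MulAut.conjNormal_apply, MulAut.conjNormal_apply, map_mul, map_mul, map_mul, map_mul]
      calc T * ρ (w : G) * ρ x⁻¹ * (T * ρ (out q : G) * ρ x⁻¹)
          = T * (ρ (w : G) * ((ρ x⁻¹ * T) * (ρ (out q : G) * ρ x⁻¹))) := by simp only [mul_assoc]
        _ = T * ((ρ (w : G) * ρ (out q : G)) * ρ x⁻¹) := by rw [hrr, one_mul, mul_assoc]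
        _ = c w (out q) • (T * ((ρ (out q : G) * ρ (w : G)) * ρ x⁻¹)) := by
          rw [hc w (out q), smul_mul_assoc, mul_smul_comm]
        _ = _ := by
          congr 1
          calc T * ((ρ (out q : G) * ρ (w : G)) * ρ x⁻¹)
              = T * (ρ (out q : G) * ((ρ x⁻¹ * T) * (ρ (w : G) * ρ x⁻¹))) := by
                rw [hrr, one_mul, mul_assoc]
            _ = _ := by simp only [mul_assoc]; rfl
    show T * (((c w (out q))⁻¹ • (ρ w * (S * ρ (w : G)⁻¹))) * ρ x⁻¹) =
      (c (MulAut.conjNormal x w) (out (σ q)))⁻¹ •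
        (ρ (MulAut.conjNormal x w : E) * (T * (S * ρ x⁻¹) * ρ ((MulAut.conjNormal x w : E) : G)⁻¹))
    rw [hcc, smul_mul_assoc, mul_smul_comm, MulAut.conjNormal_apply,
      show (x * (w : G) * x⁻¹)⁻¹ = x * (w : G)⁻¹ * x⁻¹ by group, map_mul, map_mul, map_mul, map_mul]
    congr 1
    calc T * (ρ w * (S * ρ (w : G)⁻¹) * ρ x⁻¹)
        = T * (ρ w * ((ρ x⁻¹ * T) * (S * ((ρ x⁻¹ * T) * (ρ (w : G)⁻¹ * ρ x⁻¹))))) := by
          rw [hrr, one_mul, one_mul]; simp only [mul_assoc]
      _ = _ := by simp only [mul_assoc]; rfl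
  have hle := OrbitCount.fixed_le R σ hR X π hsumE hsum heq hb
  have hker : LinearMap.ker (X - 1) =
      LinearMap.ker (LinearMap.mulLeft k T - LinearMap.mulRight k T) := by
    ext S
    rw [LinearMap.mem_ker, LinearMap.mem_ker, LinearMap.sub_apply, LinearMap.sub_apply,
      sub_eq_zero, sub_eq_zero, Module.End.one_apply, hX, LinearMap.mulLeft_apply,
      LinearMap.mulRight_apply]
    constructor
    · intro h
      calc T * S = T * (S * ρ x⁻¹) * T := by rw [mul_assoc, mul_assoc, hrr, mul_one]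
        _ = S * T := by rw [h]
    · intro h
      rw [← mul_assoc, h, mul_assoc, hrr', mul_one]
  have hT1 : T ≠ 1 := fun h => hx1 (hinj (h.trans (map_one ρ).symm))
  have h5 := OrbitCount.sq_lt_commutant hT1
  rw [← hker] at h5
  have h6 : (2 * Module.finrank k (LinearMap.ker (T - 1))) ^ 2 < Module.finrank k V ^ 2 := by
    calc (2 * Module.finrank k (LinearMap.ker (T - 1))) ^ 2
        = 4 * Module.finrank k (LinearMap.ker (T - 1)) ^ 2 := by ring
      _ < 4 * (R.card * Module.finrank k B) :=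
          Nat.mul_lt_mul_of_pos_left (h5.trans_le hle) (by norm_num)
      _ = (4 * R.card) * Module.finrank k B := by ring
      _ ≤ Nat.card (E ⧸ Z) * Module.finrank k B := Nat.mul_le_mul_right _ h4
      _ ≤ _ := hWb
  exact lt_of_pow_lt_pow_left₀ 2 (Nat.zero_le _) h6

end Extraspecial

end CfsgLib.Coprime.FixedSpaceHalf
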