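import Cfsg.Agent.Lib.Coprime.FixedSpacePrimitive

/-!
The bound on the fixed space for a module on which the sum over a normal subgroup vanishes.
-/

set_option autoImplicit false

namespace CfsgLib.Coprime.FixedSpaceHalf

open Subgroup
open scoped commutatorElement

universe u v w

section Main

variable {k : Type v} [Field k] [IsAlgClosed k]

/-- The irreducible step. -/
theorem bound_step {G : Type u} [Group G] [Finite G] [Group.IsSolvable G] {p : ℕ}
    [hp : Fact p.Prime] (hp5 : 5 ≤ p) {x : G} (hx : x ^ p = 1)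
    (hgen : normalClosure ({x} : Set G) = ⊤) (N : Subgroup G) [Fintype N]
    (hN : (Nat.card N : k) ≠ 0) {W : Type w} [AddCommGroup W] [Module k W] [FiniteDimensional k W]
    [Nontrivial W] (ρ : G →* Module.End k W) (hsum : ∑ a : N, ρ a = 0)
    (hirr : ∀ S : Submodule k W, (∀ g, ∀ v ∈ S, ρ g v ∈ S) → S = ⊥ ∨ S = ⊤) :
    2 * Module.finrank k (LinearMap.ker (ρ x - 1)) < Module.finrank k W := by
  let ρK : G ⧸ ρ.ker →* Module.End k W := QuotientGroup.lift ρ.ker ρ le_rfl
  have hρK : ∀ g : G, ρK (QuotientGroup.mk g) = ρ g := fun g => rfl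
  have hinj : Function.Injective ρK := (injective_iff_map_eq_one ρK).2 fun q hq => by
    obtain ⟨g, rfl⟩ := QuotientGroup.mk'_surjective ρ.ker q
    exact (QuotientGroup.eq_one_iff g).2 hq
  have hirrK : ∀ S : Submodule k W, (∀ g, ∀ v ∈ S, ρK g v ∈ S) → S = ⊥ ∨ S = ⊤ :=
    fun S hS => hirr S fun g v hv => hρK g ▸ hS (QuotientGroup.mk g) v hv
  have hx1 : (QuotientGroup.mk x : G ⧸ ρ.ker) ≠ 1 := by
    intro h
    have hle : normalClosure ({x} : Set G) ≤ ρ.ker :=
      normalClosure_le_normal (Set.singleton_subset_iff.2 ((QuotientGroup.eq_one_iff x).1 h))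
    rw [hgen] at hle
    have h1 : ∑ a : N, ρ a = (Nat.card N : k) • (1 : Module.End k W) := by
      rw [Finset.sum_congr rfl fun (a : N) _ => (hle (mem_top (a : G)) : ρ a = 1), Finset.sum_const,
        Finset.card_univ, ← Nat.card_eq_fintype_card, Nat.cast_smul_eq_nsmul]
    rw [hsum, eq_comm, smul_eq_zero] at h1
    exact h1.elim hN one_ne_zero
  have h := irreducible_bound hirrK hinj hp5
    (x := QuotientGroup.mk x) (by rw [← QuotientGroup.mk_pow, hx]; rfl) hx1 (by
      rw [eq_top_iff]
      intro q _
      obtain ⟨g, rfl⟩ := QuotientGroup.mk'_surjective ρ.ker q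
      have hle : normalClosure ({x} : Set G) ≤
          (normalClosure ({QuotientGroup.mk x} : Set (G ⧸ ρ.ker))).comap
            (QuotientGroup.mk' ρ.ker) := by
        haveI : ((normalClosure ({QuotientGroup.mk x} : Set (G ⧸ ρ.ker))).comap
            (QuotientGroup.mk' ρ.ker)).Normal := Normal.comap inferInstance _
        exact normalClosure_le_normal (Set.singleton_subset_iff.2
          (subset_normalClosure (Set.mem_singleton _)))
      exact hle (hgen ▸ mem_top g))
  exact h

/-- The bound when the sum over a normal subgroup acts as zero. -/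
theorem bound_of_sum_zero {G : Type u} [Group G] [Finite G] [Group.IsSolvable G] {p : ℕ}
    [hp : Fact p.Prime] (hp5 : 5 ≤ p) {x : G} (hx : x ^ p = 1)
    (hgen : normalClosure ({x} : Set G) = ⊤) (N : Subgroup G) [Fintype N]
    (hN : (Nat.card N : k) ≠ 0) :
    ∀ (n : ℕ) (V : Type w) [AddCommGroup V] [Module k V] [FiniteDimensional k V]
      (ρ : G →* Module.End k V), ∑ a : N, ρ a = 0 → Module.finrank k V = n → 0 < n →
      2 * Module.finrank k (LinearMap.ker (ρ x - 1)) < n := by
  intro n
  induction n using Nat.strong_induction_on with | _ n ih => ?_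
  intro V _ _ _ ρ hsum hn hpos
  classical
  haveI : Nontrivial V := Module.nontrivial_of_finrank_pos (R := k) (hn ▸ hpos)
  obtain ⟨U, ⟨hU0, hUinv⟩, hmin⟩ :=
    (IsWellFounded.wf (r := (· < · : Submodule k V → Submodule k V → Prop))).has_min
      {U : Submodule k V | U ≠ ⊥ ∧ ∀ g, ∀ v ∈ U, ρ g v ∈ U}
      ⟨⊤, top_ne_bot, fun _ _ _ => Submodule.mem_top⟩
  haveI : Nontrivial U := Submodule.nontrivial_iff_ne_bot.2 hU0
  let ρU : G →* Module.End k U :=
    { toFun := fun g => (ρ g).restrict (hUinv g)
      map_one' := LinearMap.ext fun v => Subtype.ext (by simp [LinearMap.coe_restrict_apply])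
      map_mul' := fun g h => LinearMap.ext fun v => Subtype.ext (by
        simp [LinearMap.coe_restrict_apply]) }
  have hρU : ∀ g (v : U), ((ρU g v : U) : V) = ρ g v := fun _ _ => rfl
  have hsumU : ∑ a : N, ρU a = 0 := LinearMap.ext fun v => Subtype.ext (by
    rw [LinearMap.sum_apply, Submodule.coe_sum]
    simp only [hρU]
    rw [← LinearMap.sum_apply, hsum]; rfl)
  -- the irreducible part
  have hbU : 2 * Module.finrank k (LinearMap.ker (ρU x - 1)) < Module.finrank k U := by
    refine bound_step hp5 hx hgen N hN ρU hsumU fun S hS => ?_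
    by_cases hS0 : S = ⊥
    · exact Or.inl hS0
    refine Or.inr ?_
    have h1 : S.map U.subtype = U := by
      by_contra hne
      refine hmin (S.map U.subtype) ⟨?_, ?_⟩ (lt_of_le_of_ne (Submodule.map_subtype_le U S) hne)
      · intro h0
        exact hS0 (Submodule.map_injective_of_injective U.subtype_injective (by rw [h0, Submodule.map_bot]))
      · rintro g _ ⟨v, hv, rfl⟩
        exact ⟨ρU g v, hS g v hv, rfl⟩
    apply Submodule.map_injective_of_injective U.subtype_injective
    rw [h1, Submodule.map_top, Submodule.range_subtype]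
  -- the quotient
  let ρQ : G →* Module.End k (V ⧸ U) :=
    { toFun := fun g => U.mapQ U (ρ g) (hUinv g)
      map_one' := by ext v; simp
      map_mul' := fun g h => by ext v; simp }
  have hρQ : ∀ g v, ρQ g (Submodule.Quotient.mk v) = Submodule.Quotient.mk (ρ g v) := fun _ _ => rfl
  have hsumQ : ∑ a : N, ρQ a = 0 := by
    refine LinearMap.ext fun q => ?_
    obtain ⟨v, rfl⟩ := Submodule.Quotient.mk_surjective _ q
    rw [LinearMap.sum_apply]
    simp only [hρQ]
    rw [← Submodule.mkQ_apply, LinearMap.zero_apply]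
    simp only [← Submodule.mkQ_apply]
    rw [← map_sum, ← LinearMap.sum_apply, hsum, LinearMap.zero_apply, map_zero]
  have hUpos : 0 < Module.finrank k U := Module.finrank_pos
  have hadd := U.finrank_quotient_add_finrank
  have hbQ : 2 * Module.finrank k (LinearMap.ker (ρQ x - 1)) ≤ Module.finrank k (V ⧸ U) := by
    rcases Nat.eq_zero_or_pos (Module.finrank k (V ⧸ U)) with h | h
    · have := Submodule.finrank_le (LinearMap.ker (ρQ x - 1))
      omega
    · exact (ih _ (by omega) (V ⧸ U) ρQ hsumQ rfl h).le
  -- combine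
  let f : LinearMap.ker (ρ x - 1) →ₗ[k] LinearMap.ker (ρQ x - 1) :=
    (U.mkQ).restrict fun v hv => by
      rw [LinearMap.mem_ker, LinearMap.sub_apply, sub_eq_zero, Module.End.one_apply] at hv ⊢
      rw [Submodule.mkQ_apply, hρQ, hv]
  have hfker : Module.finrank k (LinearMap.ker f) ≤ Module.finrank k (LinearMap.ker (ρU x - 1)) := by
    have hmem : ∀ v : LinearMap.ker f, ((v : LinearMap.ker (ρ x - 1)) : V) ∈ U := fun v =>
      (Submodule.Quotient.mk_eq_zero U).1 (congrArg Subtype.val (LinearMap.mem_ker.1 v.2))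
    let g : LinearMap.ker f →ₗ[k] LinearMap.ker (ρU x - 1) :=
      { toFun := fun v => ⟨⟨((v : LinearMap.ker (ρ x - 1)) : V), hmem v⟩, by
          have h := (v : LinearMap.ker (ρ x - 1)).2
          rw [LinearMap.mem_ker, LinearMap.sub_apply, sub_eq_zero, Module.End.one_apply] at h ⊢
          exact Subtype.ext h⟩
        map_add' := fun _ _ => rfl
        map_smul' := fun _ _ => rfl }
    exact LinearMap.finrank_le_finrank_of_injective (f := g) fun a b e =>
      Subtype.ext (Subtype.ext (congrArg (fun z : LinearMap.ker (ρU x - 1) => ((z : U) : V)) e))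
  have hrn := f.finrank_range_add_finrank_ker
  have hrange := Submodule.finrank_le (LinearMap.range f)
  omega

end Main

end CfsgLib.Coprime.FixedSpaceHalf
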