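import Cfsg.Agent.Lib.Coprime.FixedSpaceBlocks
import Cfsg.Agent.Lib.Solvable.Cores
import Cfsg.Agent.Lib.PGroup.Frattini
import Cfsg.Agent.Lib.Fusion.PSolvable
import Cfsg.Agent.Lib.Solvable.Schmidt
import Cfsg.Agent.Lib.Solvable.FPFOperators.PLengthHH

/-!
The bound on the fixed space for a faithful irreducible module over an algebraically closed field.
-/

set_option autoImplicit false

namespace CfsgLib.Coprime.FixedSpaceHalf

open Subgroup
open scoped commutatorElement

universe u v

section Primitive

/-- The arithmetic of the orbit count. -/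
theorem four_mul_le {p R W F i : ℕ} (hp5 : 5 ≤ p) (hW : F * i = W)
    (hR : p * R ≤ W + (p - 1) * F) (hi : 4 * (p - 1) ≤ (p - 4) * i) : 4 * R ≤ W := by
  obtain ⟨q, rfl⟩ : ∃ q, p = q + 5 := ⟨p - 5, by omega⟩
  rw [show q + 5 - 1 = q + 4 from rfl] at hR hi
  rw [show q + 5 - 4 = q + 1 from rfl] at hi
  have h1 : 4 * ((q + 4) * F) ≤ (q + 1) * W := by
    calc 4 * ((q + 4) * F) = (4 * (q + 4)) * F := by ring
      _ ≤ ((q + 1) * i) * F := Nat.mul_le_mul_right _ hi
      _ = _ := by rw [← hW]; ring
  refine Nat.le_of_mul_le_mul_left ?_ (show 0 < q + 5 by omega)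
  linarith

/-- The index of the fixed points on the commutator quotient. -/
theorem index_fixed {p r t i : ℕ} (hp : p.Prime) (hr : r.Prime) (hp5 : 5 ≤ p) (hi : i = r ^ t)
    (ht : 2 ≤ t) (hmod : p ∣ i - 1 ∨ r = p) : 4 * (p - 1) ≤ (p - 4) * i := by
  obtain ⟨q, rfl⟩ : ∃ q, p = q + 5 := ⟨p - 5, by omega⟩
  rw [show q + 5 - 1 = q + 4 from rfl, show q + 5 - 4 = q + 1 from rfl]
  by_cases h16 : 16 ≤ i
  · calc 4 * (q + 4) ≤ (q + 1) * 16 := by omega
      _ ≤ _ := Nat.mul_le_mul_left _ h16
  have hrt : r ^ 2 ≤ i := hi ▸ Nat.pow_le_pow_right hr.pos ht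
  have hr2 := hr.two_le
  have hr3 : r ≤ 3 := by
    by_contra h
    have h4 : 4 * 4 ≤ r * r := Nat.mul_le_mul (by omega) (by omega)
    rw [pow_two] at hrt; omega
  rcases hmod with hmod | hmod
  swap
  · omega
  have ht4 : t ≤ 3 := by
    by_contra h
    have h1 : 2 ^ 4 ≤ i := hi ▸ (Nat.pow_le_pow_left hr2 4).trans (Nat.pow_le_pow_right hr.pos (by omega))
    omega
  have hq : q ≤ i := by
    have : 0 < i - 1 := by
      have := Nat.pow_le_pow_left hr2 2
      omega
    have := Nat.le_of_dvd this hmod
    omega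
  interval_cases t <;> interval_cases r <;> (subst hi; revert h16 hmod hp; interval_cases q <;> norm_num)

variable {G : Type u} [Group G] [Finite G] [Group.IsSolvable G] {k : Type v} [Field k] [IsAlgClosed k]
  {V : Type*} [AddCommGroup V] [Module k V] [FiniteDimensional k V] [Nontrivial V]
  {ρ : G →* Module.End k V}

/-- The bound for a faithful irreducible module. -/
theorem irreducible_bound
    (hirr : ∀ U : Submodule k V, (∀ g, ∀ v ∈ U, ρ g v ∈ U) → U = ⊥ ∨ U = ⊤)
    (hinj : Function.Injective ρ) {p : ℕ} [hp : Fact p.Prime] (hp5 : 5 ≤ p) {x : G} (hx : x ^ p = 1)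
    (hx1 : x ≠ 1) (hgen : normalClosure ({x} : Set G) = ⊤) :
    2 * Module.finrank k (LinearMap.ker (ρ x - 1)) < Module.finrank k V := by
  classical
  by_cases hA : ∃ (A : Subgroup G) (_ : A.Normal),
      (∀ a ∈ A, ∀ b ∈ A, Commute a b) ∧ ¬ A ≤ center G
  · obtain ⟨A, hAn, hAc, hAZ⟩ := hA
    obtain ⟨a, ha, haZ⟩ := SetLike.not_le_iff_exists.1 hAZ
    refine imprimitive_bound hirr hp5 hx hgen A
      (fun a ha b hb => by rw [← map_mul, ← map_mul, (hAc a ha b hb).eq])
      ⟨a, ha, fun c hc => haZ (Subgroup.mem_center_iff.2 fun g => hinj ?_)⟩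
    rw [map_mul, map_mul, hc, smul_mul_assoc, one_mul, mul_smul_comm, mul_one]
  push Not at hA
  set F := Cfsg.fittingSubgroup G with hF
  by_cases hFZ : F ≤ center G
  · -- `G` is abelian, so `x` is scalar
    have hxZ : x ∈ center G := hFZ (Solvable.Cores.centralizer_fittingSubgroup_le
      (mem_centralizer_iff.2 fun f hf => (Subgroup.mem_center_iff.1 (hFZ hf) x).symm))
    obtain ⟨c, hc⟩ := exists_scalar hirr (ρ x) fun g => by
      rw [← map_mul, ← map_mul, Subgroup.mem_center_iff.1 hxZ g]
    have hker : LinearMap.ker (ρ x - 1) = ⊥ := by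
      refine eq_bot_iff.2 fun v hv => ?_
      rw [LinearMap.mem_ker, LinearMap.sub_apply, hc, LinearMap.smul_apply, Module.End.one_apply,
        sub_eq_zero] at hv
      rw [Submodule.mem_bot]
      have h1 : (c - 1) • v = 0 := by rw [sub_smul, one_smul, hv, sub_self]
      refine (smul_eq_zero.1 h1).resolve_left fun e => hx1 (hinj ?_)
      rw [hc, sub_eq_zero.1 e, one_smul, map_one]
    rw [hker, finrank_bot, mul_zero]
    exact Module.finrank_pos
  obtain ⟨E, ⟨hEn, hEF, hEZ⟩, hmin⟩ :=
    (Set.toFinite {E : Subgroup G | E.Normal ∧ E ≤ F ∧ ¬ E ≤ center G}).exists_minimal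
      ⟨F, inferInstance, le_rfl, hFZ⟩
  haveI := hEn
  have hsub : ∀ K : Subgroup G, K.Normal → K ≤ E → K ≠ E → K ≤ center G := fun K hK hKE hne => by
    by_contra h
    exact hne (le_antisymm hKE (hmin ⟨hK, hKE.trans hEF, h⟩ hKE))
  haveI hEnil : Group.IsNilpotent E :=
    Solvable.Schmidt.isNilpotent_of_le hEF inferInstance
  -- `E` is an `r`-group
  obtain ⟨r, hr, hEr⟩ : ∃ r, r.Prime ∧ IsPGroup r E := by
    by_contra h
    push Not at h
    refine hEZ ?_
    have htop : (center G).subgroupOf E = ⊤ := by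
      refine Solvable.Cores.eq_top_of_sylow_le _ fun q hq => ?_
      haveI := Fact.mk hq
      obtain ⟨P⟩ : Nonempty (Sylow q E) := inferInstance
      haveI : (P : Subgroup E).Characteristic := P.characteristic_of_normal inferInstance
      refine ⟨P, fun y hy => mem_subgroupOf.2 (hsub ((P : Subgroup E).map E.subtype) inferInstance
        (map_subtype_le _) (fun e => h q hq ?_) (mem_map_of_mem E.subtype hy))⟩
      rw [← e]
      exact P.isPGroup'.map _
    exact subgroupOf_eq_top.1 htop
  haveI := Fact.mk hr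
  haveI : Nontrivial E := (Subgroup.nontrivial_iff_ne_bot E).2 fun e => hEZ (e ▸ bot_le)
  have hder : ⁅E, E⁆ ≤ center G := by
    have hlt : ⁅E, E⁆ < E :=
      Coprime.commutator_self_lt inferInstance ((Subgroup.nontrivial_iff_ne_bot E).1 ‹_›)
    exact hsub _ inferInstance hlt.le hlt.ne
  have hpow : ∀ u ∈ E, u ^ r ∈ center G := by
    set Φ := (frattini E).map E.subtype with hΦ
    haveI : Φ.Normal := inferInstance
    have hne : Φ ≠ E := fun e => by
      have h1 : frattini E = ⊤ := by
        apply map_injective E.subtype_injective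
        rw [← MonoidHom.range_eq_map, range_subtype]
        exact e
      have h2 := frattini_nongenerating (K := (⊥ : Subgroup E)) (by rw [h1, sup_top_eq])
      exact bot_ne_top h2
    intro u hu
    exact hsub Φ inferInstance (map_subtype_le _) hne
      ⟨⟨u, hu⟩ ^ r, PGroup.Frattini.pow_mem_frattini hEr ⟨u, hu⟩, rfl⟩
  have hZ : ∀ u ∈ E, (∀ w ∈ E, Commute u w) → u ∈ center G := by
    intro u hu hcu
    haveI : (center E).Characteristic := inferInstance
    have h1 := hA ((center E).map E.subtype) inferInstance (by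
      rintro _ ⟨a, ha, rfl⟩ _ ⟨b, hb, rfl⟩
      exact congrArg Subtype.val (Subgroup.mem_center_iff.1 hb a))
    exact h1 ⟨⟨u, hu⟩, Subgroup.mem_center_iff.2 fun w => Subtype.ext (hcu w w.2).symm.eq, rfl⟩
  have hnab : ∃ a ∈ E, ∃ b ∈ E, ¬ Commute a b := by
    by_contra h
    push Not at h
    exact hEZ (hA E inferInstance h)
  -- the characteristic does not divide `|E|`
  have hE : (Nat.card E : k) ≠ 0 := by
    obtain ⟨m, hm⟩ := (IsPGroup.iff_card (p := r)).1 hEr
    rw [hm, Nat.cast_pow]
    refine pow_ne_zero _ fun h => ?_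
    haveI : CharP k r := (CharP.charP_iff_prime_eq_zero hr).2 h
    obtain ⟨a, ha, b, hb, hab⟩ := hnab
    refine hab (commutatorElement_eq_one_iff_commute.1 (hinj ?_))
    have hz := hder (commutator_mem_commutator ha hb)
    obtain ⟨c, hc⟩ := exists_scalar hirr (ρ ⁅a, b⁆) fun g => by
      rw [← map_mul, ← map_mul, Subgroup.mem_center_iff.1 hz g]
    have hz1 : ⁅a, b⁆ ^ r = 1 := by
      have hcomm : ∀ n : ℕ, ⁅a, b ^ n⁆ = ⁅a, b⁆ ^ n := by
        intro n
        induction n with
        | zero => simp
        | succ n ih =>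
          have hzn : Commute b (⁅a, b⁆ ^ n) :=
            (show Commute b ⁅a, b⁆ from Subgroup.mem_center_iff.1 hz b).pow_right n
          have hzb : Commute b ⁅a, b⁆ := Subgroup.mem_center_iff.1 hz b
          rw [pow_succ' ⁅a, b⁆, ← ih, pow_succ']
          rw [← ih] at hzn
          calc ⁅a, b * b ^ n⁆ = ⁅a, b⁆ * (b * ⁅a, b ^ n⁆ * b⁻¹) := by
                simp only [commutatorElement_def]; group
            _ = _ := by rw [hzn.eq, mul_inv_cancel_right]
      rw [← hcomm r, commutatorElement_eq_one_iff_commute]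
      exact Subgroup.mem_center_iff.1 (hpow b hb) a
    have h1 : c ^ r = 1 := by
      have h2 : ρ (⁅a, b⁆ ^ r) = (c ^ r) • 1 := by rw [map_pow, hc, smul_pow, one_pow]
      rw [hz1, map_one] at h2
      exact smul_left_injective k (one_ne_zero (α := Module.End k V)) (h2.symm.trans (one_smul k _).symm)
    have h2 : c = 1 := by
      have h3 : (c - 1) ^ r = 0 := by rw [sub_pow_char, one_pow, h1, sub_self]
      exact sub_eq_zero.1 (pow_eq_zero_iff hr.ne_zero |>.1 h3)
    rw [hc, h2, one_smul, map_one]
  -- the action on `W = E / Z`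
  set Z := (center G).subgroupOf E with hZdef
  refine classTwo_bound hirr hinj hx hx1 E hder hZ hE fun σ hσ R hR => ?_
  letI : CommGroup (E ⧸ Z) := { (inferInstance : Group (E ⧸ Z)) with
    mul_comm := fun a b => by
      obtain ⟨a, rfl⟩ := QuotientGroup.mk'_surjective Z a
      obtain ⟨b, rfl⟩ := QuotientGroup.mk'_surjective Z b
      rw [← commutatorElement_eq_one_iff_mul_comm, ← map_commutatorElement]
      exact (QuotientGroup.eq_one_iff _).2 (mem_subgroupOf.2
        (hder (commutator_mem_commutator a.2 b.2))) }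
  have hconjZ : ∀ g : G, Z.map (MulAut.conjNormal g : E ≃* E).toMonoidHom = Z := by
    intro g
    ext u
    simp only [Subgroup.mem_map_equiv, hZdef, mem_subgroupOf, MulAut.conjNormal_symm_apply]
    exact ⟨fun h => by simpa [mul_assoc] using (inferInstance : (center G).Normal).conj_mem _ h g,
      fun h => by simpa using (inferInstance : (center G).Normal).conj_mem _ h g⁻¹⟩
  let θ : G →* MulAut (E ⧸ Z) :=
    MonoidHom.mk' (fun g => QuotientGroup.congr Z Z (MulAut.conjNormal g) (hconjZ g)) fun g h =>
      MulEquiv.ext fun q => by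
        obtain ⟨u, rfl⟩ := QuotientGroup.mk'_surjective Z q
        show QuotientGroup.mk' Z (MulAut.conjNormal (g * h) u) = _
        rw [map_mul, MulAut.mul_apply]
        rfl
  have hθ : ∀ (g : G) (u : E), θ g (QuotientGroup.mk u) = QuotientGroup.mk (MulAut.conjNormal g u) :=
    fun g u => rfl
  have hσθ : ∀ q, σ q = θ x q := fun q => by
    obtain ⟨u, rfl⟩ := QuotientGroup.mk_surjective q
    rw [hσ, hθ]
  -- `x` acts non-trivially
  have hxW : θ x ≠ 1 := by
    intro h
    have hker : ∀ g, θ g = 1 := by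
      intro g
      have hle : normalClosure ({x} : Set G) ≤ θ.ker := normalClosure_le_normal (by simpa using h)
      exact hle (hgen ▸ mem_top g)
    have hGE : ∀ g : G, ∀ u ∈ E, ⁅g, u⁆ ∈ center G := by
      intro g u hu
      have h1 := congrArg (fun a : MulAut (E ⧸ Z) => a (QuotientGroup.mk ⟨u, hu⟩)) (hker g)
      simp only [hθ, MulAut.one_apply] at h1
      have h2 := mem_subgroupOf.1 (QuotientGroup.eq.1 h1.symm)
      have h3 := (inferInstance : (center G).Normal).conj_mem _ h2 u
      simpa [commutatorElement_def, mul_assoc] using h3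
    set C := centralizer (E : Set G) with hC
    have hG'C : ⁅(⊤ : Subgroup G), ⊤⁆ ≤ C := by
      rw [hC, ← commutator_eq_bot_iff_le_centralizer]
      refine commutator_commutator_eq_bot_of_rotate ?_ ?_ <;> rw [commutator_eq_bot_iff_le_centralizer]
      · exact commutator_le.2 fun g _ u hu => center_le_centralizer _ (hGE g u hu)
      · exact commutator_le.2 fun u hu g _ => center_le_centralizer _ (by
          rw [← commutatorElement_inv]; exact inv_mem (hGE g u hu))
    set q := QuotientGroup.mk' C with hq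
    have hcl : (⊤ : Subgroup G) ≤ (zpowers (q x)).comap q := by
      rw [← hgen]
      refine (Subgroup.closure_le _).2 fun z hz => ?_
      obtain ⟨w, hw, hzw⟩ := Group.mem_conjugatesOfSet_iff.1 hz
      rw [Set.mem_singleton_iff] at hw
      rw [hw] at hzw
      obtain ⟨g, rfl⟩ := isConj_iff.1 hzw
      have h1 : q ⁅g, x⁆ = 1 :=
        (QuotientGroup.eq_one_iff _).2 (hG'C (commutator_mem_commutator (mem_top g) (mem_top x)))
      refine mem_zpowers_iff.2 ⟨1, ?_⟩
      rw [zpow_one, show g * x * g⁻¹ = ⁅g, x⁆ * x by rw [commutatorElement_def]; group, map_mul, h1,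
        one_mul]
    let f : E →* zpowers (q x) := (q.comp E.subtype).codRestrict _ fun u => hcl (mem_top _)
    have hf : f.ker ≤ center E := fun u hu => Subgroup.mem_center_iff.2 fun w => Subtype.ext (by
      have h1 : (u : G) ∈ C := (QuotientGroup.eq_one_iff _).1 (congrArg Subtype.val hu)
      exact mem_centralizer_iff.1 h1 w w.2)
    obtain ⟨a, ha, b, hb, hab⟩ := hnab
    exact hab (congrArg Subtype.val (commutative_of_cyclic_center_quotient f hf ⟨a, ha⟩ ⟨b, hb⟩))
  let φ : (E ⧸ Z) →* (E ⧸ Z) := MonoidHom.mk' (fun u => θ x u * u⁻¹) fun u w => by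
    rw [map_mul, mul_inv, mul_mul_mul_comm]
  have hφ : ∀ u, φ u = θ x u * u⁻¹ := fun _ => rfl
  set i := Nat.card φ.range with hidef
  have hfix : Nat.card {u : E ⧸ Z // σ u = u} = Nat.card φ.ker :=
    Nat.card_congr (Equiv.subtypeEquivRight fun u => by rw [MonoidHom.mem_ker, hφ, mul_inv_eq_one, hσθ])
  have hWi : Nat.card φ.ker * i = Nat.card (E ⧸ Z) := by
    rw [hidef, ← Subgroup.index_ker, Subgroup.card_mul_index]
  rw [hfix] at hR
  refine four_mul_le hp5 hWi hR ?_
  -- `i` is a power of `r`
  have hEZp : IsPGroup r (E ⧸ Z) := hEr.to_quotient Z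
  obtain ⟨t, ht⟩ := (IsPGroup.iff_card (p := r)).1 (hEZp.to_subgroup φ.range)
  have ht0 : t ≠ 0 := fun h => by
    rw [h, pow_zero, Subgroup.card_eq_one] at ht
    refine hxW (MulEquiv.ext fun u => ?_)
    have h1 : φ u = 1 := Subgroup.mem_bot.1 (ht ▸ ⟨u, rfl⟩)
    rwa [hφ, mul_inv_eq_one] at h1
  have hxp : θ x ^ p = 1 := by rw [← map_pow, hx, map_one]
  have hiter : ∀ (n : ℕ) (u : E ⧸ Z), θ x (φ u) = φ u → (θ x ^ n) u = φ u ^ n * u := by
    intro n u hu
    induction n with
    | zero => simp
    | succ n ih =>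
      rw [pow_succ', MulAut.mul_apply, ih, map_mul, map_pow, hu, pow_succ, mul_assoc, hφ,
        inv_mul_cancel_right]
  have hfree : r ≠ p → ∀ y ∈ φ.range, θ x y = y → y = 1 := by
    rintro hrp _ ⟨u, rfl⟩ hy
    have h1 : φ u ^ p = 1 := by
      have h2 := hiter p u hy
      rw [hxp, MulAut.one_apply, eq_comm, mul_eq_right] at h2
      exact h2
    obtain ⟨m, hm⟩ := hEZp (φ u)
    have h3 := pow_gcd_eq_one.2 ⟨h1, hm⟩
    rwa [((Nat.coprime_primes hp.out hr).2 (Ne.symm hrp)).pow_right m, pow_one] at h3
  refine index_fixed hp.out hr hp5 ht ?_ ?_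
  · -- `t ≠ 1`
    by_contra ht1
    have ht1 : t = 1 := by omega
    rw [ht1, pow_one] at ht
    by_cases hrp : r = p
    · -- a quadratic action contradicts Hall and Higman
      subst hrp
      have hfixI : ∀ y ∈ φ.range, θ x y = y := by
        intro y hy
        have hst : ∀ z ∈ φ.range, θ x z ∈ φ.range := by
          rintro _ ⟨u, rfl⟩
          exact ⟨θ x u, by rw [hφ, hφ, map_mul, map_inv]⟩
        let τ : Equiv.Perm φ.range := Equiv.ofBijective (fun z => ⟨θ x z, hst z z.2⟩)
          (Finite.injective_iff_bijective.1 fun a b e =>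
            Subtype.ext ((θ x).injective (congrArg Subtype.val e)))
        have hτp : τ ^ r = 1 := by
          have h : ∀ (n : ℕ) (z : φ.range), ((τ ^ n) z : E ⧸ Z) = (θ x ^ n) z := by
            intro n
            induction n with
            | zero => intro z; rfl
            | succ n ih =>
              intro z
              rw [pow_succ', Equiv.Perm.mul_apply, pow_succ', MulAut.mul_apply, ← ih]
              rfl
          exact Equiv.ext fun z => Subtype.ext (by rw [h, hxp]; rfl)
        by_cases hτ : τ = 1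
        · exact congrArg Subtype.val (Equiv.ext_iff.1 hτ ⟨y, hy⟩)
        exfalso
        -- the orbit of a moved point avoids `1`
        obtain ⟨z, hz⟩ : ∃ z, τ z ≠ z := by
          by_contra h
          push Not at h
          exact hτ (Equiv.ext h)
        have hper : Function.minimalPeriod τ z = r := Function.minimalPeriod_eq_prime
          (show Function.IsPeriodicPt τ r z by
            show (⇑τ)^[r] z = z
            rw [← Equiv.Perm.coe_pow, hτp]; rfl) hz
        have hτ1 : τ 1 = 1 := Subtype.ext (map_one (θ x))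
        have hinj' : Function.Injective (fun n : Option (Fin r) =>
            n.elim (1 : φ.range) fun n => (⇑τ)^[n] z) := by
          have hne1 : ∀ n : ℕ, (⇑τ)^[n] z ≠ 1 := by
            intro n
            induction n with
            | zero => intro e; exact hz (by rw [Function.iterate_zero_apply] at e; rw [e]; exact hτ1)
            | succ n ih =>
              intro e
              rw [Function.iterate_succ_apply', ← hτ1] at e
              exact ih (τ.injective e)
          rintro (_ | n) (_ | m) h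
          · rfl
          · exact absurd h.symm (hne1 m)
          · exact absurd h (hne1 n)
          · exact congrArg some (Fin.ext (Function.iterate_injOn_Iio_minimalPeriod
              (by simp [hper]) (by simp [hper]) h))
        have h1 := Nat.card_le_card_of_injective _ hinj'
        rw [ht, Nat.card_eq_fintype_card, Fintype.card_option, Fintype.card_fin] at h1
        omega
      -- the linear group
      haveI : Nontrivial (E ⧸ Z) := by
        by_contra h
        rw [not_nontrivial_iff_subsingleton] at h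
        exact hxW (MulEquiv.ext fun u => Subsingleton.elim _ _)
      obtain ⟨mod, ρ₀, hρ₀⟩ := Solvable.FPFOperators.exists_linear (r := r) (A := E ⧸ Z) (fun u => by
          obtain ⟨u, rfl⟩ := QuotientGroup.mk'_surjective Z u
          rw [← map_pow]
          exact (QuotientGroup.eq_one_iff _).2 (mem_subgroupOf.2 (hpow u u.2)))
        (QuotientGroup.kerLift θ)
      letI := mod
      have hρinj : Function.Injective ρ₀ := fun a b e => QuotientGroup.kerLift_injective θ
        (MulEquiv.ext fun u => Additive.ofMul.injective (by rw [← hρ₀, ← hρ₀, e]))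
      have hOp : Cfsg.pCore r (G ⧸ θ.ker) = ⊥ := by
        set P := Cfsg.pCore r (G ⧸ θ.ker) with hP
        letI : MulAction P (E ⧸ Z) :=
          { smul := fun g u => QuotientGroup.kerLift θ g u
            one_smul := fun u => by show QuotientGroup.kerLift θ 1 u = u; rw [map_one]; rfl
            mul_smul := fun g h u => by
              show QuotientGroup.kerLift θ (g * h : P) u = _
              rw [Subgroup.coe_mul, map_mul]; rfl }
        have hPp : IsPGroup r P := Solvable.Cores.isPGroup_pCore r
        have hdvd : r ∣ Nat.card (E ⧸ Z) := by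
          obtain ⟨m, hm⟩ := (IsPGroup.iff_card (p := r)).1 hEZp
          rw [hm]
          refine dvd_pow_self r fun e => ?_
          rw [e, pow_zero] at hm
          exact absurd hm (Finite.one_lt_card (α := E ⧸ Z)).ne'
        obtain ⟨w, hw, hw1⟩ := hPp.exists_fixed_point_of_prime_dvd_card_of_fixed_point (E ⧸ Z) hdvd
          (show (1 : E ⧸ Z) ∈ MulAction.fixedPoints P (E ⧸ Z) from fun g =>
            map_one (QuotientGroup.kerLift θ g))
        -- the fixed subgroup pulls back to a normal subgroup of `G`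
        let Fx : Subgroup G := {
          carrier := {g | ∃ hg : g ∈ E, ∀ a : P, QuotientGroup.kerLift θ a
            (QuotientGroup.mk ⟨g, hg⟩ : E ⧸ Z) = QuotientGroup.mk ⟨g, hg⟩}
          one_mem' := ⟨one_mem E, fun a => map_one _⟩
          mul_mem' := fun {g h} ⟨hg, hg'⟩ ⟨hh, hh'⟩ => ⟨mul_mem hg hh, fun a => by
            show QuotientGroup.kerLift θ a ((QuotientGroup.mk ⟨g, hg⟩ : E ⧸ Z) * QuotientGroup.mk ⟨h, hh⟩) = _
            rw [map_mul, hg', hh']; rfl⟩
          inv_mem' := fun {g} ⟨hg, hg'⟩ => ⟨inv_mem hg, fun a => by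
            show QuotientGroup.kerLift θ a (QuotientGroup.mk ⟨g, hg⟩ : E ⧸ Z)⁻¹ = _
            rw [map_inv, hg']; rfl⟩ }
        haveI : Fx.Normal := ⟨fun g hg0 c => by
          obtain ⟨hg, hg'⟩ := hg0
          refine ⟨hEn.conj_mem g hg c, fun a => ?_⟩
          have e : (QuotientGroup.mk (⟨c * g * c⁻¹, hEn.conj_mem g hg c⟩ : E) : E ⧸ Z) =
              QuotientGroup.kerLift θ (QuotientGroup.mk c) (QuotientGroup.mk ⟨g, hg⟩) := by
            rw [QuotientGroup.kerLift_mk]
            show _ = QuotientGroup.mk (MulAut.conjNormal c (⟨g, hg⟩ : E))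
            exact congrArg _ (Subtype.ext (MulAut.conjNormal_apply c (⟨g, hg⟩ : E)).symm)
          rw [e, ← MulAut.mul_apply, ← map_mul]
          have ha : (QuotientGroup.mk c)⁻¹ * (a : G ⧸ θ.ker) * (QuotientGroup.mk c)⁻¹⁻¹ ∈ P :=
            (inferInstance : P.Normal).conj_mem _ a.2 _
          rw [show (a : G ⧸ θ.ker) * QuotientGroup.mk c = QuotientGroup.mk c *
            ((QuotientGroup.mk c)⁻¹ * (a : G ⧸ θ.ker) * (QuotientGroup.mk c)⁻¹⁻¹) by group,
            map_mul, MulAut.mul_apply, hg' ⟨_, ha⟩]⟩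
        have hFxE : Fx = E := by
          by_contra hne
          have h1 := hsub Fx inferInstance (fun g h => by obtain ⟨hg, _⟩ := h; exact hg) hne
          obtain ⟨w, rfl⟩ := QuotientGroup.mk'_surjective Z w
          exact hw1 ((QuotientGroup.eq_one_iff w).2 (mem_subgroupOf.2 (h1 ⟨w.2, hw⟩))).symm
        refine eq_bot_iff.2 fun a ha => Subgroup.mem_bot.2 (QuotientGroup.kerLift_injective θ ?_)
        rw [map_one]
        refine MulEquiv.ext fun u => ?_
        obtain ⟨u, rfl⟩ := QuotientGroup.mk'_surjective Z u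
        obtain ⟨_, h⟩ : (u : G) ∈ Fx := by rw [hFxE]; exact u.2
        exact h ⟨a, ha⟩
      haveI : Finite (Additive (E ⧸ Z)) := inferInstanceAs (Finite (E ⧸ Z))
      obtain ⟨W', iW', iWM', iWF', ρ', hρ'inj, hρ'⟩ :=
        Solvable.FPFOperators.exists_closure_rep ρ₀ hρinj
      have hquad : (ρ₀ (QuotientGroup.mk x) - 1) ^ 2 = 0 := by
        refine LinearMap.ext fun v => ?_
        obtain ⟨u, rfl⟩ := Additive.ofMul.surjective v
        have h1 : ∀ w : E ⧸ Z, (ρ₀ (QuotientGroup.mk x) - 1) (Additive.ofMul w) =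
            Additive.ofMul (φ w) := fun w => by
          rw [LinearMap.sub_apply, Module.End.one_apply, hρ₀, QuotientGroup.kerLift_mk, hφ,
            ofMul_mul, ofMul_inv, ← sub_eq_add_neg]
        rw [pow_two, Module.End.mul_apply, h1, h1, hφ (φ u), hfixI _ ⟨u, rfl⟩, mul_inv_cancel]
        rfl
      have hord : (QuotientGroup.mk x : G ⧸ θ.ker) ≠ 1 := fun e =>
        hxW ((QuotientGroup.eq_one_iff x).1 e)
      obtain ⟨q, -, -, n₀, m, hn₀, hn₀', -, -, hle, -⟩ :=
        Solvable.FPFOperators.exists_hallHigmanExc (r := 2) (n := 0)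
          (Fusion.PSolvable.psolvable_of_solvable (p := r)) hOp ρ' hρ'inj (s := QuotientGroup.mk x)
          (by rw [← QuotientGroup.mk_pow, zero_add, pow_one, hx]; rfl)
          (by rw [pow_zero, pow_one]; exact hord) ((hρ' _ 2).2 hquad)
          (by rw [zero_add, pow_one]; omega)
      have : n₀ = 1 := by omega
      subst this
      simp at hle
      omega
    · -- a cyclic commutator part is orthogonal to everything
      have hmemI := fun u : E ⧸ Z => (show φ u ∈ φ.range from ⟨u, rfl⟩)
      obtain ⟨y₀, hy₀, hy₀1⟩ : ∃ y ∈ φ.range, y ≠ 1 :=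
        φ.range.bot_or_exists_ne_one.resolve_left fun h => by
          rw [h, Subgroup.card_bot] at ht; exact hr.one_lt.ne ht
      obtain ⟨a, rfl⟩ := QuotientGroup.mk'_surjective Z y₀
      have hcycI : ∀ y ∈ φ.range, y ∈ zpowers (QuotientGroup.mk' Z a) := by
        intro y hy
        have h1 : zpowers (QuotientGroup.mk' Z a) = φ.range := by
          refine eq_of_le_of_card_ge (zpowers_le.2 hy₀) ?_
          rw [ht, Nat.card_zpowers]
          exact le_of_eq (orderOf_eq_prime (by
            have := Subgroup.orderOf_dvd_natCard φ.range hy₀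
            rw [ht] at this
            exact orderOf_dvd_iff_pow_eq_one.1 this) hy₀1).symm
        exact h1 ▸ hy
      -- every element is a product of a fixed one and one in the range
      have hdec : ∀ w : E ⧸ Z, ∃ y ∈ φ.range, ∃ c, θ x c = c ∧ w = y * c := by
        have hinj : Function.Injective (fun y : φ.range => (⟨φ y, hmemI y⟩ : φ.range)) := by
          intro y z e
          have e' : φ (y : E ⧸ Z) = φ (z : E ⧸ Z) := congrArg Subtype.val e
          have h1 : φ ((y : E ⧸ Z) * (z : E ⧸ Z)⁻¹) = 1 := by rw [map_mul, map_inv, e', mul_inv_cancel]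
          rw [hφ, mul_inv_eq_one] at h1
          exact Subtype.ext (mul_inv_eq_one.1 (hfree hrp _ (mul_mem y.2 (inv_mem z.2)) h1))
        intro w
        obtain ⟨y, hy⟩ := (Finite.injective_iff_surjective.1 hinj) ⟨φ w, hmemI w⟩
        have hy' : φ (y : E ⧸ Z) = φ w := congrArg Subtype.val hy
        refine ⟨y, y.2, (y : E ⧸ Z)⁻¹ * w, ?_, by group⟩
        have h1 : φ ((y : E ⧸ Z)⁻¹ * w) = 1 := by rw [map_mul, map_inv, hy', inv_mul_cancel]
        rwa [hφ, mul_inv_eq_one] at h1
      refine hy₀1 ((QuotientGroup.eq_one_iff a).2 (mem_subgroupOf.2 (hZ a a.2 fun w hw => ?_)))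
      obtain ⟨y, hy, c, hc, hwc⟩ := hdec (QuotientGroup.mk ⟨w, hw⟩)
      obtain ⟨j, hj⟩ := hcycI y hy
      obtain ⟨c, rfl⟩ := QuotientGroup.mk'_surjective Z c
      obtain ⟨u, hu⟩ := hy₀
      obtain ⟨u, rfl⟩ := QuotientGroup.mk'_surjective Z u
      -- `a` commutes with `c`
      have hcom : ∀ (v v' z : E), (v : E ⧸ Z) = v' → Commute (v : G) z → Commute (v' : G) z := by
        intro v v' z h hv
        obtain ⟨s, hs, rfl⟩ : ∃ s ∈ Z, v' = v * s := ⟨v⁻¹ * v', QuotientGroup.eq.1 h, by group⟩
        exact Commute.mul_left hv (Subgroup.mem_center_iff.1 (mem_subgroupOf.1 hs) z).symm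
      have hac : Commute (a : G) (c : G) := by
        have e1 : ((MulAut.conjNormal x c : E) : E ⧸ Z) = c := hc
        have e2 : ((MulAut.conjNormal x u * u⁻¹ : E) : E ⧸ Z) = a := by
          rw [QuotientGroup.mk_mul, QuotientGroup.mk_inv]; exact hu
        refine hcom _ _ _ e2 ?_
        rw [Subgroup.coe_mul, MulAut.conjNormal_apply, Subgroup.coe_inv]
        -- the pairing is invariant under conjugation by `x`
        obtain ⟨s, hs, hsc⟩ : ∃ s ∈ center G, x⁻¹ * (c : G) * x = c * s := by
          have h2 := mem_subgroupOf.1 (QuotientGroup.eq.1 e1)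
          rw [Subgroup.coe_mul, Subgroup.coe_inv, MulAut.conjNormal_apply] at h2
          refine ⟨_, (inferInstance : (center G).Normal).conj_mem _ h2 x⁻¹, ?_⟩
          have h3 := Subgroup.mem_center_iff.1 h2
          calc x⁻¹ * (c : G) * x = x⁻¹ * ((x * c * x⁻¹) * ((x * c * x⁻¹)⁻¹ * c)) * x := by group
            _ = _ := by group
        have hcc : ⁅x * (u : G) * x⁻¹, (c : G)⁆ = ⁅(u : G), (c : G)⁆ := by
          have hz := hder (commutator_mem_commutator u.2 c.2)
          have hsu := Subgroup.mem_center_iff.1 hs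
          calc ⁅x * (u : G) * x⁻¹, (c : G)⁆ = x * ⁅(u : G), x⁻¹ * (c : G) * x⁆ * x⁻¹ := by
                simp only [commutatorElement_def]; group
            _ = x * ⁅(u : G), (c : G)⁆ * x⁻¹ := by
                rw [hsc]
                congr 2
                have h4 : Commute s ((u : G)⁻¹) := (hsu _).symm
                calc ⁅(u : G), (c : G) * s⁆ = u * c * (s * (u : G)⁻¹) * (s⁻¹ * (c : G)⁻¹) := by
                      simp only [commutatorElement_def]; group
                  _ = u * c * ((u : G)⁻¹ * s) * (s⁻¹ * (c : G)⁻¹) := by rw [h4.eq]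
                  _ = _ := by simp only [commutatorElement_def]; group
            _ = _ := by rw [Subgroup.mem_center_iff.1 hz x, mul_inv_cancel_right]
        have hz1 := hder (commutator_mem_commutator u.2 c.2)
        rw [← commutatorElement_eq_one_iff_commute]
        have hz2 := Subgroup.mem_center_iff.1
          (hder (commutator_mem_commutator (inv_mem u.2) c.2)) (x * (u : G) * x⁻¹)
        calc ⁅x * (u : G) * x⁻¹ * (u : G)⁻¹, (c : G)⁆
            = (x * (u : G) * x⁻¹) * ⁅(u : G)⁻¹, (c : G)⁆ * (x * (u : G) * x⁻¹)⁻¹ *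
                ⁅x * (u : G) * x⁻¹, (c : G)⁆ := by simp only [commutatorElement_def]; group
          _ = ⁅(u : G)⁻¹, (c : G)⁆ * ⁅(u : G), (c : G)⁆ := by rw [hz2, mul_inv_cancel_right, hcc]
          _ = (u : G)⁻¹ * ⁅(c : G), (u : G)⁆ * u * ⁅(u : G), (c : G)⁆ := by
              simp only [commutatorElement_def]; group
          _ = 1 := by
              rw [← commutatorElement_inv (u : G) c, Subgroup.mem_center_iff.1 (inv_mem hz1) (u : G)⁻¹]
              group
      have hwj : ((a ^ j * c : E) : E ⧸ Z) = (⟨w, hw⟩ : E) := by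
        rw [QuotientGroup.mk_mul, QuotientGroup.mk_zpow]
        show QuotientGroup.mk' Z a ^ j * QuotientGroup.mk' Z c = _
        rw [show QuotientGroup.mk' Z a ^ j = y from hj, ← hwc]
      exact (hcom _ _ a hwj (by
        rw [Subgroup.coe_mul, Subgroup.coe_zpow]
        exact ((Commute.refl (a : G)).zpow_left j).mul_left hac.symm)).symm
  · by_cases hrp : r = p
    · exact Or.inr hrp
    refine Or.inl ?_
    haveI : Fintype φ.range := Fintype.ofFinite _
    have hst : ∀ z ∈ φ.range, θ x z ∈ φ.range := by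
      rintro _ ⟨u, rfl⟩
      exact ⟨θ x u, by rw [hφ, hφ, map_mul, map_inv]⟩
    let τ : Equiv.Perm φ.range := Equiv.ofBijective (fun z => ⟨θ x z, hst z z.2⟩)
      (Finite.injective_iff_bijective.1 fun a b e =>
        Subtype.ext ((θ x).injective (congrArg Subtype.val e)))
    have hτp : τ ^ p = 1 := by
      have h : ∀ (n : ℕ) (z : φ.range), ((τ ^ n) z : E ⧸ Z) = (θ x ^ n) z := by
        intro n
        induction n with
        | zero => intro z; rfl
        | succ n ih =>
          intro z
          rw [pow_succ', Equiv.Perm.mul_apply, pow_succ', MulAut.mul_apply, ← ih]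
          rfl
      exact Equiv.ext fun z => Subtype.ext (by rw [h, hxp]; rfl)
    -- only `1` is fixed
    have hPp : IsPGroup p (zpowers τ) := by
      rintro ⟨g, j, rfl⟩
      refine ⟨1, Subtype.ext ?_⟩
      show (τ ^ j) ^ p ^ 1 = 1
      rw [pow_one, ← zpow_natCast, ← zpow_mul, mul_comm, zpow_mul, zpow_natCast, hτp, one_zpow]
    have hmod := hPp.card_modEq_card_fixedPoints φ.range
    have hone : Nat.card (MulAction.fixedPoints (zpowers τ) φ.range) = 1 := by
      refine Nat.card_eq_one_iff_exists.2 ⟨⟨1, ?_⟩, fun z => Subtype.ext ?_⟩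
      · rintro ⟨g, j, rfl⟩
        exact (show zpowers τ ≤ MulAction.stabilizer (Equiv.Perm φ.range) (1 : φ.range) from
          zpowers_le.2 (Subtype.ext (map_one (θ x)))) ⟨j, rfl⟩
      · exact Subtype.ext (hfree hrp _ z.1.2 (congrArg Subtype.val (z.2 ⟨τ, mem_zpowers τ⟩)))
    rw [hone] at hmod
    exact (Nat.modEq_iff_dvd' Finite.card_pos).1 hmod.symm

end Primitive

end CfsgLib.Coprime.FixedSpaceHalf
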