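import Mathlib.FieldTheory.Finite.Basic
import Mathlib.GroupTheory.PGroup
import Mathlib.Data.ZMod.Basic
import Cfsg.Agent.Lib.Coprime.SchurZassenhaus
import Cfsg.Prelude.Def_Transfer

/-!
An irreducible action of a cyclic group of prime order `p` on an elementary abelian `q`-group:
the order of the module is `q ^ e` with `e` the multiplicative order of `q` modulo `p`.
-/

namespace CfsgLib.Coprime

open Polynomial in
/-- An irreducible module for a cyclic group of order dividing `n` in characteristic `q` has order at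
most `q ^ e` whenever `n ∣ q ^ e - 1`. -/
theorem card_le_of_irreducible_end {M : Type*} [AddCommGroup M] [Finite M] [Nontrivial M] {q e n : ℕ}
    [hq : Fact q.Prime] (hqM : ∀ m : M, q • m = 0) (σ : AddMonoid.End M) (hσ : σ ^ n = 1)
    (he : n ∣ q ^ e - 1) (he0 : e ≠ 0)
    (hirr : ∀ S : AddSubgroup M, (∀ s ∈ S, σ s ∈ S) → S = ⊥ ∨ S = ⊤) : Nat.card M ≤ q ^ e := by
  classical
  let R : Subring (AddMonoid.End M) := Subring.closure {σ}
  have hσR : σ ∈ R := Subring.subset_closure rfl
  have hcomm1 : R ≤ Subring.centralizer {σ} := Subring.closure_le.2 (by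
    intro y hy
    obtain rfl : y = σ := hy
    exact Subring.mem_centralizer_iff.2 fun z hz => by rw [show z = y from hz])
  have hcomm : R ≤ Subring.centralizer (R : Set (AddMonoid.End M)) := Subring.closure_le.2 (by
    intro y hy
    obtain rfl : y = σ := hy
    exact Subring.mem_centralizer_iff.2 fun r hr =>
      (Subring.mem_centralizer_iff.1 (hcomm1 hr) y rfl).symm)
  let _ : CommRing R :=
    { (inferInstance : Ring R) with
      mul_comm := fun a b => Subtype.ext (Subring.mem_centralizer_iff.1 (hcomm b.2) a.1 a.2) }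
  have hinj : ∀ r : R, r ≠ 0 → Function.Injective (r : AddMonoid.End M) := by
    intro r hr
    let f : M →+ M := (r : AddMonoid.End M)
    have hS : ∀ s ∈ f.ker, σ s ∈ f.ker := by
      intro s hs
      have h1 := DFunLike.congr_fun (Subring.mem_centralizer_iff.1 (hcomm1 r.2) σ rfl) s
      exact AddMonoidHom.mem_ker.2 (h1.symm.trans ((congrArg σ (AddMonoidHom.mem_ker.1 hs)).trans (map_zero _)))
    rcases hirr _ hS with h | h
    · exact (AddMonoidHom.ker_eq_bot_iff _).1 h
    · refine absurd (Subtype.ext ?_) hr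
      ext m
      exact AddMonoidHom.mem_ker.1 (h ▸ AddSubgroup.mem_top m)
  have : Nontrivial R := by
    obtain ⟨m, hm⟩ := exists_ne (0 : M)
    exact ⟨⟨1, 0, fun h => hm (DFunLike.congr_fun (congrArg Subtype.val h) m)⟩⟩
  have : NoZeroDivisors R := ⟨fun {a b} hab => by
    by_cases ha : a = 0
    · exact Or.inl ha
    refine Or.inr (Subtype.ext ?_)
    ext m
    refine hinj a ha ?_
    have := DFunLike.congr_fun (congrArg Subtype.val hab) m
    exact this.trans (map_zero _).symm⟩
  have : IsDomain R := NoZeroDivisors.to_isDomain R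
  have : Finite (AddMonoid.End M) := Finite.of_injective (fun f => (f : M → M)) DFunLike.coe_injective
  have : Fintype R := Fintype.ofFinite R
  have : CharP R q := (CharP.charP_iff_prime_eq_zero hq.out).2 (Subtype.ext (by
    ext m
    rw [Subring.coe_natCast, AddMonoid.End.natCast_apply]
    exact hqM m))
  obtain ⟨k, hk⟩ := he
  have hpos : 1 ≤ q ^ e := Nat.one_le_pow _ _ hq.out.pos
  have hk' : q ^ e = n * k + 1 := by omega
  have : Nontrivial (AddMonoid.End M) := by
    obtain ⟨m, hm⟩ := exists_ne (0 : M)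
    exact ⟨⟨1, 0, fun h => hm (DFunLike.congr_fun h m)⟩⟩
  have : CharP (AddMonoid.End M) q := (CharP.charP_iff_prime_eq_zero hq.out).2 (by
    ext m
    rw [AddMonoid.End.natCast_apply]
    exact hqM m)
  have hfix' : ∀ r ∈ R, r ^ q ^ e = r := by
    intro r hr
    induction hr using Subring.closure_induction with
    | mem x hx =>
      obtain rfl : x = σ := hx
      rw [hk', pow_succ, pow_mul, hσ, one_pow, one_mul]
    | zero => exact zero_pow (by omega)
    | one => exact one_pow _
    | add x y hx hy h1 h2 =>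
      rw [add_pow_char_pow_of_commute q e (Subring.mem_centralizer_iff.1 (hcomm hy) x hx), h1, h2]
    | neg x hx h1 =>
      have h := add_pow_char_pow_of_commute q e (Commute.neg_right (Commute.refl x))
      rw [add_neg_cancel, zero_pow (by omega), h1] at h
      exact eq_neg_of_add_eq_zero_right h.symm
    | mul x y hx hy h1 h2 =>
      rw [Commute.mul_pow (Subring.mem_centralizer_iff.1 (hcomm hy) x hx), h1, h2]
  have hfix : ∀ r : R, r ^ q ^ e = r := fun r =>
    Subtype.ext ((SubmonoidClass.coe_pow r (q ^ e)).trans (hfix' r.1 r.2))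
  have hdeg : Fintype.card R ≤ q ^ e := by
    have h1' : ∀ N : ℕ, 1 < N → (X ^ N - X : R[X]).natDegree = N := fun N hN => by
      rw [natDegree_sub_eq_left_of_natDegree_lt (by rw [natDegree_X, natDegree_pow, natDegree_X, mul_one]; exact hN),
        natDegree_pow, natDegree_X, mul_one]
    have h1 := h1' (q ^ e) (Nat.one_lt_pow he0 hq.out.one_lt)
    have h2 : (X ^ q ^ e - X : R[X]) ≠ 0 := fun h => by
      rw [h, natDegree_zero] at h1; omega
    rw [← h1, ← Finset.card_univ]
    refine Polynomial.card_le_degree_of_subset_roots fun r _ => ?_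
    rw [mem_roots h2, IsRoot.def]
    simp [hfix r]
  obtain ⟨m, hm⟩ := exists_ne (0 : M)
  let ev : R →+ M :=
    { toFun := fun r => (r : AddMonoid.End M) m
      map_zero' := rfl
      map_add' := fun _ _ => rfl }
  have hsurj : Function.Surjective ev := by
    rw [← AddMonoidHom.range_eq_top]
    refine (hirr ev.range ?_).resolve_left fun h => hm ?_
    · rintro _ ⟨r, rfl⟩
      exact ⟨⟨σ, hσR⟩ * r, rfl⟩
    · exact AddSubgroup.mem_bot.1 (h ▸ (⟨1, rfl⟩ : ev 1 ∈ ev.range))
  calc Nat.card M ≤ Nat.card R := Nat.card_le_card_of_surjective ev hsurj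
    _ ≤ q ^ e := by rwa [Nat.card_eq_fintype_card]

variable {G : Type*} [Group G] [Finite G]

/-- A normal elementary abelian `q`-subgroup on which an element of order dividing `p` acts
nontrivially and irreducibly has order `q ^ e`, `e` the order of `q` modulo `p`. -/
theorem card_eq_pow_orderOf {p q : ℕ} [hp : Fact p.Prime] (hq : q.Prime) (hqp : q ≠ p)
    (A : Subgroup G) [A.Normal] (hA : Cfsg.IsElementaryAbelian q A) (x : G) (hx : x ^ p = 1)
    (hnc : ∃ a ∈ A, x * a ≠ a * x)
    (hirr : ∀ B : Subgroup G, B ≤ A → (∀ b ∈ B, x * b * x⁻¹ ∈ B) → B = ⊥ ∨ B = A) :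
    Nat.card A = q ^ orderOf (q : ZMod p) := by
  have := Fact.mk hq
  let _ : CommGroup A := { (inferInstance : Group A) with mul_comm := hA.1.is_comm.comm }
  have hexp : ∀ a : A, a ^ q = 1 := fun a => Subtype.ext (by simpa using hA.2 a a.2)
  obtain ⟨k, hk⟩ := IsPGroup.iff_card.1 (show IsPGroup q A from fun a => ⟨1, by rw [pow_one]; exact hexp a⟩)
  obtain ⟨a₀, ha₀, hne₀⟩ := hnc
  have : Nontrivial A := ⟨⟨⟨a₀, ha₀⟩, 1, fun h => hne₀ (by simp [show a₀ = 1 from congrArg Subtype.val h])⟩⟩
  let φ : MulAut A := MulAut.conjNormal x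
  have hφ : φ ^ p = 1 := by rw [← map_pow, hx, map_one]
  have he0 : orderOf (q : ZMod p) ≠ 0 := by
    refine (orderOf_pos_iff.2 (isOfFinOrder_iff_pow_eq_one.2 ⟨p - 1, ?_, ?_⟩)).ne'
    · have := hp.out.two_le; omega
    · exact ZMod.pow_card_sub_one_eq_one (by rw [Ne, ZMod.natCast_eq_zero_iff]; exact fun h => hqp ((Nat.prime_dvd_prime_iff_eq hp.out hq).1 h).symm)
  -- divisibility: `x` fixes only `1`
  have hfix : ∀ a : A, φ a = a → a = 1 := by
    let B : Subgroup G := A ⊓ Subgroup.centralizer ({x} : Set G)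
    have hB : ∀ b ∈ B, x * b * x⁻¹ ∈ B := fun b hb => by
      rw [Subgroup.mem_centralizer_singleton_iff.1 hb.2 |>.symm, mul_inv_cancel_right]; exact hb
    intro a ha
    have haB : (a : G) ∈ B := ⟨a.2, Subgroup.mem_centralizer_singleton_iff.2 (mul_inv_eq_iff_eq_mul.1 (congrArg Subtype.val ha)).symm⟩
    rcases hirr B inf_le_left hB with h | h
    · exact Subtype.ext (Subgroup.mem_bot.1 (h ▸ haB))
    · exact absurd (Subgroup.mem_centralizer_singleton_iff.1 (h ▸ ha₀ : a₀ ∈ B).2).symm hne₀
  have hdvd : orderOf (q : ZMod p) ∣ k := by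
    have hφp : IsPGroup p (Subgroup.zpowers φ) := fun y => ⟨1, by
      obtain ⟨z, hz⟩ := Subgroup.mem_zpowers_iff.1 y.2
      refine Subtype.ext ?_
      rw [Subgroup.coe_pow, pow_one, ← hz, ← zpow_natCast, zpow_comm, zpow_natCast, hφ, one_zpow, Subgroup.coe_one]⟩
    have h1 := hφp.card_modEq_card_fixedPoints A
    have h2 : MulAction.fixedPoints (Subgroup.zpowers φ) A = {1} := by
      ext a
      refine ⟨fun h => hfix a (h ⟨φ, Subgroup.mem_zpowers φ⟩), ?_⟩
      rintro rfl y
      exact map_one (y : MulAut A)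
    rw [h2, hk, Nat.card_coe_set_eq, Set.ncard_singleton] at h1
    rw [orderOf_dvd_iff_pow_eq_one, ← Nat.cast_pow, ← Nat.cast_one, ZMod.natCast_eq_natCast_iff]
    exact h1
  refine le_antisymm ?_ ?_
  · have hqA : ∀ m : Additive A, q • m = 0 := fun m => by
      apply Additive.toMul.injective
      simpa using hexp m.toMul
    let ψ : AddMonoid.End (Additive A) := MonoidHom.toAdditive φ.toMonoidHom
    refine card_le_of_irreducible_end (M := Additive A) (n := p) hqA ψ ?_ ?_ he0 ?_
    · have hcoe : ∀ (i : ℕ) (m : A), (ψ ^ i) (Additive.ofMul m) = Additive.ofMul ((φ ^ i) m) := by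
        intro i
        induction i with
        | zero => intro m; rfl
        | succ i ih => intro m; rw [pow_succ', pow_succ' φ]; exact congrArg (fun z : Additive A => Additive.ofMul (φ z.toMul)) (ih m)
      refine DFunLike.ext _ _ fun m => ?_
      exact (hcoe p m.toMul).trans (by rw [hφ]; rfl)
    · rw [← (Nat.modEq_iff_dvd' (Nat.one_le_pow _ _ hq.pos)), ← ZMod.natCast_eq_natCast_iff, Nat.cast_pow, Nat.cast_one]
      exact (pow_orderOf_eq_one _).symm
    · intro S hS
      let B₀ : Subgroup A := AddSubgroup.toSubgroup' S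
      have := hirr (B₀.map A.subtype) (Subgroup.map_subtype_le _) ?_
      · rcases this with h | h
        · refine Or.inl ?_
          rw [Subgroup.map_eq_bot_iff_of_injective _ A.subtype_injective] at h
          exact AddSubgroup.toSubgroup'.injective (h.trans (map_bot AddSubgroup.toSubgroup').symm)
        · refine Or.inr ?_
          have h' : B₀ = ⊤ := Subgroup.map_injective A.subtype_injective (h.trans (by rw [← MonoidHom.range_eq_map, Subgroup.range_subtype]))
          exact AddSubgroup.toSubgroup'.injective (h'.trans (map_top AddSubgroup.toSubgroup').symm)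
      · rintro _ ⟨b, hb, rfl⟩
        exact ⟨φ b, hS (Additive.ofMul b) hb, rfl⟩
  · rw [hk]
    refine Nat.pow_le_pow_right hq.pos (Nat.le_of_dvd (Nat.pos_of_ne_zero fun h => ?_) hdvd)
    rw [h, pow_zero] at hk
    exact (Finite.one_lt_card (α := A)).ne' hk

end CfsgLib.Coprime
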