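import Cfsg.Agent.Lib.SmallGroups.BlockDegrees
import Cfsg.Agent.Lib.Coprime.Sylow
import Cfsg.Agent.Lib.Solvable.Basic
import Mathlib.GroupTheory.Transfer
import Cfsg.Prelude.Def_LocalStructure

/-!
The order of a finite group without normal Sylow `p`-subgroup.
-/

set_option autoImplicit false

namespace CfsgLib.Coprime.LeastNonPClosed

open Subgroup
open scoped commutatorElement

/-- No degree relation is possible below the bound. -/
theorem arith {p n m k e : ℕ} (hp : p.Prime) (hn : n = 1 + k * p) (hk : 1 ≤ k)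
    (hlt : 2 * (n * m) + 1 < p * p) (he2 : 2 ≤ e) (hem : e ≤ m) (l : List ℤ) (x : ℤ)
    (hl : l.length + 1 = e)
    (ha : ∀ a ∈ l, a.natAbs ∣ p * (n * m) ∧ 2 ≤ a.natAbs ∧ a ≡ 1 [ZMOD p])
    (hxd : x.natAbs ∣ p * (n * m)) (hxe : x ≡ e [ZMOD p]) (hx : x = 1 + l.sum) : False := by
  have hp2 := hp.two_le
  have hm0 : 1 ≤ m := by omega
  have hnp : p + 1 ≤ n := by rw [hn]; nlinarith
  have hnm : (p + 1) * m ≤ n * m := Nat.mul_le_mul_right _ hnp
  have hmlt : 2 * m + 1 < p := by
    by_contra h
    have h1 : p ≤ 2 * m + 1 := by omega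
    nlinarith
  have hcop : ∀ a : ℤ, ∀ r : ℕ, a ≡ r [ZMOD p] → 0 < r → r < p → a.natAbs.Coprime p := by
    intro a r har hr hrp
    refine Nat.Coprime.symm (hp.coprime_iff_not_dvd.2 fun h => ?_)
    have h1 : (p : ℤ) ∣ a := Int.natCast_dvd.2 h
    have h2 : (p : ℤ) ∣ (r : ℤ) := by
      have := Int.modEq_iff_dvd.1 har
      simpa using dvd_add this h1
    have := Nat.le_of_dvd hr (Int.natCast_dvd_natCast.1 h2)
    omega
  have hall : ∀ a ∈ l, a = (n : ℤ) := by
    intro a hal
    obtain ⟨hd, h2, hmod⟩ := ha a hal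
    have hd' : a.natAbs ∣ n * m :=
      (hcop a 1 (by simpa using hmod) one_pos (by omega)).dvd_of_dvd_mul_left hd
    obtain ⟨y, hy⟩ := hd'
    obtain ⟨t, ht⟩ := Int.modEq_iff_dvd.1 hmod.symm
    have hy0 : 0 < y := by
      rcases Nat.eq_zero_or_pos y with h | h
      · rw [h, mul_zero] at hy
        nlinarith
      · exact h
    have hyI : ((a.natAbs : ℤ)) * y = n * m := by exact_mod_cast hy.symm
    have hnI : (n : ℤ) = 1 + k * p := by exact_mod_cast hn
    rcases le_or_gt 0 a with h0 | h0
    · rw [Int.natAbs_of_nonneg h0] at hyI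
      have hsmall : 2 * y + 1 < p := by
        by_contra h
        have h1 : (p : ℤ) ≤ 2 * y + 1 := by omega
        have hApos : (p : ℤ) + 1 ≤ a := by
          have : 1 ≤ t := by
            by_contra h'
            have : (p : ℤ) * t ≤ 0 :=
              mul_nonpos_of_nonneg_of_nonpos (Int.natCast_nonneg p) (by omega)
            omega
          nlinarith
        have hlt' : 2 * ((n : ℤ) * m) + 1 < p * p := by exact_mod_cast hlt
        nlinarith
      have hdiff : (p : ℤ) ∣ (y : ℤ) - m := by
        refine ⟨(k : ℤ) * m - t * y, ?_⟩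
        have : a = 1 + p * t := by omega
        rw [this, hnI] at hyI
        linarith
      have hym : (y : ℤ) - m = 0 := by
        refine Int.eq_zero_of_dvd_of_natAbs_lt_natAbs hdiff ?_
        omega
      have hym' : (y : ℤ) = m := by omega
      rw [hym'] at hyI
      exact mul_right_cancel₀ (by omega) hyI
    · exfalso
      rw [Int.ofNat_natAbs_of_nonpos h0.le] at hyI
      have hsmall : 2 * y < p + 1 := by
        by_contra h
        have h1 : (p : ℤ) + 1 ≤ 2 * y := by omega
        have hApos : (p : ℤ) - 1 ≤ -a := by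
          have : t ≤ -1 := by
            by_contra h'
            have : 0 ≤ (p : ℤ) * t := mul_nonneg (Int.natCast_nonneg p) (by omega)
            omega
          nlinarith
        have hlt' : 2 * ((n : ℤ) * m) + 1 < p * p := by exact_mod_cast hlt
        nlinarith
      have hdiff : (p : ℤ) ∣ (y : ℤ) + m := by
        refine ⟨-((k : ℤ) * m) - t * y, ?_⟩
        have : a = 1 + p * t := by omega
        rw [this, hnI] at hyI
        linarith
      have hym : (y : ℤ) + m = 0 := by
        refine Int.eq_zero_of_dvd_of_natAbs_lt_natAbs hdiff ?_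
        omega
      omega
  have hsum : l.sum = (l.length : ℤ) * n := by
    rw [List.sum_eq_card_nsmul l (n : ℤ) hall, nsmul_eq_mul]
  have hxN : x = ((1 + l.length * n : ℕ) : ℤ) := by rw [hx, hsum]; push_cast; ring
  have hd' : x.natAbs ∣ n * m :=
    (hcop x e hxe (by omega) (by omega)).dvd_of_dvd_mul_left hxd
  rw [hxN, Int.natAbs_natCast] at hd'
  have hd'' : 1 + l.length * n ∣ m := by
    refine Nat.Coprime.dvd_of_dvd_mul_left ?_ hd'
    rw [Nat.coprime_add_mul_right_left]
    exact Nat.coprime_one_left n
  have h1 := Nat.le_of_dvd hm0 hd''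
  have h3 : n ≤ l.length * n := Nat.le_mul_of_pos_left n (by omega)
  omega

variable {H : Type} [Group H] [Finite H] {p : ℕ} [Fact p.Prime]

/-- A normal Sylow subgroup of a normal subgroup is normal. -/
theorem normal_of_le (P : Sylow p H) (N : Subgroup H) [hN : N.Normal] (hPN : (P : Subgroup H) ≤ N)
    (hclosed : Cfsg.IsPClosed p N) : (P : Subgroup H).Normal := by
  haveI := hclosed (P.subtype hPN)
  haveI : ((P.subtype hPN : Sylow p N) : Subgroup N).Characteristic :=
    Sylow.characteristic_of_normal _ inferInstance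
  have h : ((P.subtype hPN : Sylow p N) : Subgroup N).map N.subtype = (P : Subgroup H) := by
    rw [Sylow.coe_subtype, Subgroup.subgroupOf_map_subtype, inf_eq_left.2 hPN]
  rw [← h]
  infer_instance

/-- The bound. -/
theorem le_card (hp : p ≠ 2) (m : ℕ)
    (hleast : ∀ k : ℕ, IsPrimePow k → k % p = 1 → m ≤ k) :
    ∀ (c : ℕ) (H : Type) [Group H] [Finite H], Nat.card H = c → ¬ Cfsg.IsPClosed p H →
      min (p * m) (p * (p ^ 2 - 1) / 2) ≤ c := by
  classical
  have hpp : p.Prime := Fact.out
  intro c
  induction c using Nat.strong_induction_on with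
  | _ c ih =>
  intro H _ _ hcard hnc
  by_contra hlt
  rw [not_le] at hlt
  obtain ⟨hc1, hc2⟩ := lt_min_iff.1 hlt
  simp only [Cfsg.IsPClosed, not_forall] at hnc
  obtain ⟨P, hP⟩ := hnc
  have hsub : ∀ K : Subgroup H, K ≠ ⊤ → Cfsg.IsPClosed p K := by
    intro K hK
    by_contra h
    have hKlt : Nat.card K < c := hcard ▸ lt_of_le_of_ne
      (Nat.card_le_card_of_injective _ K.subtype_injective) fun e => hK (K.eq_top_of_card_eq e)
    exact (ih _ hKlt K rfl h).not_gt (lt_trans hKlt hlt)
  -- the number of Sylow subgroups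
  set Np := normalizer ((P : Subgroup H) : Set H) with hNp
  set n := Np.index with hn
  have hn1 : n % p = 1 := by
    rw [hn, hNp]; show (normalizer (P : Set H)).index % p = 1; rw [← P.card_eq_index_normalizer]
    exact Eq.trans (card_sylow_modEq_one p H) (Nat.mod_eq_of_lt hpp.one_lt)
  have hnne : n ≠ 1 := fun h => hP (normalizer_eq_top_iff.1 (index_eq_one.1 h))
  obtain ⟨k, hk⟩ : ∃ k, n = 1 + k * p := ⟨n / p, by
    have := Nat.div_add_mod n p; rw [mul_comm (n / p)]; omega⟩
  have hk0 : 1 ≤ k := by
    rcases Nat.eq_zero_or_pos k with h | h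
    · rw [h, zero_mul, add_zero] at hk
      exact absurd hk hnne
    · exact h
  have hnp : p + 1 ≤ n := by rw [hk]; nlinarith
  have hcn : c = Nat.card Np * n := by rw [← hcard, hn, ← Np.card_mul_index]
  have hbound : 2 * c < p * (p ^ 2 - 1) := by
    have := Nat.div_mul_le_self (p * (p ^ 2 - 1)) 2
    omega
  -- `P` has order `p`
  have hPN : (P : Subgroup H) ≤ Np := le_normalizer
  have hPp : Nat.card P = p := by
    obtain ⟨i, hi⟩ := (IsPGroup.iff_card (p := p)).1 P.2
    match i, hi with
    | 0, hi =>
      exfalso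
      rw [pow_zero] at hi
      refine hP ?_
      rw [(Subgroup.card_eq_one).1 hi]
      infer_instance
    | 1, hi => simpa using hi
    | i + 2, hi =>
      exfalso
      have h1 : p ^ 2 ≤ Nat.card Np := le_trans (hi ▸ Nat.pow_le_pow_right hpp.pos (by omega))
        (card_le_of_le hPN)
      have h2 : p ^ 2 * (p + 1) ≤ c := by
        rw [hcn]; exact Nat.mul_le_mul h1 hnp
      have h3 : p * (p ^ 2 - 1) ≤ p * p ^ 2 := Nat.mul_le_mul_left _ (Nat.sub_le _ _)
      nlinarith
  obtain ⟨m', hm'⟩ : p ∣ Nat.card Np := hPp ▸ card_dvd_of_le hPN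
  have hcard' : c = p * (n * m') := by rw [hcn, hm']; ring
  have hm0 : 1 ≤ m' := by
    rcases Nat.eq_zero_or_pos m' with h | h
    · rw [h, mul_zero] at hm'
      exact absurd hm' (Nat.card_pos.ne')
    · exact h
  by_cases hsimple : IsSimpleGroup H
  swap
  · -- a proper normal subgroup
    haveI : Nontrivial H := by
      by_contra h
      rw [not_nontrivial_iff_subsingleton] at h
      exact hP (by rw [Subsingleton.elim (P : Subgroup H) ⊥]; infer_instance)
    obtain ⟨N, hNn, hN0, hN1⟩ : ∃ N : Subgroup H, N.Normal ∧ N ≠ ⊥ ∧ N ≠ ⊤ := by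
      by_contra h
      push Not at h
      exact hsimple ⟨fun N hN => or_iff_not_imp_left.2 fun hb => h N hN hb⟩
    haveI := hNn
    have hPle : ¬ (P : Subgroup H) ≤ N := fun h => hP (normal_of_le P N h (hsub N hN1))
    set f := QuotientGroup.mk' N with hf
    have hPf : ((P : Subgroup H).map f).Normal := by
      have hclosed : Cfsg.IsPClosed p (H ⧸ N) := by
        by_contra h
        have hlt' : Nat.card (H ⧸ N) < c := by
          rw [← hcard, ← N.card_mul_index, ← Subgroup.index_eq_card]
          have h1 : 1 < Nat.card N := (one_lt_card_iff_ne_bot N).2 hN0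
          have h2 : 0 < N.index := Nat.pos_of_ne_zero index_ne_zero_of_finite
          nlinarith
        exact (ih _ hlt' (H ⧸ N) rfl h).not_gt (lt_trans hlt' hlt)
      exact hclosed (P.mapSurjective (QuotientGroup.mk'_surjective N))
    haveI : ((P : Subgroup H) ⊔ N).Normal := by
      have h : ((P : Subgroup H).map f).comap f = (P : Subgroup H) ⊔ N := by
        rw [comap_map_eq, hf, QuotientGroup.ker_mk']
      rw [← h]
      exact Normal.comap hPf f
    have htop : (P : Subgroup H) ⊔ N = ⊤ := by
      by_contra h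
      exact hP (normal_of_le P _ le_sup_left (hsub _ h))
    have hdis : Disjoint (P : Subgroup H) N := by
      have hdvd : Nat.card ↥((P : Subgroup H) ⊓ N) ∣ p :=
        (card_dvd_of_le (inf_le_left : (P : Subgroup H) ⊓ N ≤ P)).trans (dvd_of_eq hPp)
      rcases (Nat.dvd_prime hpp).1 hdvd with h | h
      · rw [disjoint_iff]; exact card_eq_one.1 h
      · exact absurd ((inf_eq_left.1 (eq_of_le_of_card_ge inf_le_left
          (by rw [h, hPp])))) hPle
    have hNcop : (Nat.card (P : Subgroup H)).Coprime (Nat.card N) := by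
      rw [hPp]
      refine hpp.coprime_iff_not_dvd.2 fun hd => ?_
      have h1 := Coprime.card_sup_of_le_normalizer (N := N) (H := (P : Subgroup H))
        (by rw [normalizer_eq_top]; exact le_top) hdis.symm
      rw [sup_comm, htop, Subgroup.card_top, hPp] at h1
      have h2 : p ^ 2 ∣ Nat.card H := by
        rw [h1, pow_two]; exact mul_dvd_mul_right hd p
      have h3 := P.card_eq_multiplicity
      rw [hPp] at h3
      have h4 := (hpp.pow_dvd_iff_le_factorization Nat.card_pos.ne').1 h2
      have h5 : p ^ 2 ≤ p ^ (Nat.card H).factorization p := Nat.pow_le_pow_right hpp.pos h4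
      rw [← h3] at h5
      nlinarith [hpp.two_le]
    have hPnN : (P : Subgroup H) ≤ normalizer (N : Set H) := by rw [normalizer_eq_top]; exact le_top
    have hsolP : Group.IsSolvable (P : Subgroup H) := by
      haveI := P.2.isNilpotent
      infer_instance
    have hR : ∀ r : ℕ, r.Prime → ∃ R : Sylow r N,
        ((R : Subgroup N).map N.subtype) ≤ centralizer ((P : Subgroup H) : Set H) := by
      intro r hr
      haveI := Fact.mk hr
      obtain ⟨R, hR⟩ := exists_invariant_sylow hPnN hNcop (.inl hsolP) r
      refine ⟨R, ?_⟩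
      set R' := (R : Subgroup N).map N.subtype with hR'
      by_contra hnc
      set M := R' ⊔ (P : Subgroup H) with hM
      have hR'N : R' ≤ N := map_subtype_le _
      have hMnc : ¬ Cfsg.IsPClosed p M := by
        intro h
        refine hnc fun a ha => mem_centralizer_iff.2 fun b hb => ?_
        have hnorm : ((P : Subgroup H).subgroupOf M).Normal := by
          have := h (P.subtype (le_sup_right : (P : Subgroup H) ≤ M))
          rwa [Sylow.coe_subtype] at this
        have hMP : M ≤ normalizer ((P : Subgroup H) : Set H) :=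
          (normal_subgroupOf_iff_le_normalizer le_sup_right).1 hnorm
        have h1 : ⁅b, a⁆ ∈ (P : Subgroup H) ⊓ N := by
          refine mem_inf.2 ⟨?_, ?_⟩
          · rw [commutatorElement_def, show b * a * b⁻¹ * a⁻¹ = b * (a * b⁻¹ * a⁻¹) by group]
            exact mul_mem hb ((mem_normalizer_iff.1 (hMP ((le_sup_left : R' ≤ M) ha)) _).1 (inv_mem hb))
          · exact mul_mem (hNn.conj_mem a (hR'N ha) b) (inv_mem (hR'N ha))
        rw [disjoint_iff.1 hdis, mem_bot] at h1
        exact commutatorElement_eq_one_iff_mul_comm.1 h1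
      have hMtop : M = ⊤ := by
        by_contra h
        exact hMnc (hsub M h)
      have hcardH : Nat.card H = Nat.card R' * p := by
        rw [← Subgroup.card_top, ← hMtop, hM, Coprime.card_sup_of_le_normalizer hR
          (hdis.symm.mono_left hR'N), hPp]
      have hdvd : n ∣ Nat.card R' := by
        refine ⟨m', Nat.eq_of_mul_eq_mul_left hpp.pos ?_⟩
        rw [← hcard', ← hcard, hcardH]; ring
      obtain ⟨i, hi⟩ := (IsPGroup.iff_card (p := r)).1 (R.2.map N.subtype)
      rw [hi] at hdvd
      obtain ⟨j, -, hj⟩ := (Nat.dvd_prime_pow hr).1 hdvd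
      have hj0 : 0 < j := Nat.pos_of_ne_zero fun h => hnne (by rw [hj, h, pow_zero])
      have hmn := hleast n ((isPrimePow_nat_iff n).2 ⟨r, j, hr, hj0, hj.symm⟩) hn1
      have h6 : p * m ≤ p * (n * m') :=
        Nat.mul_le_mul_left _ (hmn.trans (Nat.le_mul_of_pos_right n hm0))
      omega
    -- all invariant Sylow subgroups are centralised
    have hNC : N ≤ centralizer ((P : Subgroup H) : Set H) := by
      refine inf_eq_left.1 (eq_of_le_of_card_ge inf_le_left (Nat.le_of_dvd Nat.card_pos ?_))
      rw [Nat.dvd_iff_prime_pow_dvd_dvd]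
      intro r j hr hd
      haveI := Fact.mk hr
      obtain ⟨R, hR⟩ := hR r hr
      refine dvd_trans ?_ (card_dvd_of_le (le_inf (map_subtype_le (R : Subgroup N)) hR))
      rw [card_map_subtype, R.card_eq_multiplicity]
      exact pow_dvd_pow r ((hr.pow_dvd_iff_le_factorization Nat.card_pos.ne').1 hd)
    refine hP (normalizer_eq_top_iff.1 (top_le_iff.1 ?_))
    rw [← htop]
    exact sup_le le_normalizer (hNC.trans (centralizer_le_normalizer _))
  -- the simple case
  haveI := hsimple
  have hna : ¬ IsMulCommutative H := fun h => hP ⟨fun a ha g => by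
    rw [h.is_comm.comm g a, mul_inv_cancel_right]; exact ha⟩
  set C := centralizer ((P : Subgroup H) : Set H) with hC
  have hCN : C ≤ Np := centralizer_le_normalizer _
  obtain ⟨e, he⟩ : Nat.card C ∣ Nat.card Np := card_dvd_of_le hCN
  haveI : IsCyclic (P : Subgroup H) := isCyclic_of_prime_card hPp
  have hPC : (P : Subgroup H) ≤ C := fun a ha => mem_centralizer_iff.2 fun b hb =>
    (CfsgLib.Solvable.Basic.isMulCommutative_subgroup_iff.1 inferInstance) b hb a ha
  obtain ⟨b, hb⟩ : p ∣ Nat.card C := hPp ▸ card_dvd_of_le hPC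
  have hem : e ≤ m' := by
    have h1 : p * m' = p * (b * e) := by rw [← hm', he, hb]; ring
    have h2 := Nat.eq_of_mul_eq_mul_left hpp.pos h1
    have hb0 : 1 ≤ b := by
      rcases Nat.eq_zero_or_pos b with h | h
      · rw [h, mul_zero] at hb
        exact absurd hb Nat.card_pos.ne'
      · exact h
    rw [h2]; exact Nat.le_mul_of_pos_left e hb0
  have he2 : 2 ≤ e := by
    by_contra h
    have he1 : e = 1 := by
      rcases Nat.eq_zero_or_pos e with h0 | h0
      · rw [h0, mul_zero] at he
        exact absurd he Nat.card_pos.ne'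
      · omega
    have hle : Np ≤ C := (eq_of_le_of_card_ge hCN (by rw [he, he1, mul_one])).ge
    have hcomp := MonoidHom.ker_transferSylow_isComplement' P hle
    rcases (inferInstance : ((MonoidHom.transferSylow P hle).ker).Normal).eq_bot_or_eq_top with hb | hb
    · rw [hb] at hcomp
      have := Subgroup.isComplement'_bot_left.1 hcomp
      exact hP (by rw [this]; infer_instance)
    · rw [hb] at hcomp
      have := Subgroup.isComplement'_top_left.1 hcomp
      exact hP (by rw [this]; infer_instance)
  have hlt2 : 2 * (n * m') + 1 < p * p := by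
    have h1 : p * (2 * (n * m')) < p * (p ^ 2 - 1) := by
      calc p * (2 * (n * m')) = 2 * c := by rw [hcard']; ring
        _ < _ := hbound
    have h2 := Nat.lt_of_mul_lt_mul_left h1
    rw [pow_two] at h2
    omega
  have hm2 : 2 * m' + 1 < p := by
    by_contra h
    have h1 : (p + 1) * m' ≤ n * m' := Nat.mul_le_mul_right _ hnp
    have h3 : p ≤ 2 * m' + 1 := by omega
    nlinarith
  haveI := Fintype.ofFinite H
  obtain ⟨l, x, hl, ha, hxd, hxe, hx⟩ := SmallGroups.BlockDegrees.degree_relation hna hp P hPp
    (e := e) (by rw [← hNp, ← hC, he, mul_comm]) (by omega)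
  rw [hcard, hcard'] at hxd
  exact arith hpp hk hk0 hlt2 he2 hem l x hl (fun a haa => by
    obtain ⟨h1, h2, h3⟩ := ha a haa
    rw [hcard, hcard'] at h1
    exact ⟨h1, h2, h3⟩) hxd hxe hx

end CfsgLib.Coprime.LeastNonPClosed
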