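import Mathlib.GroupTheory.Nilpotent
import Mathlib.GroupTheory.Sylow

/-!
A counting criterion against nilpotent minimal covers.
-/

set_option autoImplicit false

namespace CfsgLib.Coprime.NilpotentCover

/-- If many representatives are pairwise never in a common nilpotent subgroup, and every nilpotent
subgroup through one of them is covered by fewer proper subgroups, there is no nilpotent minimal cover. -/
theorem no_cover {G : Type*} [Group G] {ι : Type*} [Finite ι] (e : ι → G) (𝓕 : Finset (Subgroup G))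
    (hF : ∀ B ∈ 𝓕, B ≠ ⊤) (hcard : 𝓕.card < Nat.card ι)
    (hsep : ∀ A : Subgroup G, Group.IsNilpotent A → ∀ i j, e i ∈ A → e j ∈ A → i = j)
    (hin : ∀ A : Subgroup G, Group.IsNilpotent A → ∀ i, e i ∈ A → ∀ a ∈ A, ∃ B ∈ 𝓕, a ∈ B) :
    ¬ ∃ 𝓐 : Finset (Subgroup G), ((∀ A ∈ 𝓐, A ≠ ⊤) ∧ (∀ g : G, ∃ A ∈ 𝓐, g ∈ A)) ∧
      (∀ 𝓑 : Finset (Subgroup G), (∀ A ∈ 𝓑, A ≠ ⊤) ∧ (∀ g : G, ∃ A ∈ 𝓑, g ∈ A) → 𝓐.card ≤ 𝓑.card) ∧
      (∀ A ∈ 𝓐, Group.IsNilpotent ↥A) := by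
  classical
  rintro ⟨𝓐, ⟨hprop, hcov⟩, hmin, hnil⟩
  choose cov hcov1 hcov2 using hcov
  let _ : Fintype ι := Fintype.ofFinite ι
  let D : Finset (Subgroup G) := Finset.univ.image fun i => cov (e i)
  have hD : D.card = Nat.card ι := by
    rw [Finset.card_image_of_injective _ fun i j hij =>
      hsep _ (hnil _ (hcov1 (e i))) i j (hcov2 (e i)) (by
        have h : cov (e i) = cov (e j) := hij
        rw [h]; exact hcov2 (e j)), Finset.card_univ, Nat.card_eq_fintype_card]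
  have hDA : D ⊆ 𝓐 := fun A hA => by
    obtain ⟨i, -, rfl⟩ := Finset.mem_image.1 hA
    exact hcov1 _
  have h1 := hmin ((𝓐 \ D) ∪ 𝓕) ⟨fun A hA => (Finset.mem_union.1 hA).elim
    (fun h => hprop A (Finset.mem_sdiff.1 h).1) (hF A), fun g => by
      by_cases hg : cov g ∈ D
      · obtain ⟨i, -, hi⟩ := Finset.mem_image.1 hg
        obtain ⟨B, hB, hgB⟩ := hin _ (hnil _ (hcov1 (e i))) i (hcov2 _) g (hi ▸ hcov2 g)
        exact ⟨B, Finset.mem_union_right _ hB, hgB⟩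
      · exact ⟨_, Finset.mem_union_left _ (Finset.mem_sdiff.2 ⟨hcov1 g, hg⟩), hcov2 g⟩⟩
  have h2 := Finset.card_union_le (𝓐 \ D) 𝓕
  rw [Finset.card_sdiff_of_subset hDA, hD] at h2
  have h3 := Finset.card_le_card hDA
  omega

end CfsgLib.Coprime.NilpotentCover
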