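import Cfsg.Agent.Lib.Coprime.NilpotentCover
import Cfsg.Agent.Lib.Classical.ParabolicGL
import Mathlib.LinearAlgebra.Matrix.CharP
import Mathlib.LinearAlgebra.Matrix.Block

/-!
Nilpotent subgroups of projective linear groups through regular unipotent elements.
-/

set_option autoImplicit false
set_option linter.unusedSectionVars false

open Matrix

namespace CfsgLib.Coprime.NilpotentCoverGL

variable {F : Type*} [Field F] {n : ℕ}

local notation "PG" => GL (Fin n) F ⧸ Subgroup.center (GL (Fin n) F)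
local notation "mkp" => QuotientGroup.mk' (Subgroup.center (GL (Fin n) F))

/-- The superdiagonal shift. -/
def shift (F : Type*) [Field F] (n : ℕ) : Matrix (Fin n) (Fin n) F :=
  Matrix.of fun i j => if (j : ℕ) = i + 1 then 1 else 0

lemma shift_pow_apply_eq_zero : ∀ (k : ℕ) (i j : Fin n), (j : ℕ) ≠ i + k → (shift F n ^ k) i j = 0 := by
  intro k
  induction k with
  | zero =>
    intro i j h
    rw [pow_zero, Matrix.one_apply_ne]
    exact fun e => h (by rw [e, Nat.add_zero])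
  | succ k ih =>
    intro i j h
    rw [pow_succ, Matrix.mul_apply]
    refine Finset.sum_eq_zero fun l _ => ?_
    by_cases hl : (l : ℕ) = i + k
    · rw [show shift F n l j = 0 from if_neg (by omega), mul_zero]
    · rw [ih i l hl, zero_mul]

lemma shift_pow_eq_zero {k : ℕ} (hk : n ≤ k) : shift F n ^ k = 0 := by
  ext i j
  exact shift_pow_apply_eq_zero k i j (by omega)

lemma det_one_add_shift : (1 + shift F n).det = 1 := by
  rw [Matrix.det_of_isUpperTriangular]
  · refine Finset.prod_eq_one fun i _ => ?_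
    rw [Matrix.add_apply, Matrix.one_apply_eq, show shift F n i i = 0 from if_neg (by omega), add_zero]
  · intro i j (hij : j < i)
    rw [Matrix.add_apply, Matrix.one_apply_ne hij.ne', show shift F n i j = 0 from if_neg (by omega), add_zero]

/-- The standard regular unipotent element. -/
noncomputable def u₀ (F : Type*) [Field F] (n : ℕ) : GL (Fin n) F :=
  Matrix.GeneralLinearGroup.mkOfDetNeZero (1 + shift F n) (by rw [det_one_add_shift]; exact one_ne_zero)

lemma u₀_val : ((u₀ F n : GL (Fin n) F) : Matrix (Fin n) (Fin n) F) = 1 + shift F n := rfl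

lemma u₀_mem_sl : u₀ F n ∈ Cfsg.Geo.specialLinear (Fin n) F :=
  CfsgLib.Classical.mem_specialLinear_iff.2 det_one_add_shift

variable [Fintype F]

lemma u₀_pow (p : ℕ) [Fact p.Prime] [CharP F p] [NeZero n] : u₀ F n ^ p ^ n = 1 := by
  refine Units.ext ?_
  rw [Units.val_pow_eq_pow_val, u₀_val, Units.val_one, add_pow_char_pow_of_commute (p := p) (h := Commute.one_left _),
    one_pow, shift_pow_eq_zero (Nat.lt_pow_self (Fact.out : p.Prime).one_lt).le, add_zero]

lemma col_fixed {v : Fin n → F} (h : (u₀ F n : Matrix (Fin n) (Fin n) F) *ᵥ v = v) (i : Fin n) (hi : (i : ℕ) ≠ 0) :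
    v i = 0 := by
  have h1 := congrFun h ⟨(i : ℕ) - 1, by omega⟩
  rw [u₀_val, Matrix.add_mulVec, Matrix.one_mulVec, Pi.add_apply, add_eq_left, Matrix.mulVec, dotProduct,
    Finset.sum_eq_single i] at h1
  · rwa [show shift F n ⟨(i : ℕ) - 1, by omega⟩ i = 1 from if_pos (show (i : ℕ) = (i : ℕ) - 1 + 1 by omega), one_mul] at h1
  · intro j _ hj
    rw [show shift F n ⟨(i : ℕ) - 1, by omega⟩ j = 0 from if_neg (fun e : (j : ℕ) = (i : ℕ) - 1 + 1 => hj (Fin.ext (by omega))), zero_mul]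
  · simp

lemma row_fixed {f : Fin n → F} (h : f ᵥ* (u₀ F n : Matrix (Fin n) (Fin n) F) = f) (i : Fin n) (hi : (i : ℕ) + 1 < n) :
    f i = 0 := by
  have h1 := congrFun h ⟨(i : ℕ) + 1, hi⟩
  rw [u₀_val, Matrix.vecMul_add, Matrix.vecMul_one, Pi.add_apply, add_eq_left, Matrix.vecMul, dotProduct,
    Finset.sum_eq_single i] at h1
  · rwa [show shift F n i ⟨(i : ℕ) + 1, hi⟩ = 1 from if_pos rfl, mul_one] at h1
  · intro j _ hj
    rw [show shift F n j ⟨(i : ℕ) + 1, hi⟩ = 0 from if_neg (fun e : (i : ℕ) + 1 = (j : ℕ) + 1 => hj (Fin.ext (by omega))), mul_zero]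
  · simp

/-- The preimage of a nilpotent subgroup of a projective group is nilpotent. -/
lemma isNilpotent_lift (G : Subgroup PG) (A : Subgroup G) (hA : Group.IsNilpotent A) :
    Group.IsNilpotent ↥((A.map G.subtype).comap mkp) := by
  have hB : Group.IsNilpotent ↥(A.map G.subtype) :=
    Group.nilpotent_of_mulEquiv (A.equivMapOfInjective G.subtype G.subtype_injective)
  refine Subgroup.isNilpotent_of_ker_le_center
    (((mkp).comp ((A.map G.subtype).comap mkp).subtype).codRestrict (A.map G.subtype) fun x => x.2) ?_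
  intro x hx
  have h1 : mkp (x : GL (Fin n) F) = 1 := congrArg Subtype.val (MonoidHom.mem_ker.1 hx)
  exact Subgroup.mem_center_iff.2 fun y => Subtype.ext (Subgroup.mem_center_iff.1 ((QuotientGroup.eq_one_iff _).1 h1) y)

/-- The `p`-elements of a nilpotent matrix group form a normal subgroup with a fixed column and row. -/
lemma exists_pcore (p : ℕ) [Fact p.Prime] [CharP F p] [NeZero n] (M : Subgroup (GL (Fin n) F)) (hM : Group.IsNilpotent M) :
    ∃ S : Subgroup (GL (Fin n) F), (∀ a ∈ M, ∀ s ∈ S, a * s * a⁻¹ ∈ S) ∧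
      (∀ u ∈ M, (∃ k : ℕ, u ^ p ^ k = 1) → u ∈ S) ∧
      (∃ v : Fin n → F, v ≠ 0 ∧ ∀ s ∈ S, (s : Matrix (Fin n) (Fin n) F) *ᵥ v = v) ∧
      (∃ f : Fin n → F, f ≠ 0 ∧ ∀ s ∈ S, f ᵥ* (s : Matrix (Fin n) (Fin n) F) = f) := by
  obtain ⟨P⟩ : Nonempty (Sylow p M) := inferInstance
  have := hM
  have hPn : (P : Subgroup M).Normal := inferInstance
  set S := (P : Subgroup M).map M.subtype with hS
  have hSp : IsPGroup p S := P.2.map _
  have hpV : p ∣ Nat.card (Fin n → F) := by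
    obtain ⟨m, -, hm⟩ := FiniteField.card F p
    rw [Nat.card_fun, Nat.card_eq_fintype_card (α := F), hm, Nat.card_eq_fintype_card (α := Fin n), Fintype.card_fin, ← pow_mul]
    exact dvd_pow_self p (Nat.mul_ne_zero m.ne_zero (NeZero.ne n))
  refine ⟨S, ?_, ?_, ?_, ?_⟩
  · rintro a ha _ ⟨s, hs, rfl⟩
    exact ⟨⟨a, ha⟩ * s * ⟨a, ha⟩⁻¹, hPn.conj_mem s hs _, rfl⟩
  · rintro u hu ⟨k, hk⟩
    obtain ⟨j, -, hj⟩ := (Nat.dvd_prime_pow (Fact.out : p.Prime)).1 (orderOf_dvd_of_pow_eq_one hk)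
    have hz : IsPGroup p (Subgroup.zpowers (⟨u, hu⟩ : M)) :=
      IsPGroup.of_card (n := j) (by rw [Nat.card_zpowers, Subgroup.orderOf_mk, hj])
    obtain ⟨Q, hQ⟩ := hz.exists_le_sylow
    let _ := Sylow.unique_of_normal P hPn
    exact ⟨⟨u, hu⟩, Subsingleton.elim Q P ▸ hQ (Subgroup.mem_zpowers _), rfl⟩
  · let _ : MulAction S (Fin n → F) :=
      { smul := fun s v => ((s : GL (Fin n) F) : Matrix (Fin n) (Fin n) F) *ᵥ v
        one_smul := fun v => Matrix.one_mulVec v
        mul_smul := fun s t v => (Matrix.mulVec_mulVec v _ _).symm }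
    obtain ⟨v, hv, hne⟩ := hSp.exists_fixed_point_of_prime_dvd_card_of_fixed_point (Fin n → F) hpV
      (a := 0) fun s => Matrix.mulVec_zero _
    exact ⟨v, hne.symm, fun s hs => hv ⟨s, hs⟩⟩
  · let _ : MulAction S (Fin n → F) :=
      { smul := fun s v => v ᵥ* (((s : GL (Fin n) F)⁻¹ : GL (Fin n) F) : Matrix (Fin n) (Fin n) F)
        one_smul := fun v => by
          show v ᵥ* (((1 : GL (Fin n) F)⁻¹ : GL (Fin n) F) : Matrix (Fin n) (Fin n) F) = v
          rw [inv_one, Units.val_one, Matrix.vecMul_one]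
        mul_smul := fun s t v => by
          show v ᵥ* ((((s : GL (Fin n) F) * (t : GL (Fin n) F))⁻¹ : GL (Fin n) F) : Matrix (Fin n) (Fin n) F) =
            (v ᵥ* (((t : GL (Fin n) F)⁻¹ : GL (Fin n) F) : Matrix (Fin n) (Fin n) F)) ᵥ* (((s : GL (Fin n) F)⁻¹ : GL (Fin n) F) : Matrix (Fin n) (Fin n) F)
          rw [Matrix.vecMul_vecMul, _root_.mul_inv_rev, Units.val_mul] }
    obtain ⟨v, hv, hne⟩ := hSp.exists_fixed_point_of_prime_dvd_card_of_fixed_point (Fin n → F) hpV
      (a := 0) fun s => Matrix.zero_vecMul _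
    refine ⟨v, hne.symm, fun s hs => ?_⟩
    have h1 : v ᵥ* ((((⟨s, hs⟩ : S) : GL (Fin n) F)⁻¹ : GL (Fin n) F) : Matrix (Fin n) (Fin n) F) = v := hv ⟨s, hs⟩
    conv_lhs => rw [← h1]
    rw [Matrix.vecMul_vecMul, ← Units.val_mul, inv_mul_cancel, Units.val_one, Matrix.vecMul_one]

lemma inv_mulVec_cancel (g : GL (Fin n) F) (v : Fin n → F) :
    ((g⁻¹ : GL (Fin n) F) : Matrix (Fin n) (Fin n) F) *ᵥ ((g : Matrix (Fin n) (Fin n) F) *ᵥ v) = v := by
  rw [Matrix.mulVec_mulVec, ← Units.val_mul, inv_mul_cancel, Units.val_one, Matrix.one_mulVec]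

lemma conj_fixed_col [NeZero n] {g : GL (Fin n) F} {v : Fin n → F}
    (h : ((g * u₀ F n * g⁻¹ : GL (Fin n) F) : Matrix (Fin n) (Fin n) F) *ᵥ v = v) :
    ∃ c : F, v = c • ((g : Matrix (Fin n) (Fin n) F) *ᵥ Pi.single 0 1) := by
  have h1 := congrArg (fun w => ((g⁻¹ : GL (Fin n) F) : Matrix (Fin n) (Fin n) F) *ᵥ w) h
  simp only [Units.val_mul, ← Matrix.mulVec_mulVec, inv_mulVec_cancel] at h1
  set w := ((g⁻¹ : GL (Fin n) F) : Matrix (Fin n) (Fin n) F) *ᵥ v
  refine ⟨w 0, ?_⟩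
  have hw : w = w 0 • Pi.single 0 1 := by
    ext i
    rcases eq_or_ne i 0 with rfl | hi
    · simp
    · rw [col_fixed h1 i (fun e => hi (Fin.ext e))]; simp [hi]
  rw [← Matrix.mulVec_smul, ← hw, Matrix.mulVec_mulVec, ← Units.val_mul, mul_inv_cancel, Units.val_one, Matrix.one_mulVec]

lemma conj_fixed_row {g : GL (Fin n) F} {f : Fin n → F}
    (h : f ᵥ* ((g * u₀ F n * g⁻¹ : GL (Fin n) F) : Matrix (Fin n) (Fin n) F) = f) (i : Fin n) (hi : (i : ℕ) + 1 < n) :
    (f ᵥ* (g : Matrix (Fin n) (Fin n) F)) i = 0 := by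
  refine row_fixed ?_ i hi
  have h1 := congrArg (fun w => w ᵥ* (g : Matrix (Fin n) (Fin n) F)) h
  simp only [Units.val_mul, ← Matrix.vecMul_vecMul] at h1
  rw [Matrix.vecMul_vecMul _ ((g⁻¹ : GL (Fin n) F) : Matrix (Fin n) (Fin n) F), ← Units.val_mul, inv_mul_cancel,
    Units.val_one, Matrix.vecMul_one] at h1
  exact h1

/-- A nilpotent group through a conjugate of the regular unipotent fixes its point. -/
lemma lift_stab (p : ℕ) [Fact p.Prime] [CharP F p] [NeZero n] (M : Subgroup (GL (Fin n) F)) (hM : Group.IsNilpotent M)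
    {g a : GL (Fin n) F} (hu : g * u₀ F n * g⁻¹ ∈ M) (ha : a ∈ M) :
    a ∈ Cfsg.Geo.subspaceStabilizer (Submodule.span F {(g : Matrix (Fin n) (Fin n) F) *ᵥ Pi.single 0 1}) := by
  obtain ⟨S, hSn, hSmem, ⟨v, hv0, hv⟩, -⟩ := exists_pcore p M hM
  have huS := hSmem _ hu ⟨n, by rw [conj_pow, u₀_pow p, mul_one, mul_inv_cancel]⟩
  obtain ⟨c, hc⟩ := conj_fixed_col (hv _ huS)
  have hc0 : c ≠ 0 := fun e => hv0 (by rw [hc, e, zero_smul])
  set e := (g : Matrix (Fin n) (Fin n) F) *ᵥ Pi.single 0 1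
  have hev : e = c⁻¹ • v := by rw [hc, smul_smul, inv_mul_cancel₀ hc0, one_smul]
  have hfix : (a : Matrix (Fin n) (Fin n) F) *ᵥ v ∈ Submodule.span F {e} := by
    have h1 : ((g * u₀ F n * g⁻¹ : GL (Fin n) F) : Matrix (Fin n) (Fin n) F) *ᵥ ((a : Matrix (Fin n) (Fin n) F) *ᵥ v) =
        (a : Matrix (Fin n) (Fin n) F) *ᵥ v := by
      have h2 := hv _ (hSn a⁻¹ (M.inv_mem ha) _ huS)
      have h3 := congrArg (fun w => (a : Matrix (Fin n) (Fin n) F) *ᵥ w) h2
      simp only [Matrix.mulVec_mulVec, ← Units.val_mul] at h3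
      rw [show a * (a⁻¹ * (g * u₀ F n * g⁻¹) * a⁻¹⁻¹) = g * u₀ F n * g⁻¹ * a by group] at h3
      rw [Matrix.mulVec_mulVec, ← Units.val_mul, h3]
    obtain ⟨d, hd⟩ := conj_fixed_col h1
    rw [hd]; exact Submodule.smul_mem _ _ (Submodule.mem_span_singleton_self e)
  refine CfsgLib.Classical.mem_subspaceStabilizer_iff.2 fun x hx => ?_
  obtain ⟨d, rfl⟩ := Submodule.mem_span_singleton.1 hx
  rw [Matrix.mulVec_smul, hev, Matrix.mulVec_smul]
  exact Submodule.smul_mem _ _ (Submodule.smul_mem _ _ (by rw [← hev]; exact hfix))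

/-- Nilpotent groups meet at most one of two unipotent classes with different points. -/
lemma point_eq (p : ℕ) [Fact p.Prime] [CharP F p] [NeZero n] (M : Subgroup (GL (Fin n) F)) (hM : Group.IsNilpotent M)
    {g h : GL (Fin n) F} (hg : g * u₀ F n * g⁻¹ ∈ M) (hh : h * u₀ F n * h⁻¹ ∈ M) :
    Submodule.span F {(g : Matrix (Fin n) (Fin n) F) *ᵥ Pi.single 0 1} =
        Submodule.span F {(h : Matrix (Fin n) (Fin n) F) *ᵥ Pi.single 0 1} ∧
      ∃ f : Fin n → F, f ≠ 0 ∧ ∀ i : Fin n, (i : ℕ) + 1 < n →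
        (f ᵥ* (g : Matrix (Fin n) (Fin n) F)) i = 0 ∧ (f ᵥ* (h : Matrix (Fin n) (Fin n) F)) i = 0 := by
  obtain ⟨S, -, hSmem, ⟨v, hv0, hv⟩, ⟨f, hf0, hf⟩⟩ := exists_pcore p M hM
  have hgS := hSmem _ hg ⟨n, by rw [conj_pow, u₀_pow p, mul_one, mul_inv_cancel]⟩
  have hhS := hSmem _ hh ⟨n, by rw [conj_pow, u₀_pow p, mul_one, mul_inv_cancel]⟩
  obtain ⟨c, hc⟩ := conj_fixed_col (hv _ hgS)
  obtain ⟨d, hd⟩ := conj_fixed_col (hv _ hhS)
  have hc0 : IsUnit c := isUnit_iff_ne_zero.2 fun e => hv0 (by rw [hc, e, zero_smul])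
  have hd0 : IsUnit d := isUnit_iff_ne_zero.2 fun e => hv0 (by rw [hd, e, zero_smul])
  refine ⟨?_, f, hf0, fun i hi => ⟨conj_fixed_row (hf _ hgS) i hi, conj_fixed_row (hf _ hhS) i hi⟩⟩
  rw [← Submodule.span_singleton_smul_eq hc0, ← hc, hd, Submodule.span_singleton_smul_eq hd0]

/-- The projective image of the stabiliser of a point, inside `G`. -/
noncomputable def pointStab (G : Subgroup PG) (v : Fin n → F) : Subgroup G :=
  ((Cfsg.Geo.subspaceStabilizer (Submodule.span F {v})).map mkp).subgroupOf G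

lemma pointStab_ne_top [NeZero n] (hn : 2 ≤ n) (G : Subgroup PG)
    (hG : (Cfsg.Geo.specialLinear (Fin n) F).map mkp ≤ G) {v : Fin n → F} (hv : v ≠ 0) :
    pointStab G v ≠ ⊤ := by
  intro htop
  have h1 : Submodule.span F {v} ≠ ⊤ := fun e => by
    have := finrank_span_singleton (K := F) hv
    rw [e, finrank_top, Module.finrank_fin_fun] at this
    omega
  obtain ⟨g, hg, hgW⟩ := CfsgLib.Classical.exists_sl_not_mem_stab
    (show Submodule.span F {v} ≠ ⊥ by simpa using hv) h1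
  have hmem : (⟨mkp g, hG ⟨g, hg, rfl⟩⟩ : G) ∈ pointStab G v := htop ▸ Subgroup.mem_top _
  obtain ⟨s, hs, hsg⟩ := Subgroup.mem_subgroupOf.1 hmem
  have hz : s⁻¹ * g ∈ Subgroup.center (GL (Fin n) F) := QuotientGroup.eq.1 hsg
  obtain ⟨c, hc⟩ := Matrix.GeneralLinearGroup.mem_center_iff_val_eq_scalar.1 hz
  refine hgW ?_
  rw [show g = s * (s⁻¹ * g) by group]
  refine Subgroup.mul_mem _ hs (CfsgLib.Classical.mem_subspaceStabilizer_iff.2 fun x hx => ?_)
  rw [← hc, Matrix.scalar_apply, ← Matrix.smul_one_eq_diagonal, Matrix.smul_mulVec, Matrix.one_mulVec]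
  exact Submodule.smul_mem _ c hx

lemma exists_sl_mulVec [NeZero n] (L : Fin n → F) (hL : L ∉ Submodule.span F {(Pi.single 0 1 : Fin n → F)}) :
    ∃ g ∈ Cfsg.Geo.specialLinear (Fin n) F, ((g : GL (Fin n) F) : Matrix (Fin n) (Fin n) F) *ᵥ Pi.single 0 1 = L := by
  set e := (Pi.single 0 1 : Fin n → F)
  have he : e ∉ Submodule.span F {L - e} := by
    intro h
    obtain ⟨a, ha⟩ := Submodule.mem_span_singleton.1 h
    rcases eq_or_ne a 0 with rfl | ha0
    · simp [e] at ha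
      exact absurd (congrFun ha 0) (by simp)
    · refine hL (Submodule.mem_span_singleton.2 ⟨a⁻¹ * (1 + a), ?_⟩)
      rw [smul_sub] at ha
      rw [mul_smul, add_smul, one_smul]
      nth_rewrite 1 [← ha]
      rw [sub_add_cancel, smul_smul, inv_mul_cancel₀ ha0, one_smul]
  obtain ⟨f, hf1, hf0⟩ := CfsgLib.Classical.exists_dual_vec he
  refine ⟨_, CfsgLib.Classical.trGL_mem_sl (L - e) f (hf0 _ (Submodule.mem_span_singleton_self _)), ?_⟩
  rw [CfsgLib.Classical.trGL_mulVec, hf1, one_smul, add_sub_cancel]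

/-- The points of the projective space, as subspaces. -/
abbrev Points (F : Type*) [Field F] (n : ℕ) : Type _ :=
  ↥(Set.range fun v : {v : Fin n → F // v ≠ 0} => Submodule.span F {(v : Fin n → F)})

/-- For `n ≥ 3` no group between `PSL` and `PGL` has a nilpotent minimal cover. -/
theorem no_cover_of_three_le (hn : 3 ≤ n) (G : Subgroup PG) (hG : (Cfsg.Geo.specialLinear (Fin n) F).map mkp ≤ G) :
    ¬ ∃ 𝓐 : Finset (Subgroup G), ((∀ A ∈ 𝓐, A ≠ ⊤) ∧ (∀ g : G, ∃ A ∈ 𝓐, g ∈ A)) ∧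
      (∀ 𝓑 : Finset (Subgroup G), (∀ A ∈ 𝓑, A ≠ ⊤) ∧ (∀ g : G, ∃ A ∈ 𝓑, g ∈ A) → 𝓐.card ≤ 𝓑.card) ∧
      (∀ A ∈ 𝓐, Group.IsNilpotent ↥A) := by
  classical
  have : NeZero n := ⟨by omega⟩
  obtain ⟨p, hchar⟩ := CharP.exists F
  have := Fact.mk (CharP.char_is_prime F p)
  set e0 := (Pi.single 0 1 : Fin n → F) with he0
  -- the conjugating element of a point
  have hsel : ∀ L : Points F n, ∃ g ∈ Cfsg.Geo.specialLinear (Fin n) F,
      Submodule.span F {((g : GL (Fin n) F) : Matrix (Fin n) (Fin n) F) *ᵥ e0} = L.1 ∧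
        (L.1 = Submodule.span F {e0} → g = 1) := by
    intro L
    by_cases hL0 : L.1 = Submodule.span F {e0}
    · exact ⟨1, one_mem _, by simp [hL0], fun _ => rfl⟩
    · obtain ⟨⟨v, hv⟩, hvL : Submodule.span F {v} = L.1⟩ := L.2
      obtain ⟨g, hg, hgv⟩ := exists_sl_mulVec v fun h => hL0 (by
        rw [← hvL]
        obtain ⟨a, rfl⟩ := Submodule.mem_span_singleton.1 h
        exact Submodule.span_singleton_smul_eq (isUnit_iff_ne_zero.2 fun ha => hv (by rw [ha, zero_smul])) _)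
      exact ⟨g, hg, by rw [hgv]; exact hvL, fun h => absurd h hL0⟩
  choose gL hgL hgLs hgL1 using hsel
  -- the exceptional conjugate
  set last : Fin n := ⟨n - 1, by omega⟩ with hlast
  set one' : Fin n := ⟨1, by omega⟩ with hone
  have hperp : (Pi.single one' 1 : Fin n → F) ⬝ᵥ Pi.single last 1 = 0 := by
    rw [single_one_dotProduct, Pi.single_eq_of_ne (by simp [hlast, hone, Fin.ext_iff]; omega)]
  set k := CfsgLib.Classical.trGL (Pi.single last 1 : Fin n → F) (Pi.single one' 1) hperp with hk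
  have hke : (k : Matrix (Fin n) (Fin n) F) *ᵥ e0 = e0 := by
    rw [hk, CfsgLib.Classical.trGL_mulVec, single_one_dotProduct, he0,
      Pi.single_eq_of_ne (by simp [hone, Fin.ext_iff]), zero_smul, add_zero]
  let conjElt : Option (Points F n) → GL (Fin n) F := fun o => o.elim k gL
  have hconj : ∀ o, conjElt o ∈ Cfsg.Geo.specialLinear (Fin n) F := fun o => by
    cases o
    · exact CfsgLib.Classical.trGL_mem_sl _ _ hperp
    · exact hgL _
  let e : Option (Points F n) → G := fun o => ⟨mkp (conjElt o * u₀ F n * (conjElt o)⁻¹),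
    hG ⟨_, mul_mem (mul_mem (hconj o) u₀_mem_sl) (inv_mem (hconj o)), rfl⟩⟩
  have hmemlift : ∀ (A : Subgroup G) (o), e o ∈ A → conjElt o * u₀ F n * (conjElt o)⁻¹ ∈ (A.map G.subtype).comap mkp :=
    fun A o h => ⟨e o, h, rfl⟩
  let _ : Fintype (Points F n) := Fintype.ofFinite _
  let 𝓕 : Finset (Subgroup G) := Finset.univ.image fun L : Points F n =>
    pointStab G ((gL L : Matrix (Fin n) (Fin n) F) *ᵥ e0)
  have he00 : e0 ≠ 0 := fun h => one_ne_zero (α := F) (by simpa [he0] using congrFun h 0)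
  have hne : ∀ g : GL (Fin n) F, (g : Matrix (Fin n) (Fin n) F) *ᵥ e0 ≠ 0 := fun g h => he00 (by
    have := congrArg (fun w => ((g⁻¹ : GL (Fin n) F) : Matrix (Fin n) (Fin n) F) *ᵥ w) h
    simpa [inv_mulVec_cancel] using this)
  refine CfsgLib.Coprime.NilpotentCover.no_cover e 𝓕 (fun B hB => ?_) ?_ (fun A hA i j hi hj => ?_)
    (fun A hA i hi a ha => ?_)
  · obtain ⟨L, -, rfl⟩ := Finset.mem_image.1 hB
    exact pointStab_ne_top (by omega) G hG (hne _)
  · refine lt_of_le_of_lt Finset.card_image_le ?_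
    rw [Finite.card_option, Nat.card_eq_fintype_card, Finset.card_univ]
    exact Nat.lt_succ_self _
  · have hM := isNilpotent_lift G A hA
    have hnone : ∀ L : Points F n, e (some L) ∈ A → e none ∈ A → False := by
      intro L h1 h2
      obtain ⟨heq, f, hf0, hf⟩ := point_eq p _ hM (hmemlift A (some L) h1) (hmemlift A none h2)
      clear h1 h2
      have hL : L.1 = Submodule.span F {e0} := by
        rw [← hgLs L]; exact heq.trans (by show Submodule.span F {(k : Matrix (Fin n) (Fin n) F) *ᵥ e0} = _; rw [hke])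
      have hg1 : gL L = 1 := hgL1 L hL
      have hlastv : ∀ i : Fin n, (i : ℕ) + 1 < n → f i = 0 := fun i hi => by
        have := (hf i hi).1
        rwa [show conjElt (some L) = 1 from hg1, Units.val_one, Matrix.vecMul_one] at this
      have h1 : (f ᵥ* (k : Matrix (Fin n) (Fin n) F)) one' = 0 := (hf one' (by simp [hone]; omega)).2
      rw [Matrix.vecMul, dotProduct, Finset.sum_eq_single last] at h1
      · rw [show (k : Matrix (Fin n) (Fin n) F) last one' = 1 by
          show (1 + Matrix.vecMulVec (Pi.single last 1 : Fin n → F) (Pi.single one' 1)) last one' = 1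
          rw [Matrix.add_apply, Matrix.one_apply_ne (by simp [hlast, hone, Fin.ext_iff]; omega), Matrix.vecMulVec_apply]
          simp, mul_one] at h1
        refine hf0 (funext fun i => ?_)
        by_cases hi : (i : ℕ) + 1 < n
        · exact hlastv i hi
        · rw [show i = last from Fin.ext (show (i : ℕ) = n - 1 by omega), h1]; rfl
      · intro b _ hb
        rw [hlastv b (by rcases Nat.lt_or_ge ((b : ℕ) + 1) n with h | h; exact h; exact absurd (Fin.ext (show (b : ℕ) = n - 1 by omega)) hb), zero_mul]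
      · simp
    rcases i with _ | L <;> rcases j with _ | L'
    · rfl
    · exact (hnone L' hj hi).elim
    · exact (hnone L hi hj).elim
    · refine congrArg some (Subtype.ext ?_)
      rw [← hgLs L, ← hgLs L']
      exact (point_eq p _ hM (hmemlift A (some L) hi) (hmemlift A (some L') hj)).1
  · have hM := isNilpotent_lift G A hA
    obtain ⟨a', ha'⟩ := QuotientGroup.mk'_surjective _ ((a : G) : PG)
    have hst := lift_stab p _ hM (a := a') (hmemlift A i hi) ⟨a, ha, ha'.symm⟩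
    obtain ⟨L, hL⟩ : ∃ L : Points F n, L.1 = Submodule.span F {(conjElt i : Matrix (Fin n) (Fin n) F) *ᵥ e0} :=
      ⟨⟨_, ⟨_, hne (conjElt i)⟩, rfl⟩, rfl⟩
    refine ⟨_, Finset.mem_image_of_mem _ (Finset.mem_univ L), Subgroup.mem_subgroupOf.2 ⟨a', ?_, ha'⟩⟩
    show a' ∈ Cfsg.Geo.subspaceStabilizer (Submodule.span F {(gL L : Matrix (Fin n) (Fin n) F) *ᵥ e0})
    rw [hgLs L, hL]
    exact hst

end CfsgLib.Coprime.NilpotentCoverGL
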