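import Cfsg.Agent.Lib.Coprime.NilpotentCoverGL
import Cfsg.Agent.Lib.OddOrder.Basic
import Mathlib.FieldTheory.Finite.Basic

/-!
Groups between `PSL` and `PGL` in dimension two have no nilpotent minimal cover.
-/

set_option autoImplicit false
set_option linter.unusedSectionVars false

open Matrix CfsgLib.Coprime.NilpotentCoverGL

namespace CfsgLib.Coprime.NilpotentCoverGL2

variable {F : Type*} [Field F]

local notation "M2" => Matrix (Fin 2) (Fin 2) F
local notation "GL2" => GL (Fin 2) F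
local notation "PG" => GL (Fin 2) F ⧸ Subgroup.center (GL (Fin 2) F)
local notation "mkp" => QuotientGroup.mk' (Subgroup.center (GL (Fin 2) F))

/-- A diagonal matrix. -/
noncomputable def dgl (x y : F) (hx : x ≠ 0) (hy : y ≠ 0) : GL2 :=
  Matrix.GeneralLinearGroup.mkOfDetNeZero !![x, 0; 0, y]
    (by rw [Matrix.det_fin_two_of, mul_zero, sub_zero]; exact mul_ne_zero hx hy)

lemma dgl_val (x y : F) (hx : x ≠ 0) (hy : y ≠ 0) : (dgl x y hx hy : M2) = !![x, 0; 0, y] := rfl

lemma smul_of_mk_eq {a b : GL2} (h : mkp a = mkp b) : ∃ c : F, (a : M2) = c • (b : M2) := by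
  have hz : b⁻¹ * a ∈ Subgroup.center GL2 := QuotientGroup.eq.1 h.symm
  obtain ⟨c, hc⟩ := Matrix.GeneralLinearGroup.mem_center_iff_val_mem_range_scalar.1 hz
  refine ⟨c, ?_⟩
  rw [show a = b * (b⁻¹ * a) by group, Units.val_mul, ← hc, Matrix.scalar_apply,
    ← Matrix.smul_one_eq_diagonal, Matrix.mul_smul, mul_one]

lemma mk_eq_of_smul {a b : GL2} {c : F} (h : (a : M2) = c • (b : M2)) : mkp a = mkp b := by
  refine (QuotientGroup.eq.2 (Matrix.GeneralLinearGroup.mem_center_iff_val_mem_range_scalar.2 ⟨c, ?_⟩)).symm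
  rw [Units.val_mul, h, Matrix.mul_smul, ← Units.val_mul, inv_mul_cancel, Units.val_one,
    Matrix.smul_one_eq_diagonal, Matrix.scalar_apply]

/-- A projective commutation in a frame. -/
lemma frame_commute {g a h : GL2} (hc : Commute (mkp a) (mkp (g * h * g⁻¹))) :
    ∃ c : F, ((g⁻¹ * a * g : GL2) : M2) * (h : M2) = c • ((h : M2) * ((g⁻¹ * a * g : GL2) : M2)) := by
  have h1 : mkp (g⁻¹ * a * g * h) = mkp (h * (g⁻¹ * a * g)) := by
    have h2 := congrArg (fun t => mkp g⁻¹ * t * mkp g) hc.eq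
    simp only [← map_mul] at h2
    rw [show g⁻¹ * a * g * h = g⁻¹ * (a * (g * h * g⁻¹)) * g by group,
      show h * (g⁻¹ * a * g) = g⁻¹ * (g * h * g⁻¹ * a) * g by group]
    exact h2
  obtain ⟨c, hc⟩ := smul_of_mk_eq h1
  exact ⟨c, by rw [← Units.val_mul, ← Units.val_mul, hc]⟩

/-- What commutes projectively with a nonscalar diagonal matrix is monomial. -/
lemma mono (m : GL2) {x y c : F} (hx : x ≠ 0) (hy : y ≠ 0) (hxy : x ≠ y)
    (h : (m : M2) * !![x, 0; 0, y] = c • (!![x, 0; 0, y] * (m : M2))) :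
    ((m : M2) 0 1 = 0 ∧ (m : M2) 1 0 = 0) ∨ ((m : M2) 0 0 = 0 ∧ (m : M2) 1 1 = 0 ∧ x ^ 2 = y ^ 2) := by
  have hd : (m : M2) 0 0 * (m : M2) 1 1 - (m : M2) 0 1 * (m : M2) 1 0 ≠ 0 := by
    rw [← Matrix.det_fin_two]; exact (m.isUnit.map Matrix.detMonoidHom).ne_zero
  have e00 := congrFun (congrFun h 0) 0
  have e01 := congrFun (congrFun h 0) 1
  have e10 := congrFun (congrFun h 1) 0
  have e11 := congrFun (congrFun h 1) 1
  simp [Matrix.mul_apply, Matrix.vecMul, dotProduct, Fin.sum_univ_two] at e00 e01 e10 e11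
  by_cases hpt : (m : M2) 0 0 = 0 ∧ (m : M2) 1 1 = 0
  · obtain ⟨hp, ht⟩ := hpt
    rw [hp, ht] at hd
    simp at hd
    refine Or.inr ⟨hp, ht, ?_⟩
    have h1 : y = c * x := mul_left_cancel₀ hd.1 (by linear_combination e01)
    have h2 : x = c * y := mul_left_cancel₀ hd.2 (by linear_combination e10)
    linear_combination x * h2 - y * h1
  · have hc : c = 1 := by
      by_contra hc
      have hc' : 1 - c ≠ 0 := fun e => hc (sub_eq_zero.1 e).symm
      refine hpt ⟨?_, ?_⟩
      · exact (mul_eq_zero.1 (show (m : M2) 0 0 * (x * (1 - c)) = 0 by linear_combination e00)).resolve_right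
          (mul_ne_zero hx hc')
      · exact (mul_eq_zero.1 (show (m : M2) 1 1 * (y * (1 - c)) = 0 by linear_combination e11)).resolve_right
          (mul_ne_zero hy hc')
    subst hc
    exact Or.inl ⟨(mul_eq_zero.1 (show (m : M2) 0 1 * (y - x) = 0 by linear_combination e01)).resolve_right
        (sub_ne_zero.2 hxy.symm),
      (mul_eq_zero.1 (show (m : M2) 1 0 * (x - y) = 0 by linear_combination e10)).resolve_right
        (sub_ne_zero.2 hxy)⟩

/-- The diagonal entries of an invertible diagonal matrix. -/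
lemma diag_ne_zero (m : GL2) (h01 : (m : M2) 0 1 = 0) : (m : M2) 0 0 ≠ 0 ∧ (m : M2) 1 1 ≠ 0 := by
  have hd : (m : M2).det ≠ 0 := (m.isUnit.map Matrix.detMonoidHom).ne_zero
  rw [Matrix.det_fin_two, h01] at hd
  simpa using hd

lemma mk_eq_one_of_scalar (f z : GL2) (h01 : ((f⁻¹ * z * f : GL2) : M2) 0 1 = 0)
    (h10 : ((f⁻¹ * z * f : GL2) : M2) 1 0 = 0)
    (h : ((f⁻¹ * z * f : GL2) : M2) 0 0 = ((f⁻¹ * z * f : GL2) : M2) 1 1) : mkp z = mkp 1 := by
  refine mk_eq_of_smul (c := ((f⁻¹ * z * f : GL2) : M2) 0 0) ?_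
  have hD : ((f⁻¹ * z * f : GL2) : M2) = ((f⁻¹ * z * f : GL2) : M2) 0 0 • (1 : M2) := by
    ext i j; fin_cases i <;> fin_cases j <;> simp [h01, h10, h]
  generalize hd : f⁻¹ * z * f = D at hD ⊢
  rw [show z = f * D * f⁻¹ by rw [← hd]; group, Units.val_mul, Units.val_mul]
  conv_lhs => rw [hD]
  rw [Matrix.mul_smul, mul_one, Matrix.smul_mul, ← Units.val_mul, mul_inv_cancel, Units.val_one]

lemma diag_of_eigen (g m : GL2) {p r : F} (h : (m : M2) * (g : M2) = (g : M2) * !![p, 0; 0, r]) :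
    ((g⁻¹ * m * g : GL2) : M2) = !![p, 0; 0, r] := by
  rw [Units.val_mul, Units.val_mul, mul_assoc, h, ← mul_assoc, ← Units.val_mul, inv_mul_cancel, Units.val_one, one_mul]

lemma eigen_stab (a : GL2) {v : Fin 2 → F} {c : F} (h : (a : M2) *ᵥ v = c • v) :
    a ∈ Cfsg.Geo.subspaceStabilizer (Submodule.span F {v}) := by
  refine CfsgLib.Classical.mem_subspaceStabilizer_iff.2 fun x hx => ?_
  obtain ⟨d, rfl⟩ := Submodule.mem_span_singleton.1 hx
  rw [Matrix.mulVec_smul, h]
  exact Submodule.smul_mem _ _ (Submodule.smul_mem _ _ (Submodule.mem_span_singleton_self v))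

/-- The trace zero elements of `G` without fixed point. -/
def wPairs (G : Subgroup PG) : Set (F × F) :=
  {w | ¬ IsSquare (w.1 ^ 2 + w.2) ∧ ∃ e : GL2, (e : M2) = !![w.1, w.2; 1, -w.1] ∧ mkp e ∈ G}

variable [Fintype F]

theorem no_cover (hq : 4 ≤ Fintype.card F) (G : Subgroup PG)
    (hG : (Cfsg.Geo.specialLinear (Fin 2) F).map mkp ≤ G) :
    ¬ ∃ 𝓐 : Finset (Subgroup G), ((∀ A ∈ 𝓐, A ≠ ⊤) ∧ (∀ g : G, ∃ A ∈ 𝓐, g ∈ A)) ∧
      (∀ 𝓑 : Finset (Subgroup G), (∀ A ∈ 𝓑, A ≠ ⊤) ∧ (∀ g : G, ∃ A ∈ 𝓑, g ∈ A) → 𝓐.card ≤ 𝓑.card) ∧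
      (∀ A ∈ 𝓐, Group.IsNilpotent ↥A) := by
  classical
  obtain ⟨p, hchar⟩ := CharP.exists F
  have := Fact.mk (CharP.char_is_prime F p)
  have hroot : ∀ k : ℕ, 0 < k → k < Fintype.card F - 1 → ∃ x : F, x ≠ 0 ∧ x ^ k ≠ 1 := by
    intro k hk hlt
    obtain ⟨g, hg⟩ := IsCyclic.exists_generator (α := Fˣ)
    refine ⟨g, g.ne_zero, fun h => ?_⟩
    have h1 : orderOf g = Fintype.card F - 1 := by
      rw [orderOf_eq_card_of_forall_mem_zpowers hg, Nat.card_eq_fintype_card, Fintype.card_units]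
    have h2 := Nat.le_of_dvd hk (orderOf_dvd_of_pow_eq_one (Units.ext (show ((g ^ k : Fˣ) : F) = 1 by rw [Units.val_pow_eq_pow_val, h])))
    omega
  -- a diagonal element, with its two cases
  obtain ⟨x₀, y₀, hx₀, hy₀, hxy, hd₀, hdich⟩ : ∃ (x y : F) (hx : x ≠ 0) (hy : y ≠ 0), x ≠ y ∧
      mkp (dgl x y hx hy) ∈ G ∧ (x ^ 2 ≠ y ^ 2 ∨ IsEmpty (wPairs G)) := by
    have hsl : ∀ x : F, ∀ hx : x ≠ 0, mkp (dgl x x⁻¹ hx (inv_ne_zero hx)) ∈ G := fun x hx =>
      hG ⟨_, CfsgLib.Classical.mem_specialLinear_iff.2 (by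
        rw [dgl_val, Matrix.det_fin_two_of, mul_inv_cancel₀ hx, mul_zero, sub_zero]), rfl⟩
    by_cases hW : IsEmpty (wPairs G)
    · obtain ⟨x, hx, hx2⟩ := hroot 2 (by omega) (by omega)
      refine ⟨x, x⁻¹, hx, inv_ne_zero hx, fun h => hx2 ?_, hsl x hx, Or.inr hW⟩
      rw [sq]; nth_rewrite 2 [h]; exact mul_inv_cancel₀ hx
    by_cases h4 : ∃ x : F, x ≠ 0 ∧ x ^ 4 ≠ 1
    · obtain ⟨x, hx, hx4⟩ := h4
      have h2 : x ^ 2 ≠ x⁻¹ ^ 2 := fun h => hx4 (by
        rw [show x ^ 4 = x ^ 2 * x ^ 2 by ring]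
        nth_rewrite 2 [h]
        rw [← mul_pow, mul_inv_cancel₀ hx, one_pow])
      exact ⟨x, x⁻¹, hx, inv_ne_zero hx, fun h => h2 (by rw [← h]), hsl x hx, Or.inl h2⟩
    push Not at h4
    obtain ⟨⟨⟨α, β⟩, hns, e, he, heG⟩⟩ := not_isEmpty_iff.1 hW
    have hdet : (e : M2).det = -(α ^ 2 + β) := by rw [he, Matrix.det_fin_two_of]; ring
    have hD : α ^ 2 + β ≠ 0 := fun h => hns (h.symm ▸ ⟨0, by simp⟩)
    have hD2 : (α ^ 2 + β) ^ 2 ≠ 1 := fun h => by
      rcases mul_eq_zero.1 (show ((α ^ 2 + β) - 1) * ((α ^ 2 + β) + 1) = 0 by linear_combination h) with h1 | h1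
      · exact hns ((sub_eq_zero.1 h1).symm ▸ ⟨1, by simp⟩)
      · obtain ⟨z, hz, hz2⟩ := hroot 2 (by omega) (by omega)
        refine hns ((eq_neg_of_add_eq_zero_left h1).symm ▸ ⟨z, ?_⟩)
        rcases mul_eq_zero.1 (show (z ^ 2 - 1) * (z ^ 2 + 1) = 0 by linear_combination h4 z hz) with h | h
        · exact absurd (sub_eq_zero.1 h) hz2
        · linear_combination -h
    have hδ : -(α ^ 2 + β) ≠ 0 := neg_ne_zero.2 hD
    have h22 : (-(α ^ 2 + β)) ^ 2 ≠ (1 : F) ^ 2 := by rw [neg_sq, one_pow]; exact hD2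
    refine ⟨_, 1, hδ, one_ne_zero, fun h => h22 (by rw [h]), ?_, Or.inl h22⟩
    have h1 : mkp (dgl _ 1 hδ one_ne_zero * e⁻¹) ∈ G := hG ⟨_, CfsgLib.Classical.mem_specialLinear_iff.2 (by
      rw [Units.val_mul, Matrix.det_mul, dgl_val, Matrix.det_fin_two_of, mul_one, mul_zero, sub_zero, ← hdet,
        ← Matrix.det_mul, ← Units.val_mul, mul_inv_cancel, Units.val_one, Matrix.det_one]), rfl⟩
    have := mul_mem h1 heG
    rwa [map_mul, map_inv, inv_mul_cancel_right] at this
  set d₀ := dgl x₀ y₀ hx₀ hy₀ with hd₀def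
  have hd₀val : (d₀ : M2) = !![x₀, 0; 0, y₀] := rfl
  have hconjd : ∀ g : GL2, mkp (g * d₀ * g⁻¹) ∈ G := fun g => by
    rw [show g * d₀ * g⁻¹ = g * d₀ * g⁻¹ * d₀⁻¹ * d₀ by group, map_mul]
    refine mul_mem (hG ⟨_, CfsgLib.Classical.mem_specialLinear_iff.2 ?_, rfl⟩) hd₀
    rw [Units.val_mul, Units.val_mul, Units.val_mul, Matrix.det_mul, Matrix.det_mul, Matrix.det_mul]
    have h1 : (g : M2).det * ((g⁻¹ : GL2) : M2).det = 1 := by
      rw [← Matrix.det_mul, ← Units.val_mul, mul_inv_cancel, Units.val_one, Matrix.det_one]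
    have h2 : (d₀ : M2).det * ((d₀⁻¹ : GL2) : M2).det = 1 := by
      rw [← Matrix.det_mul, ← Units.val_mul, mul_inv_cancel, Units.val_one, Matrix.det_one]
    linear_combination (d₀ : M2).det * ((d₀⁻¹ : GL2) : M2).det * h1 + h2
  -- the points
  set e0 := (Pi.single 0 1 : Fin 2 → F) with he0
  have he00 : e0 ≠ 0 := fun h => one_ne_zero (α := F) (by simpa [he0] using congrFun h 0)
  have hne : ∀ g : GL2, (g : M2) *ᵥ e0 ≠ 0 := fun g h => he00 (by
    have := congrArg (fun w => ((g⁻¹ : GL2) : M2) *ᵥ w) h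
    rwa [inv_mulVec_cancel, Matrix.mulVec_zero] at this)
  have hsel : ∀ L : Points F 2, ∃ g ∈ Cfsg.Geo.specialLinear (Fin 2) F,
      Submodule.span F {((g : GL2) : M2) *ᵥ e0} = L.1 := by
    intro L
    by_cases hL0 : L.1 = Submodule.span F {e0}
    · exact ⟨1, one_mem _, by simp [hL0]⟩
    · obtain ⟨⟨v, hv⟩, hvL : Submodule.span F {v} = L.1⟩ := L.2
      obtain ⟨g, hg, hgv⟩ := exists_sl_mulVec v fun h => hL0 (by
        rw [← hvL]
        obtain ⟨a, rfl⟩ := Submodule.mem_span_singleton.1 h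
        exact Submodule.span_singleton_smul_eq (isUnit_iff_ne_zero.2 fun ha => hv (by rw [ha, zero_smul])) _)
      exact ⟨g, hg, by rw [hgv]; exact hvL⟩
  choose gL hgL hgLs using hsel
  -- the frames
  obtain ⟨ν, hν⟩ : ∃ ν : F, ringChar F ≠ 2 → ¬ IsSquare ν := by
    by_cases h : ringChar F = 2
    · exact ⟨0, fun h' => absurd h h'⟩
    · obtain ⟨ν, hν⟩ := FiniteField.exists_nonsquare h
      exact ⟨ν, fun _ => hν⟩
  have hframe : ∀ w : wPairs G, ∃ (f : GL2) (s : F), (f : M2) = !![w.1.1 + s, w.1.1 - s; 1, 1] ∧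
      s ^ 2 = ν * (w.1.1 ^ 2 + w.1.2) ∧ ν ≠ 0 := by
    rintro ⟨⟨α, β⟩, hns, -⟩
    have h2 : ringChar F ≠ 2 := fun h => hns (FiniteField.isSquare_of_char_two h _)
    have hν0 : ν ≠ 0 := fun h => hν h2 (h ▸ ⟨0, by simp⟩)
    have hD : α ^ 2 + β ≠ 0 := fun h => hns (h.symm ▸ ⟨0, by simp⟩)
    have hmul : IsSquare (ν * (α ^ 2 + β)) := by
      rw [FiniteField.isSquare_iff h2 (mul_ne_zero hν0 hD), mul_pow]
      rcases FiniteField.pow_dichotomy h2 hν0 with h | h
      · exact absurd ((FiniteField.isSquare_iff h2 hν0).2 h) (hν h2)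
      rcases FiniteField.pow_dichotomy h2 hD with h' | h'
      · exact absurd ((FiniteField.isSquare_iff h2 hD).2 h') hns
      rw [h, h']; ring
    obtain ⟨s, hs⟩ := hmul
    have hs0 : s ≠ 0 := fun h => mul_ne_zero hν0 hD (by rw [hs, h, mul_zero])
    refine ⟨Matrix.GeneralLinearGroup.mkOfDetNeZero !![α + s, α - s; 1, 1] ?_, s, rfl, by rw [sq, ← hs], hν0⟩
    rw [Matrix.det_fin_two_of, show (α + s) * 1 - (α - s) * 1 = 2 * s by ring]
    exact mul_ne_zero (Ring.two_ne_zero h2) hs0
  choose fw sw hfw hsw hν0 using hframe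
  let frm : Option (wPairs G) → GL2 := fun o => o.elim 1 fw
  let et : Option (wPairs G) → G := fun o => ⟨mkp (frm o * d₀ * (frm o)⁻¹), hconjd _⟩
  let eu : Points F 2 → G := fun L => ⟨mkp (gL L * u₀ F 2 * (gL L)⁻¹),
    hG ⟨_, mul_mem (mul_mem (hgL L) u₀_mem_sl) (inv_mem (hgL L)), rfl⟩⟩
  let e : Points F 2 ⊕ Option (wPairs G) → G := Sum.elim eu et
  let elw : wPairs G → G := fun w => ⟨mkp (Classical.choose w.2.2), (Classical.choose_spec w.2.2).2⟩
  let _ : Fintype (Points F 2) := Fintype.ofFinite _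
  let _ : Fintype (wPairs G) := Fintype.ofFinite _
  let bor : Points F 2 → Subgroup G := fun L => pointStab G ((gL L : M2) *ᵥ e0)
  let 𝓕 : Finset (Subgroup G) := Finset.univ.image bor ∪ Finset.univ.image fun w => Subgroup.zpowers (elw w)
  have heig : ∀ (a : G) (a' : GL2), mkp a' = (a : PG) → ∀ (v : Fin 2 → F) (c : F), v ≠ 0 →
      (a' : M2) *ᵥ v = c • v → ∃ B ∈ 𝓕, a ∈ B := by
    intro a a' ha v c hv h
    let L : Points F 2 := ⟨_, ⟨v, hv⟩, rfl⟩
    refine ⟨bor L, Finset.mem_union_left _ (Finset.mem_image_of_mem _ (Finset.mem_univ L)),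
      Subgroup.mem_subgroupOf.2 ⟨a', ?_, ha⟩⟩
    show a' ∈ Cfsg.Geo.subspaceStabilizer (Submodule.span F {(gL L : M2) *ᵥ e0})
    rw [hgLs L]
    exact eigen_stab a' h
  have htr : ∀ (a : G) (a' : GL2), mkp a' = (a : PG) → (a' : M2).trace = 0 → ∃ B ∈ 𝓕, a ∈ B := by
    intro a a' ha ht
    rw [Matrix.trace_fin_two] at ht
    by_cases hc : (a' : M2) 1 0 = 0
    · refine heig a a' ha e0 ((a' : M2) 0 0) he00 ?_
      ext i; fin_cases i <;> simp [he0, Matrix.mulVec, dotProduct, hc]
    set c := (a' : M2) 1 0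
    set α := c⁻¹ * (a' : M2) 0 0
    set β := c⁻¹ * (a' : M2) 0 1
    have hform : (a' : M2) = c • !![α, β; 1, -α] := by
      ext i j
      fin_cases i <;> fin_cases j <;> simp [α, β, c, hc]
      linear_combination ht
    by_cases hsq : IsSquare (α ^ 2 + β)
    · obtain ⟨s, hs⟩ := hsq
      refine heig a a' ha ![α + s, 1] (c * s) (fun h => one_ne_zero (α := F) (by simpa using congrFun h 1)) ?_
      rw [hform]
      ext i; fin_cases i <;> simp [Matrix.mulVec, dotProduct, Fin.sum_univ_two]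
      · linear_combination c * hs
      · ring
    have hD : !![α, β; 1, -α].det ≠ 0 := by
      rw [Matrix.det_fin_two_of]
      exact fun h => hsq ⟨0, by linear_combination -h⟩
    have heq : mkp a' = mkp (Matrix.GeneralLinearGroup.mkOfDetNeZero _ hD) := mk_eq_of_smul hform
    let w : wPairs G := ⟨(α, β), hsq, Matrix.GeneralLinearGroup.mkOfDetNeZero _ hD, rfl, by rw [← heq, ha]; exact a.2⟩
    refine ⟨_, Finset.mem_union_right _ (Finset.mem_image_of_mem _ (Finset.mem_univ w)), ?_⟩
    rw [show a = elw w from Subtype.ext (by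
      rw [← ha, heq]
      exact congrArg mkp (Units.ext (Classical.choose_spec w.2.2).1.symm))]
    exact Subgroup.mem_zpowers _
  have hmonocov : ∀ (a : G) (a' g : GL2), mkp a' = (a : PG) →
      (((g⁻¹ * a' * g : GL2) : M2) 0 1 = 0 ∧ ((g⁻¹ * a' * g : GL2) : M2) 1 0 = 0 ∨
        ((g⁻¹ * a' * g : GL2) : M2) 0 0 = 0 ∧ ((g⁻¹ * a' * g : GL2) : M2) 1 1 = 0) → ∃ B ∈ 𝓕, a ∈ B := by
    intro a a' g ha h
    rcases h with ⟨-, h10⟩ | ⟨h00, h11⟩
    · refine heig a a' ha ((g : M2) *ᵥ e0) (((g⁻¹ * a' * g : GL2) : M2) 0 0) (hne g) ?_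
      have h1 : ((g⁻¹ * a' * g : GL2) : M2) *ᵥ e0 = (((g⁻¹ * a' * g : GL2) : M2) 0 0) • e0 := by
        ext i; fin_cases i
        · simp [he0]
        · simpa [he0] using h10
      rw [Matrix.mulVec_mulVec, ← Units.val_mul, show a' * g = g * (g⁻¹ * a' * g) by group, Units.val_mul,
        ← Matrix.mulVec_mulVec, h1, Matrix.mulVec_smul]
    · refine htr a a' ha ?_
      rw [← Matrix.trace_units_conj' g (a' : M2), ← Units.val_mul, ← Units.val_mul, Matrix.trace_fin_two, h00, h11, add_zero]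
  have hcomm : ∀ (A : Subgroup G) (o), et o ∈ A → ∀ z : A, z ∈ Subgroup.center A → ∀ z' : GL2, mkp z' = ((z : G) : PG) →
      ∃ c : F, (((frm o)⁻¹ * z' * frm o : GL2) : M2) * (d₀ : M2) = c • ((d₀ : M2) * (((frm o)⁻¹ * z' * frm o : GL2) : M2)) := by
    intro A o ho z hz z' hz'
    refine frame_commute ?_
    rw [hz']
    exact (congrArg (fun t : A => ((t : G) : PG)) (Subgroup.mem_center_iff.1 hz ⟨et o, ho⟩)).symm
  have hM : ∀ (A : Subgroup G), Group.IsNilpotent A → Group.IsNilpotent ↥((A.map G.subtype).comap mkp) :=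
    fun A hA => isNilpotent_lift G A hA
  -- an element of a frame and a unipotent one are never together
  have hsepUT : ∀ (A : Subgroup G), Group.IsNilpotent A → ∀ L o, eu L ∈ A → et o ∈ A → False := by
    intro A hA L o hL ho
    have := hM A hA
    let hu : ↥((A.map G.subtype).comap mkp) := ⟨gL L * u₀ F 2 * (gL L)⁻¹, ⟨eu L, hL, rfl⟩⟩
    let hh : ↥((A.map G.subtype).comap mkp) := ⟨frm o * d₀ * (frm o)⁻¹, ⟨et o, ho, rfl⟩⟩
    have hu1 : (gL L * u₀ F 2 * (gL L)⁻¹) ^ p ^ 2 = 1 := by rw [conj_pow, u₀_pow p, mul_one, mul_inv_cancel]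
    have hh1 : (frm o * d₀ * (frm o)⁻¹) ^ (Fintype.card F - 1) = 1 := by
      rw [conj_pow, show d₀ ^ (Fintype.card F - 1) = 1 from Units.ext ?_, mul_one, mul_inv_cancel]
      rw [Units.val_pow_eq_pow_val, hd₀val, Units.val_one, show !![x₀, 0; 0, y₀] = Matrix.diagonal ![x₀, y₀] by
        ext i j; fin_cases i <;> fin_cases j <;> rfl, Matrix.diagonal_pow, ← Matrix.diagonal_one]
      congr 1
      ext i; fin_cases i
      · exact FiniteField.pow_card_sub_one_eq_one _ hx₀
      · exact FiniteField.pow_card_sub_one_eq_one _ hy₀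
    have hcop : (p ^ 2).Coprime (Fintype.card F - 1) := by
      obtain ⟨m, hp, hm⟩ := FiniteField.card F p
      refine Nat.Coprime.pow_left 2 ((hp.coprime_iff_not_dvd).2 fun h => hp.ne_one (Nat.dvd_one.1 ?_))
      have h1 : p ∣ Fintype.card F := hm ▸ dvd_pow_self p m.ne_zero
      have := Nat.dvd_sub h1 h
      rwa [Nat.sub_sub_self (by omega)] at this
    have hc : Commute hu hh := CfsgLib.OddOrder.Basic.commute_of_coprime_orderOf (Nat.Coprime.of_dvd
      (orderOf_dvd_of_pow_eq_one (Subtype.ext hu1)) (orderOf_dvd_of_pow_eq_one (Subtype.ext hh1)) hcop)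
    set v := (frm o)⁻¹ * (gL L * u₀ F 2 * (gL L)⁻¹) * frm o with hv
    have hvd : (v : M2) * (d₀ : M2) = (1 : F) • ((d₀ : M2) * (v : M2)) := by
      rw [one_smul, ← Units.val_mul, ← Units.val_mul]
      have h1 : gL L * u₀ F 2 * (gL L)⁻¹ * (frm o * d₀ * (frm o)⁻¹) = frm o * d₀ * (frm o)⁻¹ * (gL L * u₀ F 2 * (gL L)⁻¹) :=
        congrArg Subtype.val hc.eq
      have h2 := congrArg (fun t => (frm o)⁻¹ * t * frm o) h1
      exact congrArg _ (by simpa [hv, mul_assoc] using h2)
    rw [hd₀val] at hvd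
    have hvp : v ^ p ^ 2 = 1 := by
      rw [show v = (frm o)⁻¹ * (gL L * u₀ F 2 * (gL L)⁻¹) * (frm o)⁻¹⁻¹ by rw [inv_inv], conj_pow, hu1, mul_one, mul_inv_cancel]
    rcases mono v hx₀ hy₀ hxy hvd with ⟨h01, h10⟩ | ⟨h00, h11, -⟩
    · have hdiag : (v : M2) = Matrix.diagonal ![(v : M2) 0 0, (v : M2) 1 1] := by
        ext i j; fin_cases i <;> fin_cases j <;> simp [h01, h10]
      have h1 : Matrix.diagonal ![(v : M2) 0 0, (v : M2) 1 1] ^ p ^ 2 = 1 := by
        rw [← hdiag, ← Units.val_pow_eq_pow_val, hvp, Units.val_one]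
      rw [Matrix.diagonal_pow, ← Matrix.diagonal_one] at h1
      have h2 := Matrix.diagonal_injective h1
      have hone : ∀ a : F, a ^ p ^ 2 = 1 → a = 1 := fun a ha =>
        iterateFrobenius_inj F p 2 (by rw [iterateFrobenius_def, iterateFrobenius_def, ha, one_pow])
      have ha : (v : M2) 0 0 = 1 := hone _ (congrFun h2 0)
      have hb : (v : M2) 1 1 = 1 := hone _ (congrFun h2 1)
      have hv1 : v = 1 := Units.ext (by
        rw [hdiag, ha, hb, Units.val_one]; ext i j; fin_cases i <;> fin_cases j <;> simp)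
      have hu0 : u₀ F 2 = 1 := by
        have : gL L * u₀ F 2 * (gL L)⁻¹ = 1 := by
          rw [show gL L * u₀ F 2 * (gL L)⁻¹ = frm o * v * (frm o)⁻¹ by rw [hv]; group, hv1, mul_one, mul_inv_cancel]
        exact conj_eq_one_iff.1 this
      have := congrArg (fun t : GL2 => (t : M2) 0 1) hu0
      simp [u₀_val, shift] at this
    · have e01 := congrFun (congrFun hvd 0) 1
      have hd : (v : M2).det ≠ 0 := (v.isUnit.map Matrix.detMonoidHom).ne_zero
      rw [Matrix.det_fin_two, h00, h11] at hd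
      simp [Matrix.mul_apply, Matrix.vecMul, dotProduct, Fin.sum_univ_two, h00, h11] at e01 hd
      exact hxy (mul_left_cancel₀ hd.1 (by linear_combination -e01))
  refine CfsgLib.Coprime.NilpotentCover.no_cover e 𝓕 (fun B hB => ?_) ?_ (fun A hA i j hi hj => ?_)
    (fun A hA i hi a ha => ?_)
  · rcases Finset.mem_union.1 hB with h | h <;> obtain ⟨L, -, rfl⟩ := Finset.mem_image.1 h
    · exact pointStab_ne_top le_rfl G hG (hne _)
    · intro htop
      have hc : Commute (mkp (u₀ F 2)) (mkp (1 * d₀ * 1⁻¹)) := by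
        have h1 : (⟨mkp (u₀ F 2), hG ⟨_, u₀_mem_sl, rfl⟩⟩ : G) ∈ Subgroup.zpowers (elw L) := htop ▸ Subgroup.mem_top _
        have h2 : et none ∈ Subgroup.zpowers (elw L) := htop ▸ Subgroup.mem_top _
        obtain ⟨k, hk⟩ := h1
        obtain ⟨l, hl⟩ := h2
        have h3 := congrArg Subtype.val (Commute.zpow_zpow (Commute.refl (elw L)) k l).eq
        simp only at hk hl
        rw [hk, hl] at h3
        exact h3
      obtain ⟨c, hc⟩ := frame_commute hc
      rw [hd₀val] at hc
      rcases mono _ hx₀ hy₀ hxy hc with ⟨h01, -⟩ | ⟨h00, -, -⟩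
      · simp [u₀_val, shift] at h01
      · simp [u₀_val, shift] at h00
  · refine lt_of_le_of_lt (Finset.card_union_le _ _) ?_
    refine lt_of_le_of_lt (Nat.add_le_add Finset.card_image_le Finset.card_image_le) ?_
    rw [Nat.card_eq_fintype_card, Fintype.card_sum, Fintype.card_option, Finset.card_univ, Finset.card_univ]
    omega
  · rcases i with L | o <;> rcases j with L' | o'
    · refine congrArg Sum.inl (Subtype.ext ?_)
      rw [← hgLs L, ← hgLs L']
      exact (point_eq p _ (hM A hA) ⟨eu L, hi, rfl⟩ ⟨eu L', hj, rfl⟩).1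
    · exact (hsepUT A hA L o' hi hj).elim
    · exact (hsepUT A hA L' o hj hi).elim
    · refine congrArg Sum.inr ?_
      rcases hdich with hne2 | hW
      swap
      · rcases o with _ | w
        · rcases o' with _ | w'
          · rfl
          · exact hW.elim w'
        · exact hW.elim w
      have hnt : Nontrivial A := by
        refine ⟨⟨⟨et o, hi⟩, 1, fun h => ?_⟩⟩
        have h1 : mkp (frm o * d₀ * (frm o)⁻¹) = mkp 1 := congrArg (fun t : A => ((t : G) : PG)) h
        obtain ⟨c, hc⟩ := smul_of_mk_eq (a := d₀) (b := 1) (by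
          have := congrArg (fun t => mkp (frm o)⁻¹ * t * mkp (frm o)) h1
          simpa [map_mul, map_inv, mul_assoc] using this)
        have hc0 := congrFun (congrFun hc 0) 0
        have hc1 := congrFun (congrFun hc 1) 1
        simp [hd₀val] at hc0 hc1
        exact hxy (hc0.trans hc1.symm)
      have := hA
      obtain ⟨z, hz, hz1⟩ := (Subgroup.ne_bot_iff_exists_ne_one (H := Subgroup.center A)).1 (Group.IsNilpotent.center_ne_bot _) |>.elim
        fun z hz => (⟨z.1, z.2, fun h => hz (Subtype.ext h)⟩ : ∃ z : A, z ∈ Subgroup.center A ∧ z ≠ 1)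
      obtain ⟨z', hz'⟩ := QuotientGroup.mk'_surjective _ ((z : G) : PG)
      have hzd : ∀ o'' , et o'' ∈ A →
          (((frm o'')⁻¹ * z' * frm o'' : GL2) : M2) 0 1 = 0 ∧ (((frm o'')⁻¹ * z' * frm o'' : GL2) : M2) 1 0 = 0 := by
        intro o'' ho
        obtain ⟨c, hc⟩ := hcomm A o'' ho z hz z' hz'
        rw [hd₀val] at hc
        exact (mono _ hx₀ hy₀ hxy hc).resolve_right fun h => hne2 h.2.2
      obtain ⟨z01, z10⟩ := hzd o hi
      obtain ⟨z01', z10'⟩ := hzd o' hj
      set D := (frm o)⁻¹ * z' * frm o with hDdef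
      set D' := (frm o')⁻¹ * z' * frm o' with hD'def
      have hDne : (D : M2) 0 0 ≠ (D : M2) 1 1 := fun h => hz1 (Subtype.ext (Subtype.ext (by
        show ((z : G) : PG) = mkp 1
        rw [← hz']
        exact mk_eq_one_of_scalar (frm o) z' z01 z10 h)))
      set k := (frm o')⁻¹ * frm o with hk
      have hkD : (k : M2) * (D : M2) = (D' : M2) * (k : M2) := by
        rw [← Units.val_mul, ← Units.val_mul]; exact congrArg _ (by rw [hk, hDdef, hD'def]; group)
      have k00 := congrFun (congrFun hkD 0) 0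
      have k01 := congrFun (congrFun hkD 0) 1
      simp [Matrix.mul_apply, Fin.sum_univ_two, z01, z10, z01', z10'] at k00 k01
      have k10 := congrFun (congrFun hkD 1) 0
      have k11 := congrFun (congrFun hkD 1) 1
      simp [Matrix.mul_apply, Fin.sum_univ_two, z01, z10, z01', z10'] at k10 k11
      have hkcol : (k : M2) 1 0 = 0 ∧ (k : M2) 0 1 = 0 ∨ (k : M2) 0 0 = 0 ∧ (k : M2) 1 1 = 0 := by
        have hd : (k : M2).det ≠ 0 := (k.isUnit.map Matrix.detMonoidHom).ne_zero
        rw [Matrix.det_fin_two] at hd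
        by_cases h0 : (k : M2) 0 0 = 0
        · refine Or.inr ⟨h0, ?_⟩
          simp [h0] at hd
          by_contra h1
          have e1 : (D : M2) 1 1 = (D' : M2) 1 1 := mul_left_cancel₀ h1 (by linear_combination k11)
          have e2 : (D : M2) 0 0 = (D' : M2) 1 1 := mul_left_cancel₀ hd.2 (by linear_combination k10)
          exact hDne (e2.trans e1.symm)
        · have e0' : (D : M2) 0 0 = (D' : M2) 0 0 := mul_left_cancel₀ h0 (by linear_combination k00)
          have hr : (k : M2) 0 1 = 0 := by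
            by_contra h1
            have e1 : (D : M2) 1 1 = (D' : M2) 0 0 := mul_left_cancel₀ h1 (by linear_combination k01)
            exact hDne (e0'.trans e1.symm)
          refine Or.inl ⟨?_, hr⟩
          simp [hr] at hd
          by_contra h1
          have e1 : (D : M2) 0 0 = (D' : M2) 1 1 := mul_left_cancel₀ h1 (by linear_combination k10)
          have e2 : (D : M2) 1 1 = (D' : M2) 1 1 := mul_left_cancel₀ hd.2 (by linear_combination k11)
          exact hDne (e1.trans e2.symm)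
      have hfk : (frm o : M2) = (frm o' : M2) * (k : M2) := by
        rw [← Units.val_mul, hk, mul_inv_cancel_left]
      have f00 := congrFun (congrFun hfk 0) 0
      have f01 := congrFun (congrFun hfk 0) 1
      have f10 := congrFun (congrFun hfk 1) 0
      have f11 := congrFun (congrFun hfk 1) 1
      rcases o with _ | w <;> rcases o' with _ | w'
      · rfl
      · exfalso
        simp only [frm, Option.elim, Units.val_one, hfw w', Matrix.mul_apply, Fin.sum_univ_two] at f10 f00
        rcases hkcol with ⟨ha, hb⟩ | ⟨ha, hb⟩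
        · simp [ha] at f10 f00
          simp [← f10] at f00
        · simp [ha] at f10 f00
          simp [← f10] at f00
      · exfalso
        simp only [frm, Option.elim, Units.val_one, hfw w, Matrix.mul_apply, Fin.sum_univ_two] at f10 f11
        rcases hkcol with ⟨ha, hb⟩ | ⟨ha, hb⟩
        · simp [ha] at f10
        · simp [hb] at f11
      · refine congrArg some (Subtype.ext ?_)
        simp only [frm, Option.elim, hfw w, hfw w', Matrix.mul_apply, Fin.sum_univ_two] at f00 f01 f10 f11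
        rcases hkcol with ⟨ha, hb⟩ | ⟨ha, hb⟩ <;> simp [ha, hb] at f00 f01 f10 f11 <;>
        · rw [← f10] at f00
          rw [← f11] at f01
          simp at f00 f01
          have h2 : ringChar F ≠ 2 := fun h => w.2.1 (FiniteField.isSquare_of_char_two h _)
          have h20 : (2 : F) ≠ 0 := Ring.two_ne_zero h2
          have hα : w.1.1 = w'.1.1 := mul_left_cancel₀ h20 (by linear_combination f00 + f01)
          have hs : sw w ^ 2 = sw w' ^ 2 := by
            have : w.1.1 + sw w - w'.1.1 = sw w ∧ w.1.1 - sw w - w'.1.1 = -sw w := by constructor <;> rw [hα] <;> ring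
            first
              | rw [show sw w = sw w' by linear_combination f00 - hα]
              | rw [show sw w = -sw w' by linear_combination f00 - hα, neg_sq]
          rw [hsw, hsw] at hs
          have hb' := mul_left_cancel₀ (hν0 w) hs
          rw [hα] at hb'
          exact Prod.ext hα (by linear_combination hb')
  · obtain ⟨a', ha'⟩ := QuotientGroup.mk'_surjective _ ((a : G) : PG)
    rcases i with L | o
    · have hst := lift_stab p _ (hM A hA) (a := a') (g := gL L) ⟨eu L, hi, rfl⟩ ⟨a, ha, ha'.symm⟩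
      exact ⟨bor L, Finset.mem_union_left _ (Finset.mem_image_of_mem _ (Finset.mem_univ L)),
        Subgroup.mem_subgroupOf.2 ⟨a', hst, ha'⟩⟩
    · by_cases hz1 : ∀ z : A, z ∈ Subgroup.center A → z = 1
      · have := hA
        have hnt : Nontrivial A ∨ Subsingleton A := (subsingleton_or_nontrivial A).symm
        rcases hnt with hnt | hsub
        · exact absurd ((Subgroup.eq_bot_iff_forall _).2 hz1) (Group.IsNilpotent.center_ne_bot _)
        · have : a = 1 := congrArg Subtype.val (Subsingleton.elim (⟨a, ha⟩ : A) 1)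
          subst this
          refine heig 1 1 (map_one _) e0 1 he00 ?_
          rw [Units.val_one, Matrix.one_mulVec, one_smul]
      push Not at hz1
      obtain ⟨z, hz, hzne⟩ := hz1
      obtain ⟨z', hz'⟩ := QuotientGroup.mk'_surjective _ ((z : G) : PG)
      obtain ⟨c, hc⟩ := hcomm A o hi z hz z' hz'
      rw [hd₀val] at hc
      have hza : Commute (mkp a') (mkp z') := by
        rw [ha', hz']
        exact congrArg (fun t : A => ((t : G) : PG)) (Subgroup.mem_center_iff.1 hz ⟨a, ha⟩)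
      rcases mono _ hx₀ hy₀ hxy hc with ⟨h01, h10⟩ | ⟨h00, h11, hsq⟩
      · set D := (frm o)⁻¹ * z' * frm o with hDdef
        have hDne : (D : M2) 0 0 ≠ (D : M2) 1 1 := fun h => hzne (Subtype.ext (Subtype.ext (by
          show ((z : G) : PG) = mkp 1
          rw [← hz']
          exact mk_eq_one_of_scalar (frm o) z' h01 h10 h)))
        obtain ⟨c', hc'⟩ := frame_commute (g := frm o) (a := a') (h := D) (by
          rwa [show frm o * D * (frm o)⁻¹ = z' by rw [hDdef]; group])
        have hDval : (D : M2) = !![(D : M2) 0 0, 0; 0, (D : M2) 1 1] := by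
          ext i j; fin_cases i <;> fin_cases j <;> simp [h01, h10]
        rw [hDval] at hc'
        exact hmonocov a a' _ ha' ((mono _ (diag_ne_zero D h01).1 (diag_ne_zero D h01).2 hDne hc').imp_right fun h => ⟨h.1, h.2.1⟩)
      · have hW : IsEmpty (wPairs G) := hdich.resolve_left fun h => h hsq
        have htz : (z' : M2).trace = 0 := by
          rw [← Matrix.trace_units_conj' (frm o) (z' : M2), ← Units.val_mul, ← Units.val_mul, Matrix.trace_fin_two, h00, h11, add_zero]
        -- in this case the central element has two fixed points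
        rw [Matrix.trace_fin_two] at htz
        obtain ⟨g, hg01, hg10, hgne⟩ : ∃ g : GL2, ((g⁻¹ * z' * g : GL2) : M2) 0 1 = 0 ∧ ((g⁻¹ * z' * g : GL2) : M2) 1 0 = 0 ∧
            ((g⁻¹ * z' * g : GL2) : M2) 0 0 ≠ ((g⁻¹ * z' * g : GL2) : M2) 1 1 := by
          have h20 : (2 : F) ≠ 0 := fun h => hxy (sub_eq_zero.1 (eq_zero_of_pow_eq_zero (n := 2) (show (x₀ - y₀) ^ 2 = 0 by
            linear_combination hsq + (y₀ ^ 2 - x₀ * y₀) * h)))
          have hd : (z' : M2).det ≠ 0 := (z'.isUnit.map Matrix.detMonoidHom).ne_zero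
          rw [Matrix.det_fin_two] at hd
          obtain ⟨g, p, r, hne', hg⟩ : ∃ (g : GL2) (p r : F), p ≠ r ∧ (z' : M2) * (g : M2) = (g : M2) * !![p, 0; 0, r] := by
            by_cases hc : (z' : M2) 1 0 = 0
            · rw [hc, mul_zero, sub_zero] at hd
              have hα := (mul_ne_zero_iff.1 hd).1
              refine ⟨Matrix.GeneralLinearGroup.mkOfDetNeZero !![1, (z' : M2) 0 1; 0, -(2 * (z' : M2) 0 0)]
                (by rw [Matrix.det_fin_two_of]; simp [h20, hα]), (z' : M2) 0 0, -(z' : M2) 0 0,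
                fun h => mul_ne_zero h20 hα (by linear_combination h), ?_⟩
              have h11z : (z' : M2) 1 1 = -(z' : M2) 0 0 := by linear_combination htz
              ext i j; fin_cases i <;> fin_cases j <;>
                simp [Matrix.mul_apply, Fin.sum_univ_two, hc, h11z] <;> ring
            · set c := (z' : M2) 1 0
              set α := c⁻¹ * (z' : M2) 0 0 with hαdef
              set β := c⁻¹ * (z' : M2) 0 1 with hβdef
              have h00' : (z' : M2) 0 0 = c * α := by rw [hαdef, mul_inv_cancel_left₀ hc]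
              have h01' : (z' : M2) 0 1 = c * β := by rw [hβdef, mul_inv_cancel_left₀ hc]
              have h11' : (z' : M2) 1 1 = -(c * α) := by linear_combination htz - h00'
              rw [h00', h01', h11'] at hd
              have hform : (z' : M2) = c • !![α, β; 1, -α] := by
                ext i j; fin_cases i <;> fin_cases j <;> simp [h00', h01', h11', c]
              have hsq : IsSquare (α ^ 2 + β) := by
                by_contra hns
                have hD : !![α, β; 1, -α].det ≠ 0 := by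
                  rw [Matrix.det_fin_two_of]
                  exact fun h => hd (by linear_combination c ^ 2 * h)
                exact hW.elim ⟨(α, β), hns, Matrix.GeneralLinearGroup.mkOfDetNeZero _ hD, rfl, by
                  rw [← mk_eq_of_smul hform, hz']; exact (z : G).2⟩
              obtain ⟨s, hs⟩ := hsq
              have hs0 : s ≠ 0 := fun h => hd (by linear_combination (-c ^ 2) * hs - c ^ 2 * s * h)
              refine ⟨Matrix.GeneralLinearGroup.mkOfDetNeZero !![α + s, α - s; 1, 1]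
                (by rw [Matrix.det_fin_two_of]; exact fun h => mul_ne_zero h20 hs0 (by linear_combination h)), c * s, -(c * s),
                fun h => mul_ne_zero h20 (mul_ne_zero hc hs0) (by linear_combination h), ?_⟩
              show (z' : M2) * !![α + s, α - s; 1, 1] = !![α + s, α - s; 1, 1] * !![c * s, 0; 0, -(c * s)]
              ext i j; fin_cases i <;> fin_cases j <;> simp [Matrix.mul_apply, Fin.sum_univ_two, h00', h01', h11', c]
              · linear_combination c * hs
              · linear_combination c * hs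
              · ring
              · ring
          refine ⟨g, ?_, ?_, ?_⟩ <;> simp [diag_of_eigen g z' hg, hne']
        set D := g⁻¹ * z' * g with hDdef
        obtain ⟨c', hc'⟩ := frame_commute (g := g) (a := a') (h := D) (by
          rwa [show g * D * g⁻¹ = z' by rw [hDdef]; group])
        have hDval : (D : M2) = !![(D : M2) 0 0, 0; 0, (D : M2) 1 1] := by
          ext i j; fin_cases i <;> fin_cases j <;> simp [hg01, hg10]
        rw [hDval] at hc'
        exact hmonocov a a' _ ha' ((mono _ (diag_ne_zero D hg01).1 (diag_ne_zero D hg01).2 hgne hc').imp_right fun h => ⟨h.1, h.2.1⟩)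

end CfsgLib.Coprime.NilpotentCoverGL2
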