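import Cfsg.Agent.Lib.Coprime.NilpotentCover
import Cfsg.Agent.Lib.OddOrder.Basic
import Mathlib.GroupTheory.Perm.Cycle.Concrete
import Mathlib.GroupTheory.Perm.Cycle.Type
import Mathlib.GroupTheory.SpecificGroups.Alternating
import Mathlib.NumberTheory.Bertrand
import Mathlib.RingTheory.Int.Basic

/-!
Nilpotent covers of permutation groups through cycles of large prime length.
-/

set_option autoImplicit false

open Equiv

namespace CfsgLib.Coprime.NilpotentCoverPerm

/-- In a nilpotent group whose order is not divisible by `p ^ 2`, elements of order `p` are central. -/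
lemma commute_of_not_sq_dvd {G : Type*} [Group G] [Finite G] [Group.IsNilpotent G] (p : ℕ) [Fact p.Prime]
    (hp2 : ¬ p ^ 2 ∣ Nat.card G) {s : G} (hs : orderOf s = p) (a : G) : Commute s a := by
  classical
  obtain ⟨P⟩ : Nonempty (Sylow p G) := inferInstance
  let _ := Sylow.unique_of_normal P inferInstance
  have hin : ∀ x : G, x ^ p = 1 → x ∈ Subgroup.zpowers s := by
    intro x hx
    have hz : ∀ y : G, y ^ p = 1 → y ∈ (P : Subgroup G) := by
      intro y hy
      have h : IsPGroup p (Subgroup.zpowers y) := by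
        obtain ⟨j, -, hj⟩ := (Nat.dvd_prime_pow (Fact.out : p.Prime)).1
          (show orderOf y ∣ p ^ 1 by rw [pow_one]; exact orderOf_dvd_of_pow_eq_one hy)
        exact IsPGroup.of_card (n := j) (by rw [Nat.card_zpowers, hj])
      obtain ⟨Q, hQ⟩ := h.exists_le_sylow
      exact Subsingleton.elim Q P ▸ hQ (Subgroup.mem_zpowers y)
    obtain ⟨k, hk⟩ := IsPGroup.iff_card.1 P.2
    have hk1 : k ≤ 1 := by
      by_contra h
      exact hp2 ((pow_dvd_pow p (by omega : 2 ≤ k)).trans (hk ▸ Subgroup.card_subgroup_dvd_card _))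
    have hle : Subgroup.zpowers s ≤ (P : Subgroup G) := Subgroup.zpowers_le.2 (hz s (by rw [← hs, pow_orderOf_eq_one]))
    have heq : Subgroup.zpowers s = (P : Subgroup G) := by
      refine Subgroup.eq_of_le_of_card_ge hle ?_
      rw [Nat.card_zpowers, hs, hk]
      calc p ^ k ≤ p ^ 1 := Nat.pow_le_pow_right (Fact.out : p.Prime).pos hk1
        _ = p := pow_one p
    rw [heq]; exact hz x hx
  by_cases hpa : p ∣ orderOf a
  · obtain ⟨m, hm⟩ := hpa
    have hpm : p.Coprime m := ((Fact.out : p.Prime).coprime_iff_not_dvd).2 fun h => hp2 <|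
      (by rw [sq]; exact mul_dvd_mul_left p h : p ^ 2 ∣ p * m).trans (hm ▸ orderOf_dvd_natCard a)
    have h1 : Commute s (a ^ m) := by
      obtain ⟨j, hj⟩ := hin (a ^ m) (by rw [← pow_mul, mul_comm, ← hm, pow_orderOf_eq_one])
      exact hj ▸ Commute.zpow_right (Commute.refl s) j
    have h2 : Commute s (a ^ p) := CfsgLib.OddOrder.Basic.commute_of_coprime_orderOf <| by
      refine hs.symm ▸ hpm.coprime_dvd_right (orderOf_dvd_of_pow_eq_one ?_)
      rw [← pow_mul, ← hm, pow_orderOf_eq_one]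
    have hb := Int.isCoprime_iff_nat_coprime.2 (by simpa using hpm : Nat.Coprime (p : ℤ).natAbs (m : ℤ).natAbs)
    obtain ⟨u, v, huv⟩ := hb
    have : a = (a ^ p) ^ u * (a ^ m) ^ v := by
      rw [← zpow_natCast a p, ← zpow_natCast a m, ← zpow_mul, ← zpow_mul, ← zpow_add,
        mul_comm (p : ℤ), mul_comm (m : ℤ), huv, zpow_one]
    rw [this]
    exact (h2.zpow_right u).mul_right (h1.zpow_right v)
  · exact CfsgLib.OddOrder.Basic.commute_of_coprime_orderOf
      (hs.symm ▸ ((Fact.out : p.Prime).coprime_iff_not_dvd).2 hpa)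

/-- The criterion for permutation groups. -/
theorem no_cover_of_perm {G : Type*} [Group G] {n : ℕ} (φ : G →* Perm (Fin n)) (hφ : Function.Injective φ)
    (p : ℕ) [Fact p.Prime] (hp2 : ¬ p ^ 2 ∣ n.factorial) {ι : Type*} [Finite ι] (e : ι → G)
    (he : ∀ i, orderOf (φ (e i)) = p) (hnc : ∀ i j, Commute (φ (e i)) (φ (e j)) → i = j)
    (𝓕 : Finset (Subgroup G)) (hF : ∀ B ∈ 𝓕, B ≠ ⊤) (hcard : 𝓕.card < Nat.card ι)
    (hcov : ∀ i a, Commute (φ a) (φ (e i)) → ∃ B ∈ 𝓕, a ∈ B) :
    ¬ ∃ 𝓐 : Finset (Subgroup G), ((∀ A ∈ 𝓐, A ≠ ⊤) ∧ (∀ g : G, ∃ A ∈ 𝓐, g ∈ A)) ∧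
      (∀ 𝓑 : Finset (Subgroup G), (∀ A ∈ 𝓑, A ≠ ⊤) ∧ (∀ g : G, ∃ A ∈ 𝓑, g ∈ A) → 𝓐.card ≤ 𝓑.card) ∧
      (∀ A ∈ 𝓐, Group.IsNilpotent ↥A) := by
  have : Finite G := Finite.of_injective φ hφ
  have key : ∀ A : Subgroup G, Group.IsNilpotent A → ∀ i, e i ∈ A → ∀ a ∈ A, Commute (φ a) (φ (e i)) := by
    intro A hA i hi a ha
    have := hA
    have hd : ¬ p ^ 2 ∣ Nat.card A := fun h => hp2 <| by
      have h1 := (h.trans (Subgroup.card_subgroup_dvd_card A)).trans (Subgroup.card_dvd_of_injective φ hφ)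
      rwa [Nat.card_perm, Nat.card_fin] at h1
    have := commute_of_not_sq_dvd p hd (s := (⟨e i, hi⟩ : A))
      (by rw [Subgroup.orderOf_mk, ← orderOf_injective φ hφ, he]) ⟨a, ha⟩
    exact ((this.map A.subtype).map φ).symm
  exact CfsgLib.Coprime.NilpotentCover.no_cover e 𝓕 hF hcard
    (fun A hA i j hi hj => hnc i j (key A hA j hj _ hi)) fun A hA i hi a ha => hcov i a (key A hA i hi a ha)

/-- The stabiliser of a set of points. -/
def setStab {n : ℕ} (s : Finset (Fin n)) : Subgroup (Perm (Fin n)) where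
  carrier := {g | ∀ x, g x ∈ s ↔ x ∈ s}
  one_mem' _ := Iff.rfl
  mul_mem' {g h} hg hh x := (hg (h x)).trans (hh x)
  inv_mem' {g} hg x := by simpa using (hg (g⁻¹ x)).symm

lemma setStab_comap_ne_top {G : Type*} [Group G] {n : ℕ} (hn : 3 ≤ n) (φ : G →* Perm (Fin n))
    (hrange : alternatingGroup (Fin n) ≤ φ.range) (s : Finset (Fin n)) {a b : Fin n} (ha : a ∈ s) (hb : b ∉ s) :
    (setStab s).comap φ ≠ ⊤ := by
  classical
  intro htop
  have hab : a ≠ b := fun h => hb (h ▸ ha)
  obtain ⟨c, -, hc⟩ := Finset.exists_mem_notMem_of_card_lt_card (s := ({a, b} : Finset (Fin n))) (t := Finset.univ)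
    (by rw [Finset.card_univ, Fintype.card_fin]; exact Finset.card_le_two.trans_lt (by omega))
  simp only [Finset.mem_insert, Finset.mem_singleton, not_or] at hc
  obtain ⟨g, hg⟩ := hrange (x := swap a b * swap a c) (Equiv.Perm.mem_alternatingGroup.2 (by
    rw [map_mul, Perm.sign_swap hab, Perm.sign_swap (Ne.symm hc.1)]; rfl))
  have hmem : φ g ∈ setStab s := (htop ▸ Subgroup.mem_top g : g ∈ (setStab s).comap φ)
  rw [hg] at hmem
  by_cases hcs : c ∈ s
  · exact hb (by simpa [Perm.mul_apply, swap_apply_right, swap_apply_left] using (hmem c).2 hcs)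
  · exact hcs (by simpa [Perm.mul_apply, swap_apply_left, swap_apply_of_ne_of_ne hc.1 hc.2] using (hmem a).2 ha)

lemma support_commute {n : ℕ} {σ a : Perm (Fin n)} (h : Commute a σ) (x : Fin n) : a x ∈ σ.support ↔ x ∈ σ.support := by
  simp only [Perm.mem_support]
  rw [show σ (a x) = a (σ x) from (congrArg (fun t : Perm (Fin n) => t x) h.eq).symm]
  exact a.injective.ne_iff

lemma support_eq_of_commute {n : ℕ} {σ τ : Perm (Fin n)} (hσ : σ.IsCycle) (hst : σ.support.card = τ.support.card)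
    (hbig : n < σ.support.card + τ.support.card) (h : Commute σ τ) : σ.support = τ.support := by
  obtain ⟨x, hx⟩ : (σ.support ∩ τ.support).Nonempty := Finset.inter_nonempty_of_card_lt_card_add_card
    (Finset.subset_univ _) (Finset.subset_univ _) (by rw [Finset.card_univ, Fintype.card_fin]; exact hbig)
  rw [Finset.mem_inter] at hx
  refine Finset.eq_of_subset_of_card_le (fun y hy => ?_) hst.ge
  obtain ⟨k, hk⟩ := hσ.exists_pow_eq (Perm.mem_support.1 hx.1) (Perm.mem_support.1 hy)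
  exact hk ▸ (support_commute (h.pow_left k) x).2 hx.2

/-- The case of degree at least six. -/
theorem no_cover_large {G : Type*} [Group G] {n : ℕ} (hn : 6 ≤ n) (φ : G →* Perm (Fin n)) (hφ : Function.Injective φ)
    (hrange : alternatingGroup (Fin n) ≤ φ.range) :
    ¬ ∃ 𝓐 : Finset (Subgroup G), ((∀ A ∈ 𝓐, A ≠ ⊤) ∧ (∀ g : G, ∃ A ∈ 𝓐, g ∈ A)) ∧
      (∀ 𝓑 : Finset (Subgroup G), (∀ A ∈ 𝓑, A ≠ ⊤) ∧ (∀ g : G, ∃ A ∈ 𝓑, g ∈ A) → 𝓐.card ≤ 𝓑.card) ∧
      (∀ A ∈ 𝓐, Group.IsNilpotent ↥A) := by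
  classical
  obtain ⟨p, hp, h5, hlt, h2n⟩ : ∃ p, p.Prime ∧ 5 ≤ p ∧ p < n ∧ n < 2 * p := by
    rcases (show n = 6 ∨ n = 7 ∨ 8 ≤ n by omega) with rfl | rfl | h8
    · exact ⟨5, by norm_num, le_rfl, by norm_num, by norm_num⟩
    · exact ⟨5, by norm_num, le_rfl, by norm_num, by norm_num⟩
    · obtain ⟨p, hp, h1, h2⟩ := Nat.exists_prime_lt_and_le_two_mul (n / 2) (by omega)
      have hodd := hp.eq_two_or_odd
      exact ⟨p, hp, by omega, by omega, by omega⟩
  have := Fact.mk hp
  have hp2 : ¬ p ^ 2 ∣ n.factorial := by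
    rw [hp.pow_dvd_iff_le_factorization n.factorial_ne_zero, Nat.factorization_factorial hp (b := 2)
      (Nat.log_lt_of_lt_pow (by omega) (lt_of_lt_of_le h2n (by rw [sq]; exact Nat.mul_le_mul_right p (by omega))))]
    have : n / p < 2 := Nat.div_lt_of_lt_mul (by omega)
    simp; omega
  let S := {s : Finset (Fin n) // s.card = p}
  have hcyc : ∀ s : S, ∃ σ : Perm (Fin n), σ.IsCycle ∧ σ.support = s.1 ∧ Perm.sign σ = 1 := by
    rintro ⟨s, hs⟩
    have hnd := s.nodup_toList
    have hl : 2 ≤ s.toList.length := by rw [Finset.length_toList]; omega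
    have hc := List.isCycle_formPerm hnd hl
    have hsup : (List.formPerm s.toList).support = s := by
      rw [List.support_formPerm_of_nodup _ hnd fun x h => by rw [h] at hl; simp at hl, Finset.toList_toFinset]
    refine ⟨_, hc, hsup, ?_⟩
    rw [hc.sign, hsup, hs, (hp.odd_of_ne_two (by omega)).neg_one_pow, neg_neg]
  choose σ hσc hσs hσsgn using hcyc
  obtain ⟨t, -, ht⟩ := Finset.exists_subset_card_eq (s := (Finset.univ : Finset (Fin n))) (n := p) (by simp; omega)
  let s₀ : S := ⟨t, ht⟩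
  obtain ⟨a, ha⟩ : t.Nonempty := Finset.card_pos.1 (by omega)
  set b := σ s₀ a with hb
  set c := σ s₀ b with hc
  set τ := swap b c * σ s₀ * swap b c with hτ
  have hσa : ∀ k, 0 < k → k < p → (σ s₀ ^ k) a ≠ a := by
    intro k hk0 hk h
    have h1 := (hσc s₀).pow_eq_one_iff.2 ⟨a, Perm.mem_support.1 (by rw [hσs]; exact ha), h⟩
    have h2 := Nat.le_of_dvd hk0 (orderOf_dvd_of_pow_eq_one h1)
    rw [(hσc s₀).orderOf, hσs, show s₀.1.card = p from ht] at h2
    omega
  have hord : ∀ s : S, orderOf (σ s) = p := fun s => by rw [(hσc s).orderOf, hσs, s.2]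
  have hswap : swap b c = (swap b c)⁻¹ := (Equiv.swap_inv b c).symm
  have hτc : τ.IsCycle := by rw [hτ]; nth_rewrite 2 [hswap]; exact (hσc s₀).conj
  have hτs : τ.support.card = p := by
    rw [hτ]; nth_rewrite 2 [hswap]; rw [Perm.card_support_conj, hσs]; exact ht
  have hτsgn : Perm.sign τ = 1 := by
    rw [hτ, map_mul, map_mul, hσsgn, mul_one, ← map_mul, swap_mul_self, map_one]
  let cyc : Option S → Perm (Fin n) := fun o => o.elim τ σ
  have hcycsgn : ∀ o, ∃ g, φ g = cyc o := fun o => hrange (Equiv.Perm.mem_alternatingGroup.2 (by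
    cases o
    · exact hτsgn
    · exact hσsgn _))
  choose e he using hcycsgn
  have hτσ : ¬ Commute τ (σ s₀) := by
    intro h
    have hneb : ∀ k, 0 < k → k < p → (σ s₀ ^ k) b ≠ b := fun k hk0 hk e => hσa k hk0 hk ((σ s₀).injective (by
      rw [← Perm.mul_apply, ← pow_succ', pow_succ, Perm.mul_apply, ← hb]; exact e))
    have hcb : c ≠ b := by simpa [hc] using hneb 1 one_pos (by omega)
    have h2b : σ s₀ c ≠ b := by simpa [hc, sq] using hneb 2 two_pos (by omega)
    have h3b : σ s₀ (σ s₀ c) ≠ b := by simpa [hc, pow_succ, pow_zero] using hneb 3 (by omega) (by omega)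
    have hdc : σ s₀ c ≠ c := fun e => hcb ((σ s₀).injective (e.trans hc))
    have h1 := congrArg (fun t : Perm (Fin n) => t b) h.eq
    simp only [Perm.mul_apply] at h1
    have e1 : τ c = b := by rw [hτ, Perm.mul_apply, Perm.mul_apply, swap_apply_right, ← hc, swap_apply_right]
    have e2 : τ b = σ s₀ c := by rw [hτ, Perm.mul_apply, Perm.mul_apply, swap_apply_left, swap_apply_of_ne_of_ne h2b hdc]
    rw [← hc, e1, e2] at h1
    exact h3b h1.symm
  have hcycs : ∀ o, (cyc o).IsCycle ∧ (cyc o).support.card = p := fun o => by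
    rcases o with _ | s
    · exact ⟨hτc, hτs⟩
    · exact ⟨hσc s, by show (σ s).support.card = p; rw [hσs]; exact s.2⟩
  let 𝓕 : Finset (Subgroup G) := Finset.univ.image fun s : S => (setStab s.1).comap φ
  refine no_cover_of_perm φ hφ p hp2 e (fun o => ?_) (fun i j h => ?_) 𝓕 (fun B hB => ?_) ?_ (fun i g hg => ?_)
  · rw [he, (hcycs o).1.orderOf, (hcycs o).2]
  · rw [he, he] at h
    have hsup := support_eq_of_commute (hcycs i).1 ((hcycs i).2.trans (hcycs j).2.symm)
      (by rw [(hcycs i).2, (hcycs j).2]; omega) h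
    have hτ0 : τ.support = s₀.1 := by
      refine Finset.eq_of_subset_of_card_le (fun x hx => ?_) (by rw [hτs, show s₀.1.card = p from ht])
      rw [Perm.mem_support, hτ, Perm.mul_apply, Perm.mul_apply] at hx
      rw [← hσs, Perm.mem_support]
      intro hfix
      have hbs : b ∈ (σ s₀).support := by rw [hb, Perm.apply_mem_support, hσs]; exact ha
      have hcs : c ∈ (σ s₀).support := by rw [hc, Perm.apply_mem_support]; exact hbs
      have hxb : x ≠ b := fun e => Perm.mem_support.1 hbs (e ▸ hfix)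
      have hxc : x ≠ c := fun e => Perm.mem_support.1 hcs (e ▸ hfix)
      rw [swap_apply_of_ne_of_ne hxb hxc, hfix, swap_apply_of_ne_of_ne hxb hxc] at hx
      exact hx rfl
    rcases i with _ | s <;> rcases j with _ | s'
    · rfl
    · obtain rfl : s' = s₀ := Subtype.ext (by rw [← hσs s', ← hτ0]; exact hsup.symm)
      exact absurd h hτσ
    · obtain rfl : s = s₀ := Subtype.ext (by rw [← hσs s, ← hτ0]; exact hsup)
      exact absurd h.symm hτσ
    · exact congrArg some (Subtype.ext (by rw [← hσs s, ← hσs s']; exact hsup))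
  · obtain ⟨s, -, rfl⟩ := Finset.mem_image.1 hB
    obtain ⟨x, hx⟩ : s.1.Nonempty := Finset.card_pos.1 (by rw [s.2]; omega)
    obtain ⟨y, -, hy⟩ := Finset.exists_mem_notMem_of_card_lt_card (s := s.1) (t := Finset.univ) (by rw [s.2]; simpa using hlt)
    exact setStab_comap_ne_top (by omega) φ hrange s.1 hx hy
  · refine lt_of_le_of_lt Finset.card_image_le ?_
    rw [Finite.card_option, Nat.card_eq_fintype_card, Finset.card_univ]
    exact Nat.lt_succ_self _
  · rw [he] at hg
    exact ⟨_, Finset.mem_image_of_mem _ (Finset.mem_univ ⟨(cyc i).support, (hcycs i).2⟩),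
      fun x => support_commute hg x⟩

/-- A symmetric group with two noncommuting prime cycles of even type and even centraliser. -/
theorem no_cover_sym_small {n : ℕ} (p : ℕ) [Fact p.Prime] (hp2 : ¬ p ^ 2 ∣ n.factorial) (s t : Perm (Fin n))
    (hs : orderOf s = p) (ht : orderOf t = p) (hst : s * t ≠ t * s) (hn : 2 ≤ n)
    (hcs : ∀ a : Perm (Fin n), a * s = s * a → Perm.sign a = 1) (hct : ∀ a : Perm (Fin n), a * t = t * a → Perm.sign a = 1) :
    ¬ ∃ 𝓐 : Finset (Subgroup (Perm (Fin n))), ((∀ A ∈ 𝓐, A ≠ ⊤) ∧ (∀ g : Perm (Fin n), ∃ A ∈ 𝓐, g ∈ A)) ∧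
      (∀ 𝓑 : Finset (Subgroup (Perm (Fin n))), (∀ A ∈ 𝓑, A ≠ ⊤) ∧ (∀ g : Perm (Fin n), ∃ A ∈ 𝓑, g ∈ A) → 𝓐.card ≤ 𝓑.card) ∧
      (∀ A ∈ 𝓐, Group.IsNilpotent ↥A) := by
  refine no_cover_of_perm (MonoidHom.id _) Function.injective_id p hp2 (fun i : Bool => bif i then s else t)
    (fun i => by cases i <;> assumption) (fun i j h => ?_) {alternatingGroup (Fin n)} (fun B hB => ?_)
    (by rw [Finset.card_singleton, Nat.card_eq_fintype_card, Fintype.card_bool]; norm_num) fun i a h => ⟨_, Finset.mem_singleton_self _, ?_⟩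
  · cases i <;> cases j
    · rfl
    · exact absurd h.eq.symm hst
    · exact absurd h.eq hst
    · rfl
  · obtain rfl := Finset.mem_singleton.1 hB
    intro htop
    have h01 : (⟨0, by omega⟩ : Fin n) ≠ ⟨1, by omega⟩ := by simp
    have h := Equiv.Perm.mem_alternatingGroup.1 (htop ▸ Subgroup.mem_top (swap (⟨0, by omega⟩ : Fin n) ⟨1, by omega⟩))
    rw [Perm.sign_swap h01] at h
    exact absurd h (by decide)
  · refine Equiv.Perm.mem_alternatingGroup.2 ?_
    cases i
    · exact hct a h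
    · exact hcs a h

end CfsgLib.Coprime.NilpotentCoverPerm
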