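import Cfsg.Agent.Lib.OddOrder.Basic
import Cfsg.Prelude.Def_Transfer
import Mathlib.RingTheory.Int.Basic

/-!
Abelian Sylow subgroups in groups with a nilpotent minimal cover.
-/

set_option autoImplicit false

namespace CfsgLib.Coprime.NilpotentCoverSylow

variable {G : Type*} [Group G] [Finite G] {p : ℕ} [Fact p.Prime]

lemma eq_of_le_proper {𝓐 : Finset (Subgroup G)} (hcov : (∀ A ∈ 𝓐, A ≠ ⊤) ∧ ∀ g : G, ∃ A ∈ 𝓐, g ∈ A)
    (hmin : ∀ 𝓑 : Finset (Subgroup G), (∀ A ∈ 𝓑, A ≠ ⊤) ∧ (∀ g : G, ∃ A ∈ 𝓑, g ∈ A) → 𝓐.card ≤ 𝓑.card)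
    {M B C : Subgroup G} (hM : M ≠ ⊤) (hB : B ∈ 𝓐) (hC : C ∈ 𝓐) (hBM : B ≤ M) (hCM : C ≤ M) : B = C := by
  classical
  by_contra hne
  have hsub : ({B, C} : Finset (Subgroup G)) ⊆ 𝓐 :=
    Finset.insert_subset hB (Finset.singleton_subset_iff.2 hC)
  have h := hmin (insert M (𝓐 \ {B, C})) ⟨fun A hA => (Finset.mem_insert.1 hA).elim (fun e => e ▸ hM)
    (fun h => hcov.1 A (Finset.mem_sdiff.1 h).1), fun g => by
      obtain ⟨A, hA, hg⟩ := hcov.2 g
      by_cases hA' : A ∈ ({B, C} : Finset (Subgroup G))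
      · refine ⟨M, Finset.mem_insert_self _ _, ?_⟩
        rcases Finset.mem_insert.1 hA' with rfl | h
        · exact hBM hg
        · exact hCM (Finset.mem_singleton.1 h ▸ hg)
      · exact ⟨A, Finset.mem_insert_of_mem (Finset.mem_sdiff.2 ⟨hA, hA'⟩), hg⟩⟩
  have h1 := Finset.card_insert_le M (𝓐 \ {B, C})
  rw [Finset.card_sdiff_of_subset hsub, Finset.card_pair hne] at h1
  have h2 := Finset.card_le_card hsub
  rw [Finset.card_pair hne] at h2
  omega

/-- Every element is built from powers of order prime to `p` and of `p`-power order. -/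
lemma exists_parts (a : G) : ∃ u v : G, u ∈ Subgroup.zpowers a ∧ v ∈ Subgroup.zpowers a ∧ a = u * v ∧
    (∃ k : ℕ, u ^ p ^ k = 1) ∧ ¬ p ∣ orderOf v := by
  obtain ⟨k, m, hm, he⟩ := Nat.exists_eq_pow_mul_and_not_dvd (orderOf_pos a).ne' p (Fact.out : p.Prime).ne_one
  have hcop : (m : ℕ).Coprime (p ^ k) := (((Fact.out : p.Prime).coprime_iff_not_dvd.2 hm).pow_left k).symm
  obtain ⟨x, y, hxy⟩ := Int.isCoprime_iff_nat_coprime.2 (by simpa using hcop : Nat.Coprime (m : ℤ).natAbs ((p ^ k : ℕ) : ℤ).natAbs)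
  refine ⟨(a ^ m) ^ x, (a ^ p ^ k) ^ y, Subgroup.zpow_mem _ (pow_mem (Subgroup.mem_zpowers a) m) _,
    Subgroup.zpow_mem _ (pow_mem (Subgroup.mem_zpowers a) _) _, ?_, ⟨k, ?_⟩, ?_⟩
  · rw [← zpow_natCast a m, ← zpow_natCast a (p ^ k), ← zpow_mul, ← zpow_mul, ← zpow_add, mul_comm (m : ℤ),
      mul_comm ((p ^ k : ℕ) : ℤ), hxy, zpow_one]
  · rw [← zpow_natCast, ← zpow_mul, mul_comm, zpow_mul, zpow_natCast, ← pow_mul, mul_comm m, ← he, pow_orderOf_eq_one, one_zpow]
  · intro h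
    refine hm (h.trans (orderOf_dvd_of_pow_eq_one ?_))
    rw [← zpow_natCast, ← zpow_mul, mul_comm, zpow_mul, zpow_natCast, ← pow_mul, ← he, pow_orderOf_eq_one, one_zpow]

/-- Two `p`-elements of a `p`-group lie in one Sylow subgroup, so commute when it is abelian. -/
lemma commute_of_mem_pgroup (P : Sylow p G) (hab : IsMulCommutative ↥(P : Subgroup G)) {Q : Subgroup G}
    (hQ : IsPGroup p Q) {x y : G} (hx : x ∈ Q) (hy : y ∈ Q) : Commute x y := by
  obtain ⟨S, hS⟩ := hQ.exists_le_sylow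
  obtain ⟨g, rfl⟩ := MulAction.exists_smul_eq G P S
  have hmem : ∀ z ∈ Q, ∃ z' : ↥(P : Subgroup G), z = g * (z' : G) * g⁻¹ := by
    intro z hz
    obtain ⟨z', hz', hz''⟩ := hS hz
    exact ⟨⟨z', hz'⟩, hz''.symm⟩
  obtain ⟨x', rfl⟩ := hmem x hx
  obtain ⟨y', rfl⟩ := hmem y hy
  exact (show Commute (x' : G) (y' : G) from congrArg Subtype.val (hab.is_comm.comm x' y')).map (MulAut.conj g).toMonoidHom

lemma isPGroup_zpowers {x : G} (hx : ∃ k : ℕ, x ^ p ^ k = 1) : IsPGroup p (Subgroup.zpowers x) := by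
  obtain ⟨k, hk⟩ := hx
  obtain ⟨j, -, hj⟩ := (Nat.dvd_prime_pow (Fact.out : p.Prime)).1 (orderOf_dvd_of_pow_eq_one hk)
  exact IsPGroup.of_card (n := j) (by rw [Nat.card_zpowers, hj])

lemma coprime_pElement {x v : G} (hx : ∃ k : ℕ, x ^ p ^ k = 1) (hv : ¬ p ∣ orderOf v) : (orderOf x).Coprime (orderOf v) := by
  obtain ⟨k, hk⟩ := hx
  exact Nat.Coprime.coprime_dvd_left (orderOf_dvd_of_pow_eq_one hk) (((Fact.out : p.Prime).coprime_iff_not_dvd.2 hv).pow_left k)

/-- A nilpotent subgroup centralises each of its `p`-elements when the Sylow `p`-subgroups are abelian. -/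
lemma le_centralizer (P : Sylow p G) (hab : IsMulCommutative ↥(P : Subgroup G)) {B : Subgroup G}
    (hB : Group.IsNilpotent B) {x : G} (hxB : x ∈ B) (hx : ∃ k : ℕ, x ^ p ^ k = 1) :
    B ≤ Subgroup.centralizer ({x} : Set G) := by
  have := hB
  intro b hb
  rw [Subgroup.mem_centralizer_singleton_iff]
  obtain ⟨u, v, hu, hv, rfl, hup, hvp⟩ := exists_parts (p := p) b
  have huB : u ∈ B := Subgroup.zpowers_le.2 hb hu
  have hvB : v ∈ B := Subgroup.zpowers_le.2 hb hv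
  obtain ⟨Q⟩ : Nonempty (Sylow p B) := inferInstance
  let _ := Sylow.unique_of_normal Q inferInstance
  have hin : ∀ z, ∀ hz : z ∈ B, (∃ k : ℕ, z ^ p ^ k = 1) → z ∈ (Q : Subgroup B).map B.subtype := by
    intro z hz ⟨k, hk⟩
    obtain ⟨R, hR⟩ := (isPGroup_zpowers (x := (⟨z, hz⟩ : B)) ⟨k, Subtype.ext hk⟩).exists_le_sylow
    exact ⟨⟨z, hz⟩, Subsingleton.elim R Q ▸ hR (Subgroup.mem_zpowers _), rfl⟩
  have h1 : Commute x u := commute_of_mem_pgroup P hab (Q.2.map B.subtype) (hin x hxB hx) (hin u huB hup)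
  have h2 : Commute x v := (CfsgLib.OddOrder.Basic.commute_of_coprime_orderOf
    (a := (⟨x, hxB⟩ : B)) (b := ⟨v, hvB⟩) (by rw [Subgroup.orderOf_mk, Subgroup.orderOf_mk]; exact coprime_pElement hx hvp)).map B.subtype
  exact (h1.mul_right h2).symm.eq

/-- The main dichotomy: either `P` is elementary abelian of order above `p`, or it lies in one member. -/
theorem main (hZ : Subgroup.center G = ⊥) (𝓐 : Finset (Subgroup G))
    (h𝓐 : ((∀ A ∈ 𝓐, A ≠ ⊤) ∧ (∀ g : G, ∃ A ∈ 𝓐, g ∈ A)) ∧ (∀ 𝓑 : Finset (Subgroup G), (∀ A ∈ 𝓑, A ≠ ⊤) ∧ (∀ g : G, ∃ A ∈ 𝓑, g ∈ A) → 𝓐.card ≤ 𝓑.card) ∧ (∀ A ∈ 𝓐, Group.IsNilpotent ↥A))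
    (P : Sylow p G) (hab : IsMulCommutative ↥(P : Subgroup G)) (hnn : ¬ (P : Subgroup G).Normal)
    (hne : ¬ (Cfsg.IsElementaryAbelian p (P : Subgroup G) ∧ p < Nat.card ↥(P : Subgroup G))) :
    ∃ A ∈ 𝓐, (P : Subgroup G) ≤ A ∧ ¬ p ∣ ((P : Subgroup G).subgroupOf A).index ∧
      IsCoatom (Subgroup.normalizer ((P : Subgroup G) : Set G)) ∧
      (∀ g : G, g ∉ Subgroup.normalizer ((P : Subgroup G) : Set G) →
        ¬ p ∣ Nat.card ↥(Subgroup.normalizer ((P : Subgroup G) : Set G) ⊓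
          (Subgroup.normalizer ((P : Subgroup G) : Set G)).map (MulAut.conj g).toMonoidHom)) ∧
      Subgroup.centralizer ((P : Subgroup G) : Set G) = A ∧
      ∀ M : Subgroup G, IsCoatom M → A ≤ M → M = Subgroup.normalizer ((P : Subgroup G) : Set G) := by
  classical
  obtain ⟨⟨hprop, hcov⟩, hmin, hnil⟩ := h𝓐
  have hcx : ∀ x : G, x ≠ 1 → Subgroup.centralizer ({x} : Set G) ≠ ⊤ := fun x hx h =>
    hx <| Subgroup.mem_bot.1 <| hZ ▸ Subgroup.mem_center_iff.2 fun y =>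
      Subgroup.mem_centralizer_singleton_iff.1 (h ▸ Subgroup.mem_top y)
  have huniq : ∀ x : G, x ≠ 1 → (∃ k : ℕ, x ^ p ^ k = 1) → ∀ B ∈ 𝓐, ∀ C ∈ 𝓐, x ∈ B → x ∈ C → B = C :=
    fun x hx1 hxp B hB C hC hxB hxC => eq_of_le_proper ⟨hprop, hcov⟩ hmin (hcx x hx1) hB hC
      (le_centralizer P hab (hnil B hB) hxB hxp) (le_centralizer P hab (hnil C hC) hxC hxp)
  choose mem hmem1 hmem2 using hcov
  have hPpow : ∀ x ∈ (P : Subgroup G), ∃ k : ℕ, x ^ p ^ k = 1 := fun x hx => by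
    obtain ⟨k, hk⟩ := P.2 ⟨x, hx⟩
    exact ⟨k, congrArg Subtype.val hk⟩
  have hPne : (P : Subgroup G) ≠ ⊥ := fun h => hnn (h ▸ inferInstance)
  -- a member containing P
  obtain ⟨A, hA, hPA⟩ : ∃ A ∈ 𝓐, (P : Subgroup G) ≤ A := by
    by_cases hex : ∀ x ∈ (P : Subgroup G), x ^ p = 1
    · have hcard : Nat.card ↥(P : Subgroup G) ≤ p := not_lt.1 fun h => hne ⟨⟨hab, hex⟩, h⟩
      obtain ⟨x, hx, hx1⟩ := (Subgroup.ne_bot_iff_exists_ne_one.1 hPne).elim
        fun x hx => (⟨x.1, x.2, fun h => hx (Subtype.ext h)⟩ : ∃ x, x ∈ (P : Subgroup G) ∧ x ≠ 1)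
      refine ⟨mem x, hmem1 x, ?_⟩
      have : Subgroup.zpowers x = (P : Subgroup G) := Subgroup.eq_of_le_of_card_ge (Subgroup.zpowers_le.2 hx)
        (by rw [Nat.card_zpowers, orderOf_eq_prime (hex x hx) hx1]; exact hcard)
      rw [← this]
      exact Subgroup.zpowers_le.2 (hmem2 x)
    · push Not at hex
      obtain ⟨a, ha, hap⟩ := hex
      refine ⟨mem a, hmem1 a, fun b hb => ?_⟩
      have ha1 : a ≠ 1 := fun h => hap (by rw [h, one_pow])
      have hord : ∀ c ∈ (P : Subgroup G), c ^ p = 1 → c ∈ mem a := by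
        intro c hc hcp
        have hpow : (a * c) ^ p = a ^ p := by
          rw [(show Commute a c from congrArg Subtype.val (hab.is_comm.comm ⟨a, ha⟩ ⟨c, hc⟩)).mul_pow, hcp, mul_one]
        have h1 : mem (a * c) = mem a := huniq (a ^ p) hap (hPpow _ (pow_mem ha p)) _ (hmem1 _) _ (hmem1 a)
          (hpow ▸ pow_mem (hmem2 _) p) (pow_mem (hmem2 a) p)
        have h2 := mul_mem (inv_mem (hmem2 a)) (h1 ▸ hmem2 (a * c))
        rwa [inv_mul_cancel_left] at h2
      rcases eq_or_ne b 1 with rfl | hb1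
      · exact one_mem _
      obtain ⟨k, hk⟩ := hPpow b hb
      obtain ⟨j, hj1, hj2⟩ : ∃ j, b ^ p ^ j ≠ 1 ∧ b ^ p ^ (j + 1) = 1 := by
        by_contra h
        push Not at h
        have : ∀ j, b ^ p ^ j ≠ 1 := fun j => by
          induction j with
          | zero => rwa [pow_zero, pow_one]
          | succ j ih => exact h j ih
        exact this k hk
      have hbm : b ^ p ^ j ∈ mem a := hord _ (pow_mem hb _) (by rw [← pow_mul, ← pow_succ]; exact hj2)
      have := huniq _ hj1 (hPpow _ (pow_mem hb _)) _ (hmem1 b) _ (hmem1 a) (pow_mem (hmem2 b) _) hbm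
      exact this ▸ hmem2 b
  have hAc : A ≤ Subgroup.centralizer ((P : Subgroup G) : Set G) := fun a ha => Subgroup.mem_centralizer_iff.2 fun x hx =>
    (Subgroup.mem_centralizer_singleton_iff.1 (le_centralizer P hab (hnil A hA) (hPA hx) (hPpow x hx) ha)).symm
  have hcent : Subgroup.centralizer ((P : Subgroup G) : Set G) = A := by
    refine le_antisymm (fun z hz => ?_) hAc
    obtain ⟨u, v, hu, hv, rfl, hup, hvp⟩ := exists_parts (p := p) z
    have huc := Subgroup.zpowers_le.2 hz hu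
    have hvc := Subgroup.zpowers_le.2 hz hv
    have hPC : (P : Subgroup G) ≤ Subgroup.centralizer ((P : Subgroup G) : Set G) := hPA.trans hAc
    have hu' : u ∈ A := by
      obtain ⟨k, hk⟩ := hup
      have hsup : IsPGroup p ((P : Subgroup G) ⊔ Subgroup.zpowers u : Subgroup G) :=
        IsPGroup.to_sup_of_normal_left' P.2 (isPGroup_zpowers ⟨k, hk⟩) (Subgroup.zpowers_le.2 (Subgroup.centralizer_le_normalizer _ huc))
      exact hPA (P.3 hsup le_sup_left ▸ (Subgroup.mem_sup_right (Subgroup.mem_zpowers u)))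
    refine mul_mem hu' ?_
    obtain ⟨x, hx⟩ := Subgroup.ne_bot_iff_exists_ne_one.1 hPne
    have hcomm : Commute (x : G) v := Subgroup.mem_centralizer_iff.1 hvc x x.2
    have hcop : (orderOf (x : G)).Coprime (orderOf v) := coprime_pElement (hPpow _ x.2) hvp
    have hxz : (x : G) ∈ mem (x * v) := by
      obtain ⟨m, hm⟩ := exists_pow_eq_self_of_coprime (n := orderOf v) (x := (x : G)) hcop.symm
      refine (congrArg (· ∈ mem ((x : G) * v)) hm).mp (pow_mem ?_ m)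
      rw [show (x : G) ^ orderOf v = ((x : G) * v) ^ orderOf v by rw [hcomm.mul_pow, pow_orderOf_eq_one, mul_one]]
      exact pow_mem (hmem2 _) _
    have hxA := huniq (x : G) (fun h => hx (Subtype.ext h)) (hPpow _ x.2) _ (hmem1 _) A hA hxz (hPA x.2)
    have h2 := mul_mem (inv_mem (hPA x.2)) (hxA ▸ hmem2 ((x : G) * v))
    rwa [inv_mul_cancel_left] at h2
  set N := Subgroup.normalizer ((P : Subgroup G) : Set G) with hN
  have hNtop : N ≠ ⊤ := fun h => hnn (Subgroup.normalizer_eq_top_iff.1 h)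
  -- members through conjugates of P
  have hconj : ∀ g : G, ∀ B ∈ 𝓐, ∀ x ∈ (P : Subgroup G), x ≠ 1 → g * x * g⁻¹ ∈ B →
      ∀ a ∈ A, g * a * g⁻¹ ∈ B := by
    intro g B hB x hx hx1 hxB a ha
    obtain ⟨u, v, hu, hv, rfl, hup, hvp⟩ := exists_parts (p := p) a
    have huA := Subgroup.zpowers_le.2 ha hu
    have hvA := Subgroup.zpowers_le.2 ha hv
    have hcomm : ∀ y ∈ (P : Subgroup G), ∀ w ∈ A, Commute y w := fun y hy w hw =>
      Subgroup.mem_centralizer_iff.1 (hAc hw) y hy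
    have huP : u ∈ (P : Subgroup G) := by
      obtain ⟨k, hk⟩ := hup
      have hsup : IsPGroup p ((P : Subgroup G) ⊔ Subgroup.zpowers u : Subgroup G) :=
        IsPGroup.to_sup_of_normal_left' P.2 (isPGroup_zpowers ⟨k, hk⟩) (Subgroup.zpowers_le.2 (Subgroup.centralizer_le_normalizer _ (hAc huA)))
      exact P.3 hsup le_sup_left ▸ (Subgroup.mem_sup_right (Subgroup.mem_zpowers u))
    have hB' : ∀ y ∈ (P : Subgroup G), y ≠ 1 → g * y * g⁻¹ ∈ B → ∀ w ∈ A, ¬ p ∣ orderOf w → g * w * g⁻¹ ∈ B := by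
      intro y hy hy1 hyB w hw hwp
      have hyw := hcomm y hy w hw
      have hcop : (orderOf y).Coprime (orderOf w) := coprime_pElement (hPpow _ hy) hwp
      have hyz : g * y * g⁻¹ ∈ mem (g * (y * w) * g⁻¹) := by
        obtain ⟨m, hm⟩ := exists_pow_eq_self_of_coprime (n := orderOf w) (x := y) hcop.symm
        refine (congrArg (fun t => g * t * g⁻¹ ∈ mem (g * (y * w) * g⁻¹)) hm).mp ?_
        rw [show y ^ orderOf w = (y * w) ^ orderOf w by rw [hyw.mul_pow, pow_orderOf_eq_one, mul_one], ← pow_mul, ← conj_pow]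
        exact pow_mem (hmem2 _) _
      have hyB' := huniq (g * y * g⁻¹) (fun h => hy1 (conj_eq_one_iff.1 h))
        ((hPpow y hy).imp fun k hk => by rw [conj_pow, hk, mul_one, mul_inv_cancel]) _ (hmem1 _) B hB hyz hyB
      have h2 := mul_mem (inv_mem hyB) (hyB' ▸ hmem2 (g * (y * w) * g⁻¹))
      rwa [show (g * y * g⁻¹)⁻¹ * (g * (y * w) * g⁻¹) = g * w * g⁻¹ by group] at h2
    rw [show g * (u * v) * g⁻¹ = (g * u * g⁻¹) * (g * v * g⁻¹) by group]
    refine mul_mem ?_ (hB' x hx hx1 hxB v hvA hvp)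
    -- the whole conjugate of P lies in B
    rcases eq_or_ne u 1 with rfl | hu1
    · rw [mul_one, mul_inv_cancel]; exact one_mem _
    obtain ⟨C, hC, hPC⟩ : ∃ C ∈ 𝓐, ∀ y ∈ (P : Subgroup G), g * y * g⁻¹ ∈ C := by
      by_cases hex : ∀ y ∈ (P : Subgroup G), y ^ p = 1
      · have hcard : Nat.card ↥(P : Subgroup G) ≤ p := not_lt.1 fun h => hne ⟨⟨hab, hex⟩, h⟩
        refine ⟨B, hB, fun y hy => ?_⟩
        have : Subgroup.zpowers x = (P : Subgroup G) := Subgroup.eq_of_le_of_card_ge (Subgroup.zpowers_le.2 hx)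
          (by rw [Nat.card_zpowers, orderOf_eq_prime (hex x hx) hx1]; exact hcard)
        obtain ⟨j, rfl⟩ := Subgroup.mem_zpowers_iff.1 (this.symm ▸ hy)
        rw [← conj_zpow]
        exact B.zpow_mem hxB j
      · push Not at hex
        obtain ⟨b, hb, hbp⟩ := hex
        refine ⟨mem (g * b * g⁻¹), hmem1 _, fun y hy => ?_⟩
        have hord : ∀ c ∈ (P : Subgroup G), c ^ p = 1 → g * c * g⁻¹ ∈ mem (g * b * g⁻¹) := by
          intro c hc hcp
          have hpow : (g * (b * c) * g⁻¹) ^ p = g * b ^ p * g⁻¹ := by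
            rw [conj_pow, (show Commute b c from congrArg Subtype.val (hab.is_comm.comm ⟨b, hb⟩ ⟨c, hc⟩)).mul_pow, hcp, mul_one]
          have h1 := huniq (g * b ^ p * g⁻¹) (fun h => hbp (conj_eq_one_iff.1 h))
            ((hPpow _ (pow_mem hb p)).imp fun k hk => by rw [conj_pow, hk, mul_one, mul_inv_cancel]) _ (hmem1 _) _ (hmem1 (g * b * g⁻¹))
            (hpow ▸ pow_mem (hmem2 _) p) (conj_pow (a := g) (b := b) ▸ pow_mem (hmem2 _) p)
          have h2 := mul_mem (inv_mem (hmem2 (g * b * g⁻¹))) (h1 ▸ hmem2 (g * (b * c) * g⁻¹))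
          rwa [show (g * b * g⁻¹)⁻¹ * (g * (b * c) * g⁻¹) = g * c * g⁻¹ by group] at h2
        rcases eq_or_ne y 1 with rfl | hy1
        · rw [mul_one, mul_inv_cancel]; exact one_mem _
        obtain ⟨k, hk⟩ := hPpow y hy
        obtain ⟨j, hj1, hj2⟩ : ∃ j, y ^ p ^ j ≠ 1 ∧ y ^ p ^ (j + 1) = 1 := by
          by_contra h
          push Not at h
          have : ∀ j, y ^ p ^ j ≠ 1 := fun j => by
            induction j with
            | zero => rwa [pow_zero, pow_one]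
            | succ j ih => exact h j ih
          exact this k hk
        have h1 := hord _ (pow_mem hy _) (by rw [← pow_mul, ← pow_succ]; exact hj2)
        have := huniq (g * y ^ p ^ j * g⁻¹) (fun h => hj1 (conj_eq_one_iff.1 h))
          ((hPpow _ (pow_mem hy _)).imp fun k hk => by rw [conj_pow, hk, mul_one, mul_inv_cancel]) _ (hmem1 (g * y * g⁻¹)) _ (hmem1 _)
          (conj_pow (a := g) (b := y) ▸ pow_mem (hmem2 _) _) h1
        exact this ▸ hmem2 _
    have : B = C := huniq (g * x * g⁻¹) (fun h => hx1 (conj_eq_one_iff.1 h))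
      ((hPpow x hx).imp fun k hk => by rw [conj_pow, hk, mul_one, mul_inv_cancel]) B hB C hC hxB (hPC x hx)
    exact this ▸ hPC u huP
  have hAN : A ≤ N := hAc.trans (Subgroup.centralizer_le_normalizer _)
  have hfixA : ∀ g : G, (∀ a ∈ A, g * a * g⁻¹ ∈ A) → g ∈ N := by
    intro g hg
    have hgP : ∀ y ∈ (P : Subgroup G), g * y * g⁻¹ ∈ (P : Subgroup G) := by
      intro y hy
      obtain ⟨k, hk⟩ := hPpow y hy
      have hk' : (g * y * g⁻¹) ^ p ^ k = 1 := by rw [conj_pow, hk, mul_one, mul_inv_cancel]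
      have hsup : IsPGroup p ((P : Subgroup G) ⊔ Subgroup.zpowers (g * y * g⁻¹) : Subgroup G) :=
        IsPGroup.to_sup_of_normal_left' P.2 (isPGroup_zpowers ⟨k, hk'⟩)
          (Subgroup.zpowers_le.2 (hAN (hg y (hPA hy))))
      exact P.3 hsup le_sup_left ▸ (Subgroup.mem_sup_right (Subgroup.mem_zpowers _))
    rw [hN, Subgroup.mem_normalizer_iff]
    refine fun y => ⟨hgP y, fun h => ?_⟩
    let f : ↥(P : Subgroup G) → ↥(P : Subgroup G) := fun y => ⟨g * y * g⁻¹, hgP y y.2⟩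
    have hf : Function.Bijective f := Finite.injective_iff_bijective.1 fun a b e =>
      Subtype.ext (by simpa [f] using congrArg Subtype.val e)
    obtain ⟨z, hz⟩ := hf.2 ⟨g * y * g⁻¹, h⟩
    have : (z : G) = y := by simpa [f] using congrArg Subtype.val hz
    exact this ▸ z.2
  obtain ⟨x₀, hx₀, hx₀1⟩ := (Subgroup.ne_bot_iff_exists_ne_one.1 hPne).elim
    fun x hx => (⟨x.1, x.2, fun h => hx (Subtype.ext h)⟩ : ∃ x, x ∈ (P : Subgroup G) ∧ x ≠ 1)
  have hmax : ∀ M : Subgroup G, M ≠ ⊤ → A ≤ M → M ≤ N := by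
    intro M hM hAM g hg
    refine hfixA g fun a ha => ?_
    have hB := hmem1 (g * x₀ * g⁻¹)
    have h1 := hconj g _ hB x₀ hx₀ hx₀1 (hmem2 _)
    have hBM : mem (g * x₀ * g⁻¹) ≤ M := by
      intro b hb
      have hbc := le_centralizer P hab (hnil _ hB) (h1 x₀ (hPA hx₀)) ((hPpow x₀ hx₀).imp fun k hk => by
        rw [conj_pow, hk, mul_one, mul_inv_cancel])
      -- the member is centralised by the whole conjugate of `P`
      have hbP : g⁻¹ * b * g ∈ Subgroup.centralizer ((P : Subgroup G) : Set G) := Subgroup.mem_centralizer_iff.2 fun y hy => by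
        have h2 := Subgroup.mem_centralizer_singleton_iff.1 (le_centralizer P hab (hnil _ hB) (h1 y (hPA hy))
          ((hPpow y hy).imp fun k hk => by rw [conj_pow, hk, mul_one, mul_inv_cancel]) hb)
        calc y * (g⁻¹ * b * g) = g⁻¹ * (g * y * g⁻¹ * b) * g := by group
          _ = g⁻¹ * (b * (g * y * g⁻¹)) * g := by rw [h2]
          _ = g⁻¹ * b * g * y := by group
      rw [hcent] at hbP
      have := M.mul_mem (M.mul_mem hg (hAM hbP)) (M.inv_mem hg)
      rwa [show g * (g⁻¹ * b * g) * g⁻¹ = b by group] at this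
    exact eq_of_le_proper ⟨hprop, fun g => ⟨mem g, hmem1 g, hmem2 g⟩⟩ hmin hM hB hA hBM hAM ▸ h1 a ha
  refine ⟨A, hA, hPA, ?_, ⟨hNtop, fun M hM => ?_⟩, fun g hg hdvd => ?_, hcent, fun M hM hAM => ?_⟩
  · exact fun h => P.not_dvd_index (h.trans (Subgroup.relIndex_dvd_index_of_le hPA))
  · by_contra htop
    exact absurd (hmax M htop (hAN.trans hM.le)) hM.not_ge
  · obtain ⟨y, hy⟩ := exists_prime_orderOf_dvd_card' p hdvd
    obtain ⟨hy1, z, hz, hzy⟩ := Subgroup.mem_inf.1 y.2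
    have hy' : orderOf (y : G) = p := by rw [Subgroup.orderOf_coe, hy]
    have hinP : ∀ w ∈ N, (∃ k : ℕ, w ^ p ^ k = 1) → w ∈ (P : Subgroup G) := by
      intro w hw hwp
      have hsup : IsPGroup p ((P : Subgroup G) ⊔ Subgroup.zpowers w : Subgroup G) :=
        IsPGroup.to_sup_of_normal_left' P.2 (isPGroup_zpowers hwp) (Subgroup.zpowers_le.2 hw)
      exact P.3 hsup le_sup_left ▸ (Subgroup.mem_sup_right (Subgroup.mem_zpowers _))
    have hzy' : g * z * g⁻¹ = (y : G) := hzy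
    have hyP : (y : G) ∈ (P : Subgroup G) := hinP _ hy1 ⟨1, by rw [pow_one, ← hy', pow_orderOf_eq_one]⟩
    have hzP : z ∈ (P : Subgroup G) := hinP z hz ⟨1, by
      have := pow_orderOf_eq_one (y : G)
      rw [hy', ← hzy', conj_pow, conj_eq_one_iff] at this
      rwa [pow_one]⟩
    have hyne : (y : G) ≠ 1 := fun h => (Fact.out : p.Prime).ne_one (by rw [← hy', h, orderOf_one])
    have hzne : z ≠ 1 := fun h => hyne (by rw [← hzy', h, mul_one, mul_inv_cancel])
    exact hg (hfixA g fun a ha => hconj g A hA z hzP hzne (hzy' ▸ hPA hyP) a ha)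
  · exact (hM.le_iff.1 (hmax M hM.1 hAM)).resolve_left hNtop |>.symm

end CfsgLib.Coprime.NilpotentCoverSylow
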