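import Cfsg.Agent.Lib.Coprime.Sylow
import Cfsg.Agent.Lib.NumberTheory.MaximalCentralizers
import Mathlib

/-!
Normal subgroups all whose non-central elements have maximal centralisers in the whole group.
-/

set_option autoImplicit false

namespace CfsgLib.Coprime.NormalMaxCent

open Subgroup
open scoped Pointwise commutatorElement

variable {G : Type*} [Group G] [Finite G]

/-- The hypothesis, on the elements of `N`. -/
def MaxCent (N : Subgroup G) : Prop :=
  ∀ x : N, x ∉ center N → IsCoatom (centralizer ({(x : G)} : Set G))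

lemma mem_center_subgroup_iff {N : Subgroup G} {x : N} :
    x ∈ center N ↔ (x : G) ∈ centralizer (N : Set G) :=
  ⟨fun h => mem_centralizer_iff.2 fun n hn => congrArg Subtype.val (mem_center_iff.1 h ⟨n, hn⟩),
    fun h => mem_center_iff.2 fun n => Subtype.ext (mem_centralizer_iff.1 h n n.2)⟩

variable {N : Subgroup G} [N.Normal]

lemma exists_dec (h : MaxCent N) {L : Subgroup G} (hL : L.Normal) {y : N} (hy : y ∉ center N) {l : G} (hl : l ∈ L)
    (hly : ¬ Commute l y) (g : G) : ∃ a ∈ L, ∃ c : G, Commute c (y : G) ∧ g = a * c := by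
  have hsup : L ⊔ centralizer ({(y : G)} : Set G) = ⊤ := (h y hy).2 _ (lt_of_le_of_ne le_sup_right fun e =>
    hly (mem_centralizer_singleton_iff.1 (e.ge (mem_sup_left hl))))
  obtain ⟨a, ha, c, hc, e⟩ := mem_sup_of_normal_left.1 (hsup.ge (mem_top g))
  exact ⟨a, ha, c, mem_centralizer_singleton_iff.1 hc, e.symm⟩

/-- If `y` does not centralise the normal subgroup `L`, then `y` is central modulo `L`. -/
lemma comm_mem (h : MaxCent N) {L : Subgroup G} (hL : L.Normal) {u : N} {l : G} (hl : l ∈ L) (hlN : l ∈ N)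
    (hlu : ¬ Commute l (u : G)) (g : G) : ⁅g, (u : G)⁆ ∈ L := by
  have hu : u ∉ center N := fun hz => hlu (congrArg Subtype.val (mem_center_iff.1 hz ⟨l, hlN⟩))
  obtain ⟨l', hl', c, hc, rfl⟩ := exists_dec h hL hu hl hlu g
  rw [show ⁅l' * c, (u : G)⁆ = l' * (c * u * c⁻¹ * l'⁻¹ * (u : G)⁻¹) by rw [commutatorElement_def]; group,
    show c * (u : G) * c⁻¹ = u by rw [hc.eq, mul_inv_cancel_right]]
  exact L.mul_mem hl' (hL.conj_mem _ (L.inv_mem hl') (u : G))

/-- Every `G`-conjugate of an element of `N` is an `N`-conjugate. -/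
lemma exists_conj (h : MaxCent N) {x : N} (hx : x ∉ center N) (g : G) :
    ∃ n ∈ N, g * (x : G) * g⁻¹ = n * (x : G) * n⁻¹ := by
  have hc := h x hx
  have hsup : N ⊔ centralizer ({(x : G)} : Set G) = ⊤ := hc.2 _ (lt_of_le_of_ne le_sup_right fun e =>
    hx (mem_center_iff.2 fun n => Subtype.ext (mem_centralizer_singleton_iff.1 (e.ge (mem_sup_left n.2)))))
  obtain ⟨n, hn, c, hc, rfl⟩ := mem_sup_of_normal_left.1 (hsup.ge (mem_top g))
  refine ⟨n, hn, ?_⟩
  have hc' : Commute c (x : G) := mem_centralizer_singleton_iff.1 hc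
  calc n * c * x * (n * c)⁻¹ = n * (c * x * c⁻¹) * n⁻¹ := by group
    _ = n * x * n⁻¹ := by rw [hc'.eq, mul_inv_cancel_right]

/-- A non-central normal subgroup of `N` is normal in `G`. -/
lemma normal_map (h : MaxCent N) (L : Subgroup N) (hL : L.Normal) (hLc : ¬ L ≤ center N) :
    (L.map N.subtype).Normal := by
  obtain ⟨x, hxL, hx⟩ := SetLike.not_le_iff_exists.1 hLc
  have key : ∀ y : N, y ∈ L → y ∉ center N → ∀ g : G, g * (y : G) * g⁻¹ ∈ L.map N.subtype := by
    intro y hyL hy g
    obtain ⟨n, hn, e⟩ := exists_conj h hy g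
    exact ⟨⟨n, hn⟩ * y * ⟨n, hn⟩⁻¹, hL.conj_mem y hyL _, e.symm⟩
  refine ⟨fun z ⟨y, hyL, hyz⟩ g => ?_⟩
  subst hyz
  by_cases hy : y ∈ center N
  · have hxy : x * y ∉ center N := fun e => hx (by simpa using mul_mem e (inv_mem hy))
    have h1 := (L.map N.subtype).mul_mem ((L.map N.subtype).inv_mem (key x hxL hx g)) (key _ (mul_mem hxL hyL) hxy g)
    have h2 : (g * (x : G) * g⁻¹)⁻¹ * (g * ((x * y : N) : G) * g⁻¹) = g * (y : G) * g⁻¹ := by
      rw [coe_mul]; group
    rwa [h2] at h1
  · exact key y hyL hy g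

/-- A normal subgroup of `G` below `N` contains `N'` as soon as it is not central in `N`. -/
lemma derived_le (h : MaxCent N) {L : Subgroup G} (hL : L.Normal) {x : N} (hxL : (x : G) ∈ L) (hx : x ∉ center N)
    (a b : N) : ⁅(a : G), (b : G)⁆ ∈ L := by
  obtain ⟨y, hy⟩ : ∃ y : N, ¬ Commute (x : G) y := by
    by_contra hcon
    push Not at hcon
    exact hx (mem_center_iff.2 fun n => Subtype.ext (hcon n).eq.symm)
  have key : ∀ u : N, (∃ l ∈ L, l ∈ N ∧ ¬ Commute l (u : G)) → ∀ g : G, ⁅g, (u : G)⁆ ∈ L :=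
    fun u ⟨l, hl, hlN, hlu⟩ g => comm_mem h hL hl hlN hlu g
  by_cases hb : ∃ l ∈ L, l ∈ N ∧ ¬ Commute l (b : G)
  · exact key b hb a
  · push Not at hb
    have h1 := key (b * y) ⟨x, hxL, x.2, fun e => hy (by
      have := (hb x hxL x.2).inv_right.mul_right e
      rwa [coe_mul, inv_mul_cancel_left] at this)⟩ a
    have h2 := key y ⟨x, hxL, x.2, hy⟩ a
    rw [coe_mul, show ⁅(a : G), (b : G) * y⁆ = ⁅(a : G), (b : G)⁆ * ((b : G) * ⁅(a : G), (y : G)⁆ * (b : G)⁻¹) by
      rw [commutatorElement_def, commutatorElement_def, commutatorElement_def]; group] at h1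
    have := L.mul_mem h1 (L.inv_mem (hL.conj_mem _ h2 (b : G)))
    rwa [mul_inv_cancel_right] at this

/-- The subgroup form: a non-central normal subgroup of `N` contains the derived subgroup. -/
lemma commutator_le (h : MaxCent N) {L : Subgroup N} (hL : L.Normal) (hLc : ¬ L ≤ center N) : commutator N ≤ L := by
  obtain ⟨x, hxL, hx⟩ := SetLike.not_le_iff_exists.1 hLc
  rw [_root_.commutator_def, Subgroup.commutator_le]
  intro a _ b _
  obtain ⟨z, hz, e⟩ := derived_le h (normal_map h L hL hLc) (x := x) (mem_map_of_mem _ hxL) hx a b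
  rwa [show (z : N) = ⁅a, b⁆ from Subtype.ext (e.trans (map_commutatorElement N.subtype a b).symm)] at hz

lemma exists_pow_eq_of_coprime {H : Type*} [Group H] {a b : H} (hc : Commute a b)
    (hcop : (orderOf a).Coprime (orderOf b)) : ∃ k : ℕ, (a * b) ^ k = a := by
  obtain ⟨m, hm⟩ := exists_pow_eq_self_of_coprime (n := orderOf b) (x := a) hcop.symm
  exact ⟨orderOf b * m, by rw [pow_mul, hc.mul_pow, pow_orderOf_eq_one, mul_one, hm]⟩

/-- Commuting non-central elements of coprime orders have equal centralisers in `G`. -/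
lemma centralizer_eq_of_coprime (h : MaxCent N) {u y : N} (hc : Commute u y)
    (hcop : (orderOf u).Coprime (orderOf y)) (hu : u ∉ center N) (hy : y ∉ center N) :
    centralizer ({(y : G)} : Set G) = centralizer ({(u : G)} : Set G) := by
  have key : ∀ u y : N, Commute u y → (orderOf u).Coprime (orderOf y) → u ∉ center N →
      centralizer ({((u * y : N) : G)} : Set G) = centralizer ({(u : G)} : Set G) := by
    intro u y hc hcop hu
    obtain ⟨k, hk⟩ := exists_pow_eq_of_coprime hc hcop
    have huy : u * y ∉ center N := fun hz => hu (hk ▸ pow_mem hz k)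
    have hle : centralizer ({((u * y : N) : G)} : Set G) ≤ centralizer ({(u : G)} : Set G) := by
      intro g hg
      rw [mem_centralizer_singleton_iff] at hg ⊢
      rw [← hk, coe_pow]
      exact ((show Commute g ((u * y : N) : G) from hg).pow_right k).eq
    rcases (h _ huy).le_iff.1 hle with e | e
    · exact absurd e (h u hu).1
    · exact e.symm
  rw [← key u y hc hcop hu, hc.eq, key y u hc.symm hcop.symm hy]

lemma exists_pElement (x : N) (hx : x ∉ center N) :
    ∃ (p : ℕ) (_ : Fact p.Prime) (u : N), u ∉ center N ∧ ∃ k, orderOf u ∣ p ^ k := by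
  induction hn : orderOf x using Nat.strong_induction_on generalizing x with
  | _ n ih =>
    have hn1 : n ≠ 1 := fun e => hx (by rw [orderOf_eq_one_iff.1 (hn.trans e)]; exact one_mem _)
    obtain ⟨p, hp, hpn⟩ := Nat.exists_prime_and_dvd hn1
    have := Fact.mk hp
    obtain ⟨i, j, hij, hpi, hpj⟩ := CfsgLib.NT.MaxCent.exists_split (p := p) x
    by_cases hi : x ^ i ∈ center N
    · refine ih (orderOf (x ^ j)) ?_ (x ^ j) (fun hj => hx (hij ▸ mul_mem hi hj)) rfl
      rw [← hn] at hpn ⊢
      refine lt_of_le_of_ne (Nat.le_of_dvd (orderOf_pos x) (orderOf_dvd_of_mem_zpowers (zpow_mem_zpowers x j))) fun e => ?_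
      rw [e] at hpj
      exact (Nat.Prime.coprime_iff_not_dvd hp).1 hpj.symm hpn
    · exact ⟨p, this, _, hi, hpi⟩

/-- In a perfect `N`: the centraliser of a non-central `p`-element is the normaliser of a Sylow
`p`-subgroup centralising it, and it is abelian or a `p`-group modulo the centre. -/
lemma structure_of_perfect (h : MaxCent N) (hperf : commutator N = ⊤) {p : ℕ} [Fact p.Prime] {u : N}
    (hu : u ∉ center N) (hk : ∃ k, orderOf u ∣ p ^ k) :
    ∃ P : Sylow p N, u ∈ (P : Subgroup N) ∧ (P : Subgroup N) ≤ centralizer ({u} : Set N) ∧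
      centralizer ({u} : Set N) = normalizer ((P : Subgroup N) : Set N) ∧
      ((∀ y : N, Commute u y → (orderOf y).Coprime p → y ∈ center N) ∨
        IsMulCommutative (centralizer ({u} : Set N))) := by
  classical
  have hdich : (∀ y : N, Commute u y → (orderOf y).Coprime p → y ∈ center N) ∨
      IsMulCommutative (centralizer ({u} : Set N)) := by
    by_cases hB : ∀ y : N, Commute u y → (orderOf y).Coprime p → y ∈ center N
    · exact Or.inl hB
    push Not at hB
    obtain ⟨y, huy, hy, hyc⟩ := hB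
    obtain ⟨k, hk⟩ := hk
    have hcu : ∀ (a b : N), (∃ j, orderOf a ∣ p ^ j) → (orderOf b).Coprime p → (orderOf a).Coprime (orderOf b) :=
      fun a b ⟨j, hj⟩ hb => Nat.Coprime.coprime_dvd_left hj (Nat.Coprime.pow_left j hb.symm)
    have hC := centralizer_eq_of_coprime h huy (hcu u y ⟨k, hk⟩ hy) hu hyc
    have key : ∀ c : N, Commute c u → ((∃ j, orderOf c ∣ p ^ j) ∨ (orderOf c).Coprime p) →
        ∀ b : N, Commute b u → Commute b c := by
      intro c hc hor b hb
      by_cases hcc : c ∈ center N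
      · exact mem_center_iff.1 hcc b
      have hceq : centralizer ({(c : G)} : Set G) = centralizer ({(u : G)} : Set G) := by
        rcases hor with hp | hp
        · have hcy : Commute c y := Subtype.ext (mem_centralizer_singleton_iff.1
            (hC.ge (mem_centralizer_singleton_iff.2 (congrArg Subtype.val hc.eq) : (c : G) ∈ centralizer ({(u : G)} : Set G))))
          rw [← hC]
          exact (centralizer_eq_of_coprime h hcy (hcu c y hp hy) hcc hyc).symm
        · exact centralizer_eq_of_coprime h hc.symm (hcu u c ⟨k, hk⟩ hp) hu hcc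
      exact Subtype.ext (mem_centralizer_singleton_iff.1
        (hceq.ge (mem_centralizer_singleton_iff.2 (congrArg Subtype.val hb.eq) : (b : G) ∈ centralizer ({(u : G)} : Set G))))
    refine Or.inr ⟨⟨fun ⟨a, ha⟩ ⟨b, hb⟩ => Subtype.ext ?_⟩⟩
    have ha' : Commute a u := mem_centralizer_singleton_iff.1 ha
    have hb' : Commute b u := mem_centralizer_singleton_iff.1 hb
    obtain ⟨i, j, hij, hpi, hpj⟩ := CfsgLib.NT.MaxCent.exists_split (p := p) a
    show a * b = b * a
    rw [← hij]
    exact ((key _ (ha'.zpow_left i) (Or.inl hpi) b hb').mul_right (key _ (ha'.zpow_left j) (Or.inr hpj) b hb')).eq.symm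
  set C := centralizer ({u} : Set N) with hC
  -- `C` is nilpotent
  have hnil : Group.IsNilpotent C := by
    rcases hdich with hB | hA
    · have hq : IsPGroup p (C ⧸ (center N).subgroupOf C) := by
        intro x
        obtain ⟨c, rfl⟩ := QuotientGroup.mk_surjective x
        obtain ⟨i, j, hij, ⟨l, hl⟩, hj⟩ := CfsgLib.NT.MaxCent.exists_split (p := p) (c : N)
        refine ⟨l, ?_⟩
        rw [← QuotientGroup.mk_pow, QuotientGroup.eq_one_iff, mem_subgroupOf, coe_pow, ← hij,
          ((Commute.refl (c : N)).zpow_zpow i j).mul_pow, orderOf_dvd_iff_pow_eq_one.1 hl, one_mul]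
        exact pow_mem (hB _ ((show Commute (c : N) u from mem_centralizer_singleton_iff.1 c.2).zpow_left j).symm hj) _
      have := hq.isNilpotent
      refine Subgroup.isNilpotent_of_ker_le_center (QuotientGroup.mk' ((center N).subgroupOf C)) ?_
      rw [QuotientGroup.ker_mk']
      exact fun z hz => mem_center_iff.2 fun c => Subtype.ext (mem_center_iff.1 (mem_subgroupOf.1 hz) c)
    · have := hA
      refine Subgroup.isNilpotent_of_ker_le_center (1 : C →* Multiplicative Unit) fun z _ => mem_center_iff.2 fun c => hA.is_comm.comm c z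
  obtain ⟨S⟩ : Nonempty (Sylow p C) := inferInstance
  let _ := Sylow.unique_of_normal S inferInstance
  set P₀ := (S : Subgroup C).map C.subtype with hP₀
  have hP₀p : IsPGroup p P₀ := S.2.map _
  have hmemP : ∀ z ∈ C, (∃ k, orderOf z ∣ p ^ k) → z ∈ P₀ := by
    intro z hz ⟨k, hk⟩
    obtain ⟨j, -, hj⟩ := (Nat.dvd_prime_pow (Fact.out : p.Prime)).1 hk
    have hp : IsPGroup p (zpowers (⟨z, hz⟩ : C)) :=
      IsPGroup.of_card (n := j) (by rw [Nat.card_zpowers, Subgroup.orderOf_mk, hj])
    obtain ⟨R, hR⟩ := hp.exists_le_sylow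
    exact ⟨⟨z, hz⟩, Subsingleton.elim R S ▸ hR (mem_zpowers _), rfl⟩
  have hP₀C : P₀ ≤ C := map_subtype_le _
  have huP : u ∈ P₀ := hmemP u (mem_centralizer_singleton_iff.2 rfl) hk
  have hpel : ∀ z ∈ P₀, ∃ k, orderOf z ∣ p ^ k := fun z hz => by
    obtain ⟨k, hk⟩ := hP₀p ⟨z, hz⟩
    exact ⟨k, orderOf_dvd_of_pow_eq_one (congrArg Subtype.val hk)⟩
  set P' := P₀.map N.subtype with hP'
  set M := centralizer ({(u : G)} : Set G) with hM
  have hMle : M ≤ normalizer (P' : Set G) := by
    intro m hm
    refine CfsgLib.Coprime.mem_normalizer_of_conj_map_le ?_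
    rintro _ ⟨z, hz, rfl⟩
    have hm' : Commute m (u : G) := mem_centralizer_singleton_iff.1 hm
    have hzu : Commute (z : G) (u : G) := congrArg Subtype.val (mem_centralizer_singleton_iff.1 (hP₀C hz))
    let z' : N := ⟨m * (z : G) * m⁻¹, ‹N.Normal›.conj_mem _ z.2 m⟩
    refine ⟨z', hmemP z' ?_ ?_, rfl⟩
    · refine mem_centralizer_singleton_iff.2 (Subtype.ext ?_)
      exact ((hm'.mul_left hzu).mul_left hm'.inv_left).eq
    · obtain ⟨k, hk⟩ := hpel z hz
      refine ⟨k, ?_⟩
      rwa [← Subgroup.orderOf_coe, show ((z' : N) : G) = (MulAut.conj m) (z : G) from rfl, MulEquiv.orderOf_eq,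
        Subgroup.orderOf_coe]
  have hNM : normalizer (P' : Set G) = M := by
    rcases (h u hu).le_iff.1 hMle with e | e
    · exfalso
      have hn : P'.Normal := normalizer_eq_top_iff.1 e
      have hall : (⊤ : Subgroup N) ≤ P₀ := by
        rw [← hperf, _root_.commutator_def, Subgroup.commutator_le]
        intro a _ b _
        obtain ⟨z, hz, e'⟩ := derived_le h hn (mem_map_of_mem _ huP) hu a b
        rwa [show z = ⁅a, b⁆ from Subtype.ext (e'.trans (map_commutatorElement N.subtype a b).symm)] at hz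
      have hNp : IsPGroup p N := fun x => (hP₀p ⟨x, hall (mem_top x)⟩).imp fun k hk => congrArg Subtype.val hk
      have := hNp.isNilpotent
      have hs : ∀ k, derivedSeries N k = ⊤ := fun k => by
        induction k with
        | zero => rfl
        | succ k ih => rw [derivedSeries_succ, ih, ← _root_.commutator_def, hperf]
      obtain ⟨k, hk⟩ := (inferInstance : Group.IsSolvable N).solvable
      rw [hs k] at hk
      exact hu (by rw [show u = 1 from mem_bot.1 (hk.le (mem_top u))]; exact one_mem _)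
    · exact e
  have hNN : ∀ x : N, x ∈ normalizer (P₀ : Set N) ↔ x ∈ C := by
    intro x
    constructor
    · intro hx
      have hx' : (x : G) ∈ normalizer (P' : Set G) := CfsgLib.Coprime.mem_normalizer_of_conj_map_le (by
        rintro _ ⟨z, hz, rfl⟩
        exact ⟨x * z * x⁻¹, (mem_normalizer_iff.1 hx z).1 hz, rfl⟩)
      rw [hNM] at hx'
      exact mem_centralizer_singleton_iff.2 (Subtype.ext (mem_centralizer_singleton_iff.1 hx'))
    · intro hx
      have hx' : (x : G) ∈ normalizer (P' : Set G) := hMle (mem_centralizer_singleton_iff.2 (congrArg Subtype.val (mem_centralizer_singleton_iff.1 hx)))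
      refine mem_normalizer_iff.2 fun z => ?_
      have h1 := mem_normalizer_iff.1 hx' (z : G)
      rw [show (x : G) * (z : G) * (x : G)⁻¹ = ((x * z * x⁻¹ : N) : G) from rfl] at h1
      rwa [hP', ← coe_subtype, mem_map_iff_mem N.subtype_injective, mem_map_iff_mem N.subtype_injective] at h1
  obtain ⟨P, hP⟩ := hP₀p.exists_le_sylow
  have hPP : P₀ = (P : Subgroup N) := by
    rcases hP.eq_or_lt with e | e
    · exact e
    · refine absurd (fun x hx => ?_) (CfsgLib.Coprime.lt_normalizer_inf_of_lt P.isPGroup' e).not_ge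
      obtain ⟨hxP, hxN⟩ := mem_inf.1 hx
      obtain ⟨k, hk⟩ := P.isPGroup' ⟨x, hxP⟩
      exact hmemP x ((hNN x).1 hxN) ⟨k, orderOf_dvd_of_pow_eq_one (congrArg Subtype.val hk)⟩
  exact ⟨P, hPP ▸ huP, hPP ▸ hP₀C, le_antisymm (fun x hx => hPP ▸ (hNN x).2 hx) (fun x hx => (hNN x).1 (hPP.symm ▸ hx)), hdich⟩

/-- A perfect `N` in this situation is abelian. -/
theorem center_eq_top_of_perfect (h : MaxCent N) (hperf : commutator N = ⊤) : center N = ⊤ := by
  classical
  by_contra hne
  -- no Sylow subgroup lies in the centre of its normaliser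
  have hburn : ∀ (p : ℕ) [Fact p.Prime] (P : Sylow p N), (P : Subgroup N) ≠ ⊥ →
      ¬ normalizer ((P : Subgroup N) : Set N) ≤ centralizer ((P : Subgroup N) : Set N) := by
    intro p _ P hP hle
    have hcompl := MonoidHom.ker_transferSylow_isComplement' P hle
    have hcomm : ∀ a b : (P : Subgroup N), a * b = b * a := fun a b => Subtype.ext
      (mem_centralizer_iff.1 (hle (le_normalizer a.2)) b b.2).symm
    have hker : (MonoidHom.transferSylow P hle).ker = ⊤ := by
      refine top_le_iff.1 ?_
      rw [← hperf, _root_.commutator_def, Subgroup.commutator_le]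
      intro a _ b _
      rw [MonoidHom.mem_ker, map_commutatorElement, commutatorElement_eq_one_iff_commute]
      exact hcomm _ _
    rw [hker, isComplement'_top_left] at hcompl
    exact hP hcompl
  -- every non-central element lies in the centre of a Sylow subgroup modulo the centre
  let A : (q : Σ p : (Nat.card N).primeFactors, Sylow (p : ℕ) N) → Subgroup N := fun q =>
    ((q.2 : Subgroup N) ⊓ centralizer ((q.2 : Subgroup N) : Set N)) ⊔ center N
  have hcover : ∀ x : N, x ∉ center N → ∃ q, x ∈ A q ∧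
      (normalizer ((q.2 : Subgroup N) : Set N) = (q.2 : Subgroup N) ⊔ center N) ∧
      ¬ IsMulCommutative (q.2 : Subgroup N) := by
    intro x hx
    obtain ⟨p, hp, u', hu', hk'⟩ := exists_pElement x hx
    -- the prime must be one with non-central part in `x`
    have hex : ∃ (p : ℕ) (_ : Fact p.Prime) (i j : ℤ), x ^ i * x ^ j = x ∧ (∃ k, orderOf (x ^ i) ∣ p ^ k) ∧
        (orderOf (x ^ j)).Coprime p ∧ x ^ i ∉ center N := by
      clear hu' hk' u'
      induction hn : orderOf x using Nat.strong_induction_on generalizing x with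
      | _ n ih =>
        have hn1 : n ≠ 1 := fun e => hx (by rw [orderOf_eq_one_iff.1 (hn.trans e)]; exact one_mem _)
        obtain ⟨p, hp, hpn⟩ := Nat.exists_prime_and_dvd hn1
        have := Fact.mk hp
        obtain ⟨i, j, hij, hpi, hpj⟩ := CfsgLib.NT.MaxCent.exists_split (p := p) x
        by_cases hi : x ^ i ∈ center N
        · have hlt : orderOf (x ^ j) < n := by
            rw [← hn] at hpn ⊢
            refine lt_of_le_of_ne (Nat.le_of_dvd (orderOf_pos x) (orderOf_dvd_of_mem_zpowers (zpow_mem_zpowers x j))) fun e => ?_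
            rw [e] at hpj
            exact (Nat.Prime.coprime_iff_not_dvd hp).1 hpj.symm hpn
          obtain ⟨q, hq, i', j', hij', hqi, hqj, hqi'⟩ := ih _ hlt (x ^ j) (fun hj => hx (hij ▸ mul_mem hi hj)) rfl
          obtain ⟨i₂, j₂, h2, h2i, h2j⟩ := CfsgLib.NT.MaxCent.exists_split (p := q) x
          refine ⟨q, hq, i₂, j₂, h2, h2i, h2j, fun hz => hqi' ?_⟩
          -- the `q`-part of `x ^ j` is a power of the `q`-part of `x`
          have hsplit : (x ^ j) ^ i' = (x ^ i₂) ^ (j * i') * (x ^ j₂) ^ (j * i') := by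
            rw [← ((Commute.refl x).zpow_zpow i₂ j₂).mul_zpow, h2, zpow_mul]
          have hone : (x ^ j₂) ^ (j * i') = 1 := by
            rw [← orderOf_eq_one_iff]
            obtain ⟨k, hk⟩ := hqi
            obtain ⟨k₂, hk₂⟩ := h2i
            refine Nat.eq_one_of_dvd_coprimes ((h2j.pow_right (k + k₂)).symm) ?_
              (orderOf_dvd_of_mem_zpowers (zpow_mem_zpowers _ _))
            have e : (x ^ j₂) ^ (j * i') = ((x ^ i₂) ^ (j * i'))⁻¹ * (x ^ j) ^ i' := by rw [hsplit, inv_mul_cancel_left]
            rw [e]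
            refine (Commute.orderOf_mul_dvd_mul_orderOf ?_).trans ?_
            · exact (((Commute.refl x).zpow_zpow _ _).zpow_zpow _ _).inv_left
            rw [orderOf_inv, add_comm, pow_add]
            exact Nat.mul_dvd_mul ((orderOf_dvd_of_mem_zpowers (zpow_mem_zpowers _ _)).trans hk₂) hk
          rw [hsplit, hone, mul_one]
          exact zpow_mem hz _
        · exact ⟨p, this, i, j, hij, hpi, hpj, hi⟩
    obtain ⟨p, hp, i, j, hij, hpi, hpj, hi⟩ := hex
    obtain ⟨P, hiP, hPC, hCN, hd⟩ := structure_of_perfect h hperf hi hpi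
    have hPne : (P : Subgroup N) ≠ ⊥ := fun e => hi (by rw [mem_bot.1 (e.le hiP)]; exact one_mem _)
    rcases hd with hB | hA
    swap
    · refine absurd ?_ (hburn p P hPne)
      intro n hn
      rw [← hCN] at hn
      exact mem_centralizer_iff.2 fun z hz =>
        congrArg Subtype.val (hA.is_comm.comm (⟨z, hPC hz⟩ : centralizer ({x ^ i} : Set N)) ⟨n, hn⟩)
    have hnorm : normalizer ((P : Subgroup N) : Set N) = (P : Subgroup N) ⊔ center N := by
      refine le_antisymm (fun n hn => ?_) (sup_le le_normalizer (center_le_normalizer _))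
      rw [← hCN] at hn
      have hn' : Commute n (x ^ i) := mem_centralizer_singleton_iff.1 hn
      obtain ⟨a, b, hab, hpa, hpb⟩ := CfsgLib.NT.MaxCent.exists_split (p := p) n
      rw [← hab]
      refine mul_mem_sup ?_ (hB _ (hn'.zpow_left b).symm hpb)
      have hnN : n ∈ normalizer ((P : Subgroup N) : Set N) := hCN ▸ hn
      obtain ⟨k, hk⟩ := hpa
      obtain ⟨l, -, hl⟩ := (Nat.dvd_prime_pow hp.out).1 hk
      have hz : IsPGroup p (zpowers (n ^ a)) := IsPGroup.of_card (n := l) (by rw [Nat.card_zpowers, hl])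
      exact P.3 (IsPGroup.to_sup_of_normal_left' P.2 hz (zpowers_le.2 (zpow_mem hnN a))) le_sup_left ▸
        mem_sup_right (mem_zpowers _)
    have hPdvd : p ∣ Nat.card N := by
      obtain ⟨k, hk⟩ := IsPGroup.iff_card.1 P.2
      refine dvd_trans ?_ (hk ▸ card_subgroup_dvd_card (P : Subgroup N))
      exact dvd_pow_self p fun e => hPne (card_eq_one.1 (by rw [hk, e, pow_zero]))
    refine ⟨⟨⟨p, Nat.mem_primeFactors.2 ⟨hp.out, hPdvd, Nat.card_pos.ne'⟩⟩, P⟩, ?_, hnorm, fun hc => ?_⟩
    · rw [← hij]
      refine mul_mem_sup ⟨hiP, mem_centralizer_iff.2 fun z hz => mem_centralizer_singleton_iff.1 (hPC hz)⟩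
        (hB _ ((Commute.refl x).zpow_zpow i j) hpj)
    · refine absurd ?_ (hburn p P hPne)
      rw [hnorm]
      exact sup_le (fun a ha => mem_centralizer_iff.2 fun b hb =>
        congrArg Subtype.val (hc.is_comm.comm (⟨b, hb⟩ : (P : Subgroup N)) ⟨a, ha⟩)) (center_le_centralizer _)
  -- counting
  let good := fun q : Σ p : (Nat.card N).primeFactors, Sylow (p : ℕ) N =>
    (normalizer ((q.2 : Subgroup N) : Set N) = (q.2 : Subgroup N) ⊔ center N) ∧ ¬ IsMulCommutative (q.2 : Subgroup N)
  let _ : Fintype N := Fintype.ofFinite _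
  let _ : ∀ p : (Nat.card N).primeFactors, Fintype (Sylow (p : ℕ) N) := fun p => Fintype.ofFinite _
  let Aset := fun q : Σ p : (Nat.card N).primeFactors, Sylow (p : ℕ) N =>
    if good q then Finset.univ.filter (fun x : N => x ∈ A q) else ∅
  have hsub : (Finset.univ.filter fun x : N => x ∉ center N) ⊆ Finset.univ.biUnion Aset := by
    intro x hx
    obtain ⟨q, hq, hg⟩ := hcover x (Finset.mem_filter.1 hx).2
    exact Finset.mem_biUnion.2 ⟨q, Finset.mem_univ q, by
      show x ∈ ite _ _ _; rw [if_pos hg]; exact Finset.mem_filter.2 ⟨Finset.mem_univ x, hq⟩⟩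
  have hper : ∀ p : (Nat.card N).primeFactors,
      ((p : ℕ) : ℚ) ^ 2 * (∑ P : Sylow (p : ℕ) N, ((Aset ⟨p, P⟩).card : ℚ)) ≤ Nat.card N := by
    intro p
    have := Fact.mk (Nat.prime_of_mem_primeFactors p.2)
    have hP : ∀ P : Sylow (p : ℕ) N, (p : ℕ) ^ 2 * (Aset ⟨p, P⟩).card * Nat.card (Sylow (p : ℕ) N) ≤ Nat.card N := by
      intro P
      by_cases hg : good ⟨p, P⟩
      swap
      · simp [Aset, if_neg hg]
      obtain ⟨hnorm, hnc⟩ := hg
      have hnorm' : normalizer ((P : Subgroup N) : Set N) = (P : Subgroup N) ⊔ center N := hnorm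
      have hcard : (Aset ⟨p, P⟩).card = Nat.card (A ⟨p, P⟩) := by
        show Finset.card (ite _ _ _) = _
        rw [if_pos (show good ⟨p, P⟩ from ⟨hnorm, hnc⟩), Nat.card_eq_fintype_card (α := A ⟨p, P⟩), Fintype.card_subtype]
      rw [hcard, Sylow.card_eq_index_normalizer P]
      erw [hnorm']
      refine le_of_le_of_eq (Nat.mul_le_mul_right _ ?_) (card_mul_index ((P : Subgroup N) ⊔ center N))
      -- the index of `Z(P)` in `P`
      set P' := (P : Subgroup N) with hP'
      have hA : A ⟨p, P⟩ = (P' ⊓ centralizer (P' : Set N)) ⊔ center N := rfl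
      have hle : A ⟨p, P⟩ ≤ P' ⊔ center N := sup_le_sup_right inf_le_left _
      have hinter : P' ⊓ A ⟨p, P⟩ = P' ⊓ centralizer (P' : Set N) := le_antisymm
        (le_inf inf_le_left (inf_le_right.trans (hA ▸ sup_le inf_le_right (center_le_centralizer _))))
        (le_inf inf_le_left (hA ▸ le_sup_left))
      have hidx : (p : ℕ) ^ 2 ≤ (A ⟨p, P⟩).relIndex (P' ⊔ center N) := by
        have h1 : (A ⟨p, P⟩).relIndex P' ≤ (A ⟨p, P⟩).relIndex (P' ⊔ center N) :=
          relIndex_le_of_le_right le_sup_left index_ne_zero_of_finite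
        refine le_trans ?_ h1
        have hid : (A ⟨p, P⟩).relIndex P' = (center P').index := by
          rw [← inf_relIndex_right, inf_comm, hinter, relIndex]
          congr 1
          ext z
          simp only [mem_subgroupOf, mem_inf, SetLike.coe_mem, true_and, mem_centralizer_iff, mem_center_iff]
          exact ⟨fun e y => Subtype.ext (e y y.2), fun e y hy => congrArg Subtype.val (e ⟨y, hy⟩)⟩
        rw [hid]
        obtain ⟨k, hk⟩ := IsPGroup.iff_card.1 P.2
        obtain ⟨j, -, hj⟩ := (Nat.dvd_prime_pow (Fact.out : (p : ℕ).Prime)).1 (hk ▸ index_dvd_card (center P'))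
        rw [hj]
        refine Nat.pow_le_pow_right (Fact.out : (p : ℕ).Prime).pos ?_
        by_contra hlt
        refine hnc ⟨⟨fun a b => ?_⟩⟩
        rcases (show j = 0 ∨ j = 1 by omega) with rfl | rfl
        · exact mem_center_iff.1 ((index_eq_one.1 (hj.trans (pow_zero _))).ge (mem_top b)) a
        · have : IsCyclic (P' ⧸ center P') := isCyclic_of_prime_card (p := (p : ℕ)) (by rw [← index_eq_card, hj, pow_one])
          exact commutative_of_cyclic_center_quotient (QuotientGroup.mk' (center P')) (QuotientGroup.ker_mk' _).le a b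
      calc (p : ℕ) ^ 2 * Nat.card (A ⟨p, P⟩) ≤ (A ⟨p, P⟩).relIndex (P' ⊔ center N) * Nat.card (A ⟨p, P⟩) :=
            Nat.mul_le_mul_right _ hidx
        _ = Nat.card (P' ⊔ center N : Subgroup N) := by
            rw [relIndex, mul_comm, ← Nat.card_congr (subgroupOfEquivOfLe hle).toEquiv, card_mul_index]
    have hn : (0 : ℚ) < Nat.card (Sylow (p : ℕ) N) := by exact_mod_cast Nat.card_pos
    rw [Finset.mul_sum]
    calc (∑ P : Sylow (p : ℕ) N, ((p : ℕ) : ℚ) ^ 2 * ((Aset ⟨p, P⟩).card : ℚ))
        ≤ ∑ _P : Sylow (p : ℕ) N, (Nat.card N : ℚ) / Nat.card (Sylow (p : ℕ) N) := by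
          refine Finset.sum_le_sum fun P _ => ?_
          rw [le_div_iff₀ hn]
          exact_mod_cast hP P
      _ = (Nat.card N : ℚ) := by
          rw [Finset.sum_const, Finset.card_univ, nsmul_eq_mul, Nat.card_eq_fintype_card (α := Sylow (p : ℕ) N)]
          field_simp
  have hsum : ((Finset.univ.filter fun x : N => x ∉ center N).card : ℚ) ≤
      (Nat.card N : ℚ) * ∑ p ∈ (Nat.card N).primeFactors, 1 / (p : ℚ) ^ 2 := by
    calc ((Finset.univ.filter fun x : N => x ∉ center N).card : ℚ)
        ≤ ((∑ q, (Aset q).card : ℕ) : ℚ) := by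
          exact_mod_cast (Finset.card_le_card hsub).trans Finset.card_biUnion_le
      _ = ∑ p : (Nat.card N).primeFactors, ∑ P : Sylow (p : ℕ) N, ((Aset ⟨p, P⟩).card : ℚ) := by
          push_cast; rw [Fintype.sum_sigma]
      _ ≤ ∑ p : (Nat.card N).primeFactors, (Nat.card N : ℚ) * (1 / ((p : ℕ) : ℚ) ^ 2) := by
          refine Finset.sum_le_sum fun p _ => ?_
          have hp0 : (0 : ℚ) < ((p : ℕ) : ℚ) ^ 2 := pow_pos (by exact_mod_cast (Nat.prime_of_mem_primeFactors p.2).pos) 2
          rw [mul_one_div, le_div_iff₀ hp0, mul_comm]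
          exact hper p
      _ = _ := by
          rw [Finset.mul_sum, Finset.univ_eq_attach, Finset.sum_attach (f := fun p : ℕ => (Nat.card N : ℚ) * (1 / (p : ℚ) ^ 2))]
  have hbound : ∀ m : ℕ, 2 ≤ m → ∑ k ∈ Finset.Icc 2 m, 1 / (k : ℚ) ^ 2 ≤ (3 : ℚ) / 4 - 1 / (m : ℚ) := by
    intro m hm
    induction m, hm using Nat.le_induction with
    | base => norm_num
    | succ m hm ih =>
      rw [Finset.sum_Icc_succ_top (by omega)]
      have hm0 : (0 : ℚ) < m := by exact_mod_cast (by omega : 0 < m)
      have h1 : 1 / ((m + 1 : ℕ) : ℚ) ^ 2 ≤ 1 / m - 1 / ((m + 1 : ℕ) : ℚ) := by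
        push_cast
        rw [div_sub_div _ _ hm0.ne' (by positivity), div_le_div_iff₀ (by positivity) (by positivity)]
        nlinarith
      linarith
  have h4 : 4 * Nat.card (center N) ≤ Nat.card N := by
    have hidx : 4 ≤ (center N).index := by
      by_contra hlt
      have h1 : (center N).index ≠ 1 := fun e => hne (index_eq_one.1 e)
      have h0 : (center N).index ≠ 0 := index_ne_zero_of_finite
      have hpr : (center N).index.Prime := by
        rcases (show (center N).index = 2 ∨ (center N).index = 3 by omega) with e | e <;> rw [e] <;> norm_num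
      have := Fact.mk hpr
      have : IsCyclic (N ⧸ center N) := isCyclic_of_prime_card (p := (center N).index) (index_eq_card _).symm
      have hc := commutative_of_cyclic_center_quotient (QuotientGroup.mk' (center N)) (QuotientGroup.ker_mk' _).le
      exact hne (eq_top_iff.2 fun x _ => mem_center_iff.2 fun y => hc y x)
    calc 4 * Nat.card (center N) ≤ (center N).index * Nat.card (center N) := Nat.mul_le_mul_right _ hidx
      _ = Nat.card N := index_mul_card _
  have hcardT : (Finset.univ.filter fun x : N => x ∉ center N).card + Nat.card (center N) = Nat.card N := by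
    rw [Nat.card_eq_fintype_card (α := center N), Fintype.card_subtype, Nat.card_eq_fintype_card,
      add_comm, Finset.card_filter_add_card_filter_not, Finset.card_univ]
  have hN2 : 2 ≤ Nat.card N := by have := Nat.card_pos (α := center N); omega
  have hs : ∑ p ∈ (Nat.card N).primeFactors, 1 / (p : ℚ) ^ 2 ≤ 3 / 4 - 1 / (Nat.card N : ℚ) := by
    refine le_trans (Finset.sum_le_sum_of_subset_of_nonneg (fun p hp => ?_) fun _ _ _ => by positivity) (hbound _ hN2)
    have := Nat.prime_of_mem_primeFactors hp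
    exact Finset.mem_Icc.2 ⟨this.two_le, Nat.le_of_dvd (by omega) (Nat.dvd_of_mem_primeFactors hp)⟩
  have hN0 : (0 : ℚ) < Nat.card N := by exact_mod_cast Nat.card_pos
  have h5 := hsum.trans (mul_le_mul_of_nonneg_left hs hN0.le)
  rw [mul_sub, mul_one_div, div_self hN0.ne'] at h5
  have hT : ((Finset.univ.filter fun x : N => x ∉ center N).card : ℚ) + Nat.card (center N) = Nat.card N := by
    exact_mod_cast hcardT
  have h4' : 4 * (Nat.card (center N) : ℚ) ≤ Nat.card N := by exact_mod_cast h4
  linarith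

end CfsgLib.Coprime.NormalMaxCent
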