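import Mathlib.LinearAlgebra.Dimension.Free
import Mathlib.LinearAlgebra.FiniteDimensional.Lemmas
import Mathlib.LinearAlgebra.FreeModule.Finite.Matrix
import Mathlib.GroupTheory.GroupAction.Quotient
import Mathlib.GroupTheory.GroupAction.Primitive
import Mathlib.GroupTheory.Solvable
import Mathlib.GroupTheory.Perm.Basic
import Cfsg.Agent.Lib.Coprime.SchurZassenhaus

/-!
Counting fixed vectors through orbits: the commutant of a non-trivial operator is larger than the
square of its fixed space, an operator permuting the summands of a decomposition fixes at most one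
summand per orbit, and an element of prime order generating a solvable group normally fixes at most
a `1/p` of the points of a transitive action.
-/

set_option autoImplicit false

namespace CfsgLib.Coprime.OrbitCount

open Subgroup

section Commutant

variable {k V : Type*} [Field k] [AddCommGroup V] [Module k V] [FiniteDimensional k V]

/-- The square of the fixed space is less than the dimension of the commutant. -/
theorem sq_lt_commutant {T : Module.End k V} (hT : T ≠ 1) :
    Module.finrank k (LinearMap.ker (T - 1)) ^ 2 <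
      Module.finrank k (LinearMap.ker (LinearMap.mulLeft k T - LinearMap.mulRight k T)) := by
  set N : Module.End k V := T - 1 with hN
  set I := LinearMap.range N with hI
  set C := LinearMap.ker (LinearMap.mulLeft k T - LinearMap.mulRight k T) with hC
  let j : ((V ⧸ I) →ₗ[k] LinearMap.ker N) →ₗ[k] Module.End k V :=
    { toFun := fun S => (LinearMap.ker N).subtype ∘ₗ S ∘ₗ I.mkQ
      map_add' := fun S S' => by ext; simp
      map_smul' := fun c S => by ext; simp }
  have hj : Function.Injective j := by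
    intro S S' h
    refine LinearMap.ext fun q => ?_
    obtain ⟨v, rfl⟩ := I.mkQ_surjective q
    exact Subtype.ext (LinearMap.congr_fun h v)
  have hrange : LinearMap.range j ≤ C := by
    rintro _ ⟨S, rfl⟩
    rw [hC, LinearMap.mem_ker, LinearMap.sub_apply, sub_eq_zero, LinearMap.mulLeft_apply,
      LinearMap.mulRight_apply]
    refine LinearMap.ext fun v => ?_
    show T ((S (I.mkQ v) : LinearMap.ker N) : V) = ((S (I.mkQ (T v)) : LinearMap.ker N) : V)
    have h1 : T ((S (I.mkQ v) : LinearMap.ker N) : V) = ((S (I.mkQ v) : LinearMap.ker N) : V) :=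
      sub_eq_zero.1 (LinearMap.mem_ker.1 (S (I.mkQ v)).2)
    have h2 : I.mkQ (T v) = I.mkQ v := by
      rw [Submodule.mkQ_apply, Submodule.mkQ_apply, Submodule.Quotient.eq]
      exact ⟨v, by rw [hN, LinearMap.sub_apply, Module.End.one_apply]⟩
    rw [h2]
    exact h1
  have hone : (1 : Module.End k V) ∈ C := by
    rw [hC, LinearMap.mem_ker, LinearMap.sub_apply, sub_eq_zero, LinearMap.mulLeft_apply,
      LinearMap.mulRight_apply, one_mul, mul_one]
  have hnot : (1 : Module.End k V) ∉ LinearMap.range j := by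
    rintro ⟨S, hS⟩
    refine hT (sub_eq_zero.1 (LinearMap.ext fun v => ?_))
    show N v = 0
    have h := LinearMap.congr_fun hS (N v)
    have h0 : I.mkQ (N v) = 0 :=
      (Submodule.Quotient.mk_eq_zero I).2 (LinearMap.mem_range_self N v)
    change ((S (I.mkQ (N v)) : LinearMap.ker N) : V) = N v at h
    rw [h0, map_zero] at h
    exact h.symm
  have hlt : LinearMap.range j < C := lt_of_le_of_ne hrange fun e => hnot (e ▸ hone)
  refine lt_of_eq_of_lt ?_ (Submodule.finrank_lt_finrank_of_lt hlt)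
  rw [LinearMap.finrank_range_of_inj hj, Module.finrank_linearMap, pow_two]
  have h1 := I.finrank_quotient_add_finrank
  have h2 := N.finrank_range_add_finrank_ker
  rw [show Module.finrank k (V ⧸ I) = Module.finrank k (LinearMap.ker N) by rw [← hI] at h2; omega]

/-- An operator permuting projections fixes at most one summand per orbit. -/
theorem fixed_le {Ω : Type*} [Fintype Ω] (R : Finset Ω) (σ : Ω → Ω)
    (hR : ∀ u, ∃ r ∈ R, ∃ i : ℕ, σ^[i] r = u) (T : Module.End k V) (π : Ω → Module.End k V)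
    {c : k} (hc : c ≠ 0) (hsum : ∀ v, ∑ u, π u v = c • v)
    (heq : ∀ u v, π (σ u) (T v) = T (π u v)) {b : ℕ}
    (hb : ∀ u, Module.finrank k (LinearMap.range (π u)) ≤ b) :
    Module.finrank k (LinearMap.ker (T - 1)) ≤ R.card * b := by
  let Φ : LinearMap.ker (T - 1) →ₗ[k] ((r : R) → LinearMap.range (π r)) :=
    LinearMap.pi fun r => (π r).rangeRestrict ∘ₗ (LinearMap.ker (T - 1)).subtype
  have hΦ : Function.Injective Φ := by
    refine (injective_iff_map_eq_zero Φ).2 fun v hv => Subtype.ext ?_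
    have hfix : T v = v := by
      have := v.2
      rwa [LinearMap.mem_ker, LinearMap.sub_apply, sub_eq_zero] at this
    have hz : ∀ u, π u v = 0 := by
      intro u
      obtain ⟨r, hr, i, rfl⟩ := hR u
      induction i with
      | zero => exact congrArg Subtype.val (congrFun hv ⟨r, hr⟩)
      | succ i ih =>
        rw [Function.iterate_succ_apply']
        have h := heq (σ^[i] r) v
        rw [hfix] at h
        rw [h, ih, map_zero]
    have h := hsum v
    rw [Finset.sum_eq_zero fun u _ => hz u, eq_comm, smul_eq_zero] at h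
    exact h.resolve_left hc
  refine (LinearMap.finrank_le_finrank_of_injective hΦ).trans ?_
  rw [Module.finrank_pi_fintype]
  refine (Finset.sum_le_card_nsmul _ _ b fun (r : R) _ => hb r).trans ?_
  simp

end Commutant

/-- Orbit representatives of a permutation of prime order. -/
theorem exists_orbit_reps {Ω : Type*} [Fintype Ω] {p : ℕ} [hp : Fact p.Prime] (σ : Equiv.Perm Ω)
    (hσ : σ ^ p = 1) :
    ∃ R : Finset Ω, (∀ u, ∃ r ∈ R, ∃ i : ℕ, (⇑σ)^[i] r = u) ∧
      p * R.card ≤ Nat.card Ω + (p - 1) * Nat.card {u : Ω // σ u = u} := by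
  classical
  by_cases h1 : σ = 1
  · subst h1
    refine ⟨Finset.univ, fun u => ⟨u, Finset.mem_univ u, 0, rfl⟩, ?_⟩
    have h : Nat.card {u : Ω // (1 : Equiv.Perm Ω) u = u} = Nat.card Ω :=
      Nat.card_congr (Equiv.subtypeUnivEquiv fun u => rfl)
    rw [h, Finset.card_univ, ← Nat.card_eq_fintype_card]
    have := hp.out.one_le
    rw [← one_add_mul, Nat.add_sub_cancel' this]
  set P := zpowers σ with hP
  have hord : orderOf σ = p := orderOf_eq_prime hσ h1
  haveI : Fintype P := Fintype.ofFinite _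
  let O := Quotient (MulAction.orbitRel P Ω)
  haveI : Fintype O := Fintype.ofFinite _
  refine ⟨Finset.univ.image (Quotient.out : O → Ω), fun u => ?_, ?_⟩
  · set q : O := Quotient.mk _ u
    have h : MulAction.orbitRel P Ω u q.out := Quotient.exact (Quotient.out_eq q).symm
    obtain ⟨⟨g, hg⟩, e⟩ := MulAction.mem_orbit_iff.1 h
    obtain ⟨i, rfl⟩ := mem_powers_iff_mem_zpowers.2 hg
    exact ⟨q.out, Finset.mem_image_of_mem _ (Finset.mem_univ q), i, by
      rw [← Equiv.Perm.coe_pow]; exact e⟩
  · have hb := MulAction.sum_card_fixedBy_eq_card_orbits_mul_card_group P Ω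
    have hcard : Fintype.card P = p := by rw [← Nat.card_eq_fintype_card, Nat.card_zpowers, hord]
    have hfix : ∀ g : P, g ≠ 1 →
        Fintype.card (MulAction.fixedBy Ω g) ≤ Nat.card {u : Ω // σ u = u} := by
      intro g hg
      rw [← Nat.card_eq_fintype_card]
      refine Nat.card_le_card_of_injective
        (fun u => (⟨u.1, ?_⟩ : {u : Ω // σ u = u})) fun u v e =>
          Subtype.ext (Subtype.mk.inj e)
      have hmem : σ ∈ zpowers (g : Equiv.Perm Ω) := by
        have hle : zpowers (g : Equiv.Perm Ω) ≤ P := zpowers_le.2 g.2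
        have hg' : orderOf (g : Equiv.Perm Ω) = p := by
          refine orderOf_eq_prime ?_ (fun e => hg (Subtype.ext e))
          obtain ⟨j, hj⟩ := g.2
          rw [← hj, ← zpow_natCast, ← zpow_mul, mul_comm, zpow_mul, zpow_natCast, hσ, one_zpow]
        rw [eq_of_le_of_card_ge hle (by rw [Nat.card_zpowers, Nat.card_zpowers, hg', hord])]
        exact mem_zpowers σ
      have hst : zpowers (g : Equiv.Perm Ω) ≤ MulAction.stabilizer (Equiv.Perm Ω) (u : Ω) :=
        zpowers_le.2 u.2
      exact hst hmem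
    rw [← Finset.add_sum_erase _ _ (Finset.mem_univ (1 : P)), hcard] at hb
    have h0 : Fintype.card (MulAction.fixedBy Ω (1 : P)) = Nat.card Ω := by
      rw [← Nat.card_eq_fintype_card]
      exact Nat.card_congr (Equiv.subtypeUnivEquiv fun u => one_smul P u)
    have h2 := (Finset.sum_le_card_nsmul (Finset.univ.erase (1 : P)) _ _
      fun g hg => hfix g (Finset.ne_of_mem_erase hg))
    rw [Finset.card_erase_of_mem (Finset.mem_univ _), Finset.card_univ, hcard, smul_eq_mul] at h2
    have h3 : (Finset.univ.image (Quotient.out : O → Ω)).card = Fintype.card O := by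
      rw [Finset.card_image_of_injective _ Quotient.out_injective, Finset.card_univ]
    rw [h3, mul_comm, ← hb, h0]
    omega

/-- Fixed points of an element of prime order in a transitive action of a solvable group. -/
theorem card_fixed_le {G : Type*} [Group G] [Finite G] [Group.IsSolvable G] {Ω : Type*}
    [MulAction G Ω] [Finite Ω] [Nontrivial Ω] [MulAction.IsPretransitive G Ω] {p : ℕ}
    [hp : Fact p.Prime] {x : G} (hx : x ^ p = 1) (hgen : normalClosure ({x} : Set G) = ⊤) :
    p * Nat.card {u : Ω // x • u = u} ≤ Nat.card Ω := by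
  classical
  by_cases hF : ∃ a : Ω, x • a = a
  swap
  · push Not at hF
    haveI : IsEmpty {u : Ω // x • u = u} := ⟨fun u => hF u u.2⟩
    simp
  obtain ⟨a, ha⟩ := hF
  set H := MulAction.stabilizer G a with hH
  have hHne : H ≠ ⊤ := by
    intro h
    obtain ⟨b, hb⟩ := exists_ne a
    obtain ⟨g, hg⟩ := MulAction.exists_smul_eq G a b
    exact hb (hg.symm.trans (MulAction.mem_stabilizer_iff.1 (h ▸ mem_top g : g ∈ H)))
  obtain ⟨M, hM, hHM⟩ := (eq_top_or_exists_le_coatom H).resolve_left hHne
  have hxM : x ∈ M := hHM ha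
  set K := M.normalCore with hK
  have hKM : K ≤ M := normalCore_le M
  obtain ⟨n, hn⟩ := (Group.isSolvable_def G).1 inferInstance
  have hex : ∃ j, derivedSeries G j ≤ K := ⟨n, by rw [hn]; exact bot_le⟩
  obtain ⟨j, hj⟩ : ∃ j, Nat.find hex = j + 1 := Nat.exists_eq_succ_of_ne_zero fun h => by
    have h1 := Nat.find_spec hex
    rw [h, derivedSeries_zero] at h1
    exact hM.1 (top_le_iff.1 (h1.trans hKM))
  set N := derivedSeries G j with hN
  have hNK : ¬ N ≤ K := Nat.find_min hex (by omega)
  have hN' : ⁅N, N⁆ ≤ K := by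
    have h1 := Nat.find_spec hex
    rwa [hj, derivedSeries_succ] at h1
  have hNM : ¬ N ≤ M := fun h => hNK ((normal_le_normalCore).2 h)
  have hsup : N ⊔ M = ⊤ := hM.2 _ (lt_of_le_of_ne le_sup_right fun e => hNM (e ▸ le_sup_left))
  set f := QuotientGroup.mk' K with hf
  set A := N.map f with hA
  set Mb := M.map f with hMb
  haveI : A.Normal := Normal.map inferInstance f (QuotientGroup.mk'_surjective K)
  have hAM : A ⊔ Mb = ⊤ := by
    rw [hA, hMb, ← Subgroup.map_sup, hsup, map_top_of_surjective f (QuotientGroup.mk'_surjective K)]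
  have hAc : ∀ y ∈ A, ∀ z ∈ A, Commute y z := by
    rintro _ ⟨y, hy, rfl⟩ _ ⟨z, hz, rfl⟩
    show f y * f z = f z * f y
    rw [← commutatorElement_eq_one_iff_mul_comm, ← map_commutatorElement]
    exact (QuotientGroup.eq_one_iff _).2 (hN' (commutator_mem_commutator hy hz))
  have hcore : ∀ g : G, f g ∈ Mb → g ∈ M := by
    rintro g ⟨m, hm, e⟩
    have := mul_mem hm (hKM (QuotientGroup.eq.1 e))
    simpa using this
  have hinf : A ⊓ Mb = ⊥ := by
    have hnorm : (A ⊓ Mb).Normal := by
      refine ⟨fun y hy g => ?_⟩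
      obtain ⟨u, hu, m, hm, rfl⟩ := mem_sup_of_normal_left.1 (hAM ▸ mem_top g)
      have hy' : m * y * m⁻¹ ∈ A ⊓ Mb :=
        mem_inf.2 ⟨(inferInstance : A.Normal).conj_mem y (mem_inf.1 hy).1 m,
          mul_mem (mul_mem hm (mem_inf.1 hy).2) (inv_mem hm)⟩
      rw [show u * m * y * (u * m)⁻¹ = u * (m * y * m⁻¹) * u⁻¹ by group,
        (hAc u hu _ (mem_inf.1 hy').1).eq, mul_inv_cancel_right]
      exact hy'
    refine eq_bot_iff.2 fun y hy => ?_
    obtain ⟨g, rfl⟩ := QuotientGroup.mk'_surjective K y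
    refine Subgroup.mem_bot.2 ((QuotientGroup.eq_one_iff g).2 ?_)
    intro c
    refine hcore _ (mem_inf.1 (show f (c * g * c⁻¹) ∈ A ⊓ Mb from ?_)).2
    rw [map_mul, map_mul, map_inv]
    exact hnorm.conj_mem _ hy _
  -- the map to the cosets of `Mb`
  choose gf hgf using fun ω : Ω => MulAction.exists_smul_eq G a ω
  let F : Ω → (G ⧸ K) ⧸ Mb := fun ω => QuotientGroup.mk (f (gf ω))
  have hFeq : ∀ (g : G) (ω : Ω), F (g • ω) = f g • F ω := by
    intro g ω
    show (QuotientGroup.mk (f (gf (g • ω))) : (G ⧸ K) ⧸ Mb) = QuotientGroup.mk (f g * f (gf ω))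
    rw [QuotientGroup.eq, ← map_mul, ← map_inv, ← map_mul]
    refine mem_map_of_mem f (hHM ?_)
    rw [hH, MulAction.mem_stabilizer_iff, mul_smul, mul_smul, hgf, inv_smul_eq_iff, hgf]
  haveI := Fintype.ofFinite Ω
  haveI : Fintype ((G ⧸ K) ⧸ Mb) := Fintype.ofFinite _
  let fib : ((G ⧸ K) ⧸ Mb) → ℕ := fun q => (Finset.univ.filter fun ω => F ω = q).card
  have hfib : ∀ q r, fib q = fib r := by
    have key : ∀ q r, fib q ≤ fib r := by
      intro q r
      obtain ⟨y, e⟩ := MulAction.exists_smul_eq (G ⧸ K) q r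
      obtain ⟨g, rfl⟩ := QuotientGroup.mk'_surjective K y
      refine Finset.card_le_card_of_injOn (fun ω => g • ω) (fun ω hω => ?_)
        fun u _ v _ h => MulAction.injective g h
      simp only [Finset.coe_filter, Finset.mem_univ, true_and] at hω ⊢
      show F (g • ω) = r
      rw [hFeq, show F ω = q from hω]
      exact e
    exact fun q r => le_antisymm (key q r) (key r q)
  set q₀ := F a with hq₀
  have htot : Nat.card Ω = Nat.card ((G ⧸ K) ⧸ Mb) * fib q₀ := by
    rw [Nat.card_eq_fintype_card, ← Finset.card_univ,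
      Finset.card_eq_sum_card_fiberwise (f := F) (t := Finset.univ) fun ω _ => Finset.mem_univ _,
      Finset.sum_congr rfl fun q _ => hfib q q₀, Finset.sum_const, smul_eq_mul, Finset.card_univ,
      Nat.card_eq_fintype_card]
  have hfixle : Nat.card {u : Ω // x • u = u} ≤
      Nat.card {q : (G ⧸ K) ⧸ Mb // f x • q = q} * fib q₀ := by
    rw [Nat.card_eq_fintype_card, Fintype.card_subtype, Nat.card_eq_fintype_card,
      Fintype.card_subtype,
      Finset.card_eq_sum_card_fiberwise (f := F)
        (t := Finset.univ.filter fun q => f x • q = q) (fun ω hω => ?_)]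
    · refine Finset.sum_le_card_nsmul _ _ _ fun q _ => ?_
      rw [← hfib q q₀]
      exact Finset.card_le_card fun ω hω => by
        simp only [Finset.mem_filter, Finset.mem_univ, true_and] at hω ⊢
        exact hω.2
    · simp only [Finset.coe_filter, Finset.mem_univ, true_and] at hω ⊢
      show f x • F ω = F ω
      rw [← hFeq, show x • ω = ω from hω]
  -- the cosets are parametrised by `A`
  let ψ : A → (G ⧸ K) ⧸ Mb := fun y => QuotientGroup.mk (y : G ⧸ K)
  have hψ : Function.Bijective ψ := by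
    refine ⟨fun y z e => ?_, fun q => ?_⟩
    · have h := QuotientGroup.eq.1 e
      have h2 : (y : G ⧸ K)⁻¹ * z ∈ A ⊓ Mb := mem_inf.2 ⟨mul_mem (inv_mem y.2) z.2, h⟩
      rw [hinf, Subgroup.mem_bot, inv_mul_eq_one] at h2
      exact Subtype.ext h2
    · obtain ⟨g, rfl⟩ := QuotientGroup.mk_surjective q
      obtain ⟨u, hu, m, hm, rfl⟩ := mem_sup_of_normal_left.1 (hAM ▸ mem_top g)
      exact ⟨⟨u, hu⟩, (QuotientGroup.mk_mul_of_mem u hm).symm⟩
  have hfx : f x ∈ Mb := mem_map_of_mem f hxM
  have hxA : ∀ y ∈ A, f x * y * (f x)⁻¹ ∈ A := fun y hy =>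
    (inferInstance : A.Normal).conj_mem y hy (f x)
  let φ : A →* A := MonoidHom.mk'
    (fun y => ⟨f x * (y : G ⧸ K) * (f x)⁻¹ * (y : G ⧸ K)⁻¹, mul_mem (hxA y y.2) (inv_mem y.2)⟩)
    fun y z => Subtype.ext (by
      show f x * ((y : G ⧸ K) * z) * (f x)⁻¹ * ((y : G ⧸ K) * z)⁻¹ =
        f x * (y : G ⧸ K) * (f x)⁻¹ * (y : G ⧸ K)⁻¹ * (f x * (z : G ⧸ K) * (f x)⁻¹ * (z : G ⧸ K)⁻¹)
      have e := (hAc _ (inv_mem y.2) _ (mul_mem (hxA z z.2) (inv_mem z.2))).eq
      calc _ = f x * (y : G ⧸ K) * (f x)⁻¹ *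
            (f x * (z : G ⧸ K) * (f x)⁻¹ * (z : G ⧸ K)⁻¹ * (y : G ⧸ K)⁻¹) := by group
        _ = _ := by rw [← e]; group)
  have hφker : ∀ y : A, f x • ψ y = ψ y ↔ y ∈ φ.ker := by
    intro y
    rw [MonoidHom.mem_ker]
    show (QuotientGroup.mk (f x * (y : G ⧸ K)) : (G ⧸ K) ⧸ Mb) = QuotientGroup.mk (y : G ⧸ K) ↔ _
    rw [QuotientGroup.eq]
    constructor
    · intro h
      have h1 : (y : G ⧸ K)⁻¹ * (f x * y * (f x)⁻¹) ∈ A ⊓ Mb := by
        refine mem_inf.2 ⟨mul_mem (inv_mem y.2) (hxA y y.2), ?_⟩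
        have := mul_mem (inv_mem h) (inv_mem hfx)
        rwa [show ((f x * (y : G ⧸ K))⁻¹ * y)⁻¹ * (f x)⁻¹ =
          (y : G ⧸ K)⁻¹ * (f x * y * (f x)⁻¹) by group] at this
      rw [hinf, Subgroup.mem_bot, inv_mul_eq_one] at h1
      refine Subtype.ext ?_
      show f x * (y : G ⧸ K) * (f x)⁻¹ * (y : G ⧸ K)⁻¹ = 1
      rw [← h1, mul_inv_cancel]
    · intro h
      have h1 : f x * (y : G ⧸ K) * (f x)⁻¹ * (y : G ⧸ K)⁻¹ = 1 := congrArg Subtype.val h
      rw [mul_inv_eq_one, mul_inv_eq_iff_eq_mul] at h1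
      rw [h1, show ((y : G ⧸ K) * f x)⁻¹ * y = (f x)⁻¹ by group]
      exact inv_mem hfx
  have hfix : Nat.card {q : (G ⧸ K) ⧸ Mb // f x • q = q} = Nat.card φ.ker :=
    (Nat.card_congr (Equiv.subtypeEquiv (Equiv.ofBijective ψ hψ) fun y => (hφker y).symm)).symm
  have hidx : p ≤ φ.ker.index := by
    rw [Subgroup.index_ker]
    have hxp : f x ^ p = 1 := by rw [← map_pow, hx, map_one]
    have hne : φ.range ≠ ⊥ := by
      intro h
      have hcent : ∀ y ∈ A, Commute (f x) y := fun y hy => by
        have h1 : φ ⟨y, hy⟩ = 1 := Subgroup.mem_bot.1 (h ▸ ⟨⟨y, hy⟩, rfl⟩)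
        have h2 : f x * y * (f x)⁻¹ * y⁻¹ = 1 := congrArg Subtype.val h1
        rwa [mul_inv_eq_one, mul_inv_eq_iff_eq_mul] at h2
      refine hM.1 (top_le_iff.1 (hgen ▸ ?_))
      refine (Subgroup.closure_le _).2 fun z hz => ?_
      obtain ⟨w, hw, hzw⟩ := Group.mem_conjugatesOfSet_iff.1 hz
      rw [Set.mem_singleton_iff] at hw
      rw [hw] at hzw
      obtain ⟨c, rfl⟩ := isConj_iff.1 hzw
      obtain ⟨u, hu, m, hm, rfl⟩ := mem_sup_of_normal_right.1
        (show c ∈ M ⊔ N by rw [sup_comm, hsup]; exact mem_top c)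
      refine hcore _ ?_
      rw [map_mul, map_mul, map_inv, map_mul]
      have h1 := hcent (f m) (mem_map_of_mem f hm)
      rw [show f u * f m * f x * (f u * f m)⁻¹ = f u * (f m * f x * (f m)⁻¹) * (f u)⁻¹ by group,
        ← h1.eq, mul_inv_cancel_right]
      exact mul_mem (mul_mem (mem_map_of_mem f hu) hfx) (inv_mem (mem_map_of_mem f hu))
    let α : φ.range → φ.range := fun y => ⟨⟨f x * ((y : A) : G ⧸ K) * (f x)⁻¹, hxA _ (y : A).2⟩, by
      obtain ⟨w, hw⟩ := y.2
      refine ⟨⟨f x * (w : G ⧸ K) * (f x)⁻¹, hxA _ w.2⟩, Subtype.ext ?_⟩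
      rw [← hw]
      show f x * (f x * (w : G ⧸ K) * (f x)⁻¹) * (f x)⁻¹ * (f x * (w : G ⧸ K) * (f x)⁻¹)⁻¹ =
        f x * (f x * (w : G ⧸ K) * (f x)⁻¹ * (w : G ⧸ K)⁻¹) * (f x)⁻¹
      group⟩
    have hα : ∀ i (y : φ.range), (((α^[i] y : φ.range) : A) : G ⧸ K) =
        f x ^ i * ((y : A) : G ⧸ K) * (f x ^ i)⁻¹ := by
      intro i
      induction i with
      | zero => intro y; simp
      | succ i ih =>
        intro y
        rw [Function.iterate_succ_apply', pow_succ']
        show f x * (((α^[i] y : φ.range) : A) : G ⧸ K) * (f x)⁻¹ = _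
        rw [ih]; group
    by_cases hfree : ∃ y : φ.range, y ≠ 1 ∧ α y = y
    · obtain ⟨⟨y, ⟨w, rfl⟩⟩, hy1, hy⟩ := hfree
      have hfixy : f x * ((φ w : A) : G ⧸ K) * (f x)⁻¹ = (φ w : A) :=
        congrArg (fun z : φ.range => ((z : A) : G ⧸ K)) hy
      set y' : G ⧸ K := ((φ w : A) : G ⧸ K) with hy'
      have hw : ∀ i : ℕ, f x ^ i * (w : G ⧸ K) * (f x ^ i)⁻¹ = y' ^ i * w := by
        intro i
        induction i with
        | zero => simp
        | succ i ih =>
          have e : f x * (w : G ⧸ K) * (f x)⁻¹ = y' * w := by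
            show _ = f x * (w : G ⧸ K) * (f x)⁻¹ * (w : G ⧸ K)⁻¹ * w
            group
          have hc : Commute (f x) (y' ^ i) := (show Commute (f x) y' from
            mul_inv_eq_iff_eq_mul.1 hfixy).pow_right i
          rw [pow_succ', show f x * f x ^ i * (w : G ⧸ K) * (f x * f x ^ i)⁻¹ =
            f x * (f x ^ i * w * (f x ^ i)⁻¹) * (f x)⁻¹ by group, ih, ← mul_assoc, hc.eq,
            show y' ^ i * f x * (w : G ⧸ K) * (f x)⁻¹ = y' ^ i * (f x * w * (f x)⁻¹) by group, e,
            ← mul_assoc, pow_succ]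
      have hyp : y' ^ p = 1 := by
        have := hw p
        rw [hxp, one_mul, inv_one, mul_one] at this
        exact right_eq_mul.1 this
      have hord : orderOf y' = p := orderOf_eq_prime hyp fun e =>
        hy1 (Subtype.ext (Subtype.ext e))
      refine Nat.le_of_dvd Nat.card_pos ?_
      have h3 := Subgroup.orderOf_dvd_natCard φ.range (show φ w ∈ φ.range from ⟨w, rfl⟩)
      rwa [← Subgroup.orderOf_coe (φ w), ← hy', hord] at h3
    · push Not at hfree
      haveI : Nontrivial φ.range := (Subgroup.nontrivial_iff_ne_bot _).2 hne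
      obtain ⟨y, hy⟩ := exists_ne (1 : φ.range)
      have hper : α^[p] y = y := Subtype.ext (Subtype.ext (by
        rw [hα, hxp, one_mul, inv_one, mul_one]))
      have hmin : Function.minimalPeriod α y = p :=
        Function.minimalPeriod_eq_prime (show Function.IsPeriodicPt α p y from hper) (hfree y hy)
      have hinj : Function.Injective (fun i : Fin p => α^[i] y) := fun i l h =>
        Fin.ext (Function.iterate_injOn_Iio_minimalPeriod (by simp [hmin]) (by simp [hmin]) h)
      simpa using Nat.card_le_card_of_injective _ hinj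
  calc p * Nat.card {u : Ω // x • u = u}
      ≤ p * (Nat.card φ.ker * fib q₀) := Nat.mul_le_mul_left _ (hfix ▸ hfixle)
    _ ≤ φ.ker.index * (Nat.card φ.ker * fib q₀) := Nat.mul_le_mul_right _ hidx
    _ = Nat.card A * fib q₀ := by rw [← φ.ker.card_mul_index]; ring
    _ = Nat.card Ω := by rw [htot, Nat.card_eq_of_bijective ψ hψ]

end CfsgLib.Coprime.OrbitCount
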