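import Cfsg.Prelude.Def_Transfer
import Cfsg.Agent.Lib.Fusion.Abelian
import Cfsg.Agent.Lib.Fusion.Basic
import Cfsg.Agent.Lib.Coprime.SchurZassenhaus
import Mathlib.GroupTheory.Sylow
import Mathlib.RingTheory.Coprime.Lemmas

/-!
Counting conjugacy classes of `p`-elements and of `π`-elements.
-/

universe u

namespace CfsgLib.Coprime.PClassCount

/-- Counting the fibres of a surjection: off the set `F` every fibre has at least `m` elements. -/
lemma card_mul_le_of_fibres {X Y : Type*} [Finite X] [Finite Y] (f : X → Y) (hf : Function.Surjective f)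
    (F : Set X) (m : ℕ) (hm : 1 ≤ m) (hfib : ∀ x ∉ F, m ≤ Nat.card {x' : X // f x' = f x}) :
    m * Nat.card Y ≤ Nat.card X + (m - 1) * Nat.card F := by
  classical
  let _ : Fintype X := Fintype.ofFinite X
  let _ : Fintype Y := Fintype.ofFinite Y
  let _ : Fintype F := Fintype.ofFinite F
  have hy : ∀ y : Y, m ≤ (Finset.univ.filter fun x => f x = y).card +
      (m - 1) * (Finset.univ.filter fun x => f x = y ∧ x ∈ F).card := by
    intro y
    obtain ⟨x, hx⟩ := hf y
    by_cases hyF : (Finset.univ.filter fun x => f x = y ∧ x ∈ F).Nonempty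
    · have h1 : 0 < (Finset.univ.filter fun x => f x = y).card :=
        Finset.card_pos.2 ⟨x, Finset.mem_filter.2 ⟨Finset.mem_univ _, hx⟩⟩
      have h2 := Nat.mul_le_mul_left (m - 1) (Finset.card_pos.2 hyF)
      omega
    · have hxF : x ∉ F := fun h => hyF ⟨x, Finset.mem_filter.2 ⟨Finset.mem_univ _, hx, h⟩⟩
      have h1 := hfib x hxF
      rw [Nat.card_eq_fintype_card, Fintype.card_subtype, hx] at h1
      omega
  have h1 : ∑ y : Y, (Finset.univ.filter fun x => f x = y).card = Fintype.card X :=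
    (Finset.card_eq_sum_card_fiberwise (s := Finset.univ) (t := Finset.univ) (f := f)
      fun x _ => Finset.mem_univ _).symm
  have h2 : ∑ y : Y, (Finset.univ.filter fun x => f x = y ∧ x ∈ F).card = Fintype.card F := by
    rw [Fintype.card_subtype, Finset.card_eq_sum_card_fiberwise (f := f) (t := Finset.univ) fun x _ => Finset.mem_univ _]
    refine Finset.sum_congr rfl fun y _ => ?_
    rw [Finset.filter_filter]
    congr 1
    exact Finset.filter_congr fun x _ => and_comm
  calc m * Nat.card Y = ∑ _y : Y, m := by simp [Nat.card_eq_fintype_card, mul_comm]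
    _ ≤ ∑ y : Y, ((Finset.univ.filter fun x => f x = y).card +
        (m - 1) * (Finset.univ.filter fun x => f x = y ∧ x ∈ F).card) := Finset.sum_le_sum fun y _ => hy y
    _ = _ := by rw [Finset.sum_add_distrib, ← Finset.mul_sum, h1, h2, Nat.card_eq_fintype_card, Nat.card_eq_fintype_card]

variable {G : Type*} [Group G]

instance finite_conjClasses' (H : Type*) [Group H] [Finite H] : Finite (ConjClasses H) :=
  Finite.of_surjective _ ConjClasses.mk_surjective

/-- The classes consisting of `p`-elements. -/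
abbrev PClasses (p : ℕ) (G : Type*) [Group G] :=
  {c : ConjClasses G // ∀ x ∈ c.carrier, ∃ k : ℕ, orderOf x = p ^ k}

lemma orderOf_conj (g x : G) : orderOf (g * x * g⁻¹) = orderOf x :=
  (MulEquiv.orderOf_eq (MulAut.conj g) x)

/-- Every `p`-class meets a given Sylow subgroup. -/
def toClass {p : ℕ} [Fact p.Prime] (P : Sylow p G) (x : (P : Subgroup G)) : PClasses p G :=
  ⟨ConjClasses.mk (x : G), fun y hy => by
    rw [ConjClasses.mem_carrier_iff_mk_eq, ConjClasses.mk_eq_mk_iff_isConj, isConj_iff] at hy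
    obtain ⟨g, hg⟩ := hy
    obtain ⟨k, hk⟩ := IsPGroup.iff_orderOf.1 P.2 x
    exact ⟨k, by rw [← hk, ← Subgroup.orderOf_coe x, ← hg, orderOf_conj]⟩⟩

lemma toClass_surjective [Finite G] {p : ℕ} [Fact p.Prime] (P : Sylow p G) :
    Function.Surjective (toClass P) := by
  rintro ⟨c, hc⟩
  obtain ⟨x, rfl⟩ := ConjClasses.mk_surjective c
  obtain ⟨k, hk⟩ := hc x (ConjClasses.mem_carrier_mk)
  have hp : IsPGroup p (Subgroup.zpowers x) := IsPGroup.of_card (n := k) (by rw [Nat.card_zpowers, hk])
  obtain ⟨Q, hQ⟩ := hp.exists_le_sylow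
  obtain ⟨g, hg⟩ := MulAction.exists_smul_eq G Q P
  have hmem : g * x * g⁻¹ ∈ (P : Subgroup G) := by
    rw [← hg, Sylow.coe_subgroup_smul]
    exact ⟨x, hQ (Subgroup.mem_zpowers x), rfl⟩
  refine ⟨⟨_, hmem⟩, Subtype.ext ?_⟩
  exact ConjClasses.mk_eq_mk_iff_isConj.2 (isConj_iff.2 ⟨g⁻¹, by group⟩)

theorem card_pclasses_le [Finite G] {p : ℕ} [Fact p.Prime] (P : Sylow p G) :
    Nat.card (PClasses p G) ≤ Nat.card (P : Subgroup G) :=
  Nat.card_le_card_of_surjective _ (toClass_surjective P)

theorem card_pclasses_le_classes [Finite G] {p : ℕ} [Fact p.Prime] (P : Sylow p G) :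
    Nat.card (PClasses p G) ≤ Nat.card (ConjClasses (P : Subgroup G)) := by
  refine Nat.card_le_card_of_surjective (Quotient.lift (toClass P) fun a b h => Subtype.ext ?_)
    fun c => (toClass_surjective P c).elim fun x hx => ⟨Quotient.mk _ x, hx⟩
  obtain ⟨g, hg⟩ := isConj_iff.1 h
  exact ConjClasses.mk_eq_mk_iff_isConj.2 (isConj_iff.2 ⟨g, congrArg Subtype.val hg⟩)

/-- A proper subgroup of a `p`-group has order at most `|P| / p`. -/
lemma card_mul_le_of_lt [Finite G] {p : ℕ} [Fact p.Prime] {H P : Subgroup G} (hP : IsPGroup p P) (h : H < P) :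
    p * Nat.card H ≤ Nat.card P := by
  obtain ⟨k, hk⟩ := IsPGroup.iff_card.1 hP
  obtain ⟨j, -, hj⟩ := (Nat.dvd_prime_pow (Fact.out : p.Prime)).1 (hk ▸ Subgroup.card_dvd_of_le h.le)
  have hlt : j < k := by
    by_contra hle
    exact h.ne (Subgroup.eq_of_le_of_card_ge h.le
      (by rw [hj, hk]; exact Nat.pow_le_pow_right (Fact.out : p.Prime).pos (not_lt.1 hle)))
  rw [hj, hk, ← pow_succ']
  exact Nat.pow_le_pow_right (Fact.out : p.Prime).pos hlt

/-- Either `G` is `p`-nilpotent with abelian Sylow `p`-subgroups, or it has few classes of `p`-elements. -/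
theorem npc_or_few_classes [Finite G] {p : ℕ} [Fact p.Prime] (P : Sylow p G) :
    (Cfsg.HasNormalPComplement p G ∧ IsMulCommutative (P : Subgroup G)) ∨
      2 * p * Nat.card (PClasses p G) ≤ (p + 1) * Nat.card (P : Subgroup G) := by
  have hp : p.Prime := Fact.out
  by_cases hab : IsMulCommutative (P : Subgroup G)
  · by_cases hN : Subgroup.normalizer ((P : Subgroup G) : Set G) ≤ Subgroup.centralizer ((P : Subgroup G) : Set G)
    · exact Or.inl ⟨CfsgLib.Fusion.Abelian.npc_of_normalizer_le_centralizer P hN, hab⟩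
    obtain ⟨n, hnN, hnC⟩ := SetLike.not_le_iff_exists.1 hN
    refine Or.inr ?_
    set F := (P : Subgroup G) ⊓ Subgroup.centralizer ({n} : Set G) with hF
    have hlt : F < (P : Subgroup G) := lt_of_le_of_ne inf_le_left fun h => hnC
      (Subgroup.mem_centralizer_iff.2 fun x hx =>
        (Subgroup.mem_centralizer_singleton_iff.1 (h.ge hx).2))
    have key := card_mul_le_of_fibres (toClass P) (toClass_surjective P) (F.subgroupOf (P : Subgroup G) : Set (P : Subgroup G)) 2
      (by norm_num) fun x hx => by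
        have hmem : n * (x : G) * n⁻¹ ∈ (P : Subgroup G) := (Subgroup.mem_normalizer_iff.1 hnN x).1 x.2
        have hne : (⟨_, hmem⟩ : (P : Subgroup G)) ≠ x := fun h => hx ⟨x.2,
          Subgroup.mem_centralizer_singleton_iff.2 (mul_inv_eq_iff_eq_mul.1 (congrArg Subtype.val h)).symm⟩
        have hsame : toClass P ⟨_, hmem⟩ = toClass P x :=
          Subtype.ext (ConjClasses.mk_eq_mk_iff_isConj.2 (isConj_iff.2 ⟨n⁻¹, by group⟩))
        have : Nontrivial {x' : (P : Subgroup G) // toClass P x' = toClass P x} :=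
          ⟨⟨⟨_, hsame⟩, ⟨x, rfl⟩, fun h => hne (congrArg Subtype.val h)⟩⟩
        exact Finite.one_lt_card
    rw [show Nat.card ((F.subgroupOf (P : Subgroup G) : Subgroup (P : Subgroup G)) : Set (P : Subgroup G)) = Nat.card F from
      Nat.card_congr (Subgroup.subgroupOfEquivOfLe inf_le_left).toEquiv] at key
    have h2 := card_mul_le_of_lt P.2 hlt
    nlinarith
  · refine Or.inr ?_
    set Z := Subgroup.center (P : Subgroup G) with hZ
    have hPp : IsPGroup p (P : Subgroup G) := P.2
    have hZtop : Z ≠ ⊤ := fun h => hab ⟨⟨fun a b => (Subgroup.mem_center_iff.1 (h.ge (Subgroup.mem_top b)) a)⟩⟩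
    have key := card_mul_le_of_fibres (fun x : (P : Subgroup G) => ConjClasses.mk x)
      ConjClasses.mk_surjective (Z : Set (P : Subgroup G)) p hp.one_le fun x hx => by
        have hidx : (Subgroup.centralizer ({x} : Set (P : Subgroup G))).index ≠ 1 := fun h => hx
          (Subgroup.mem_center_iff.2 fun g => Subgroup.mem_centralizer_singleton_iff.1
            ((Subgroup.index_eq_one.1 h).ge (Subgroup.mem_top g)))
        obtain ⟨i, hi⟩ := hPp.index (Subgroup.centralizer ({x} : Set (P : Subgroup G)))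
        have hi0 : i ≠ 0 := fun h => hidx (by rw [hi, h, pow_zero])
        calc p ≤ (Subgroup.centralizer ({x} : Set (P : Subgroup G))).index := by
              rw [hi]; exact Nat.le_self_pow hi0 p
          _ ≤ Nat.card {x' : (P : Subgroup G) // ConjClasses.mk x' = ConjClasses.mk x} := by
            rw [Subgroup.index_eq_card]
            refine Nat.card_le_card_of_injective (Quotient.lift
              (fun g => (⟨g * x * g⁻¹, ConjClasses.mk_eq_mk_iff_isConj.2 (isConj_iff.2 ⟨g⁻¹, by group⟩)⟩ :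
                {x' : (P : Subgroup G) // ConjClasses.mk x' = ConjClasses.mk x})) fun g g' h => ?_) ?_
            · rw [← Quotient.eq_iff_equiv, Quotient.eq, QuotientGroup.leftRel_apply, Subgroup.mem_centralizer_singleton_iff] at h
              refine Subtype.ext ?_
              show g * x * g⁻¹ = g' * x * g'⁻¹
              calc g * x * g⁻¹ = g * (x * (g⁻¹ * g')) * g'⁻¹ := by group
                _ = g * ((g⁻¹ * g') * x) * g'⁻¹ := by rw [h]
                _ = g' * x * g'⁻¹ := by group
            · intro u v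
              induction u using Quotient.inductionOn' with | _ g =>
              induction v using Quotient.inductionOn' with | _ g' =>
              intro h
              rw [Quotient.eq'', QuotientGroup.leftRel_apply, Subgroup.mem_centralizer_singleton_iff]
              have h' : g * x * g⁻¹ = g' * x * g'⁻¹ := congrArg Subtype.val h
              calc g⁻¹ * g' * x = g⁻¹ * (g' * x * g'⁻¹) * g' := by group
                _ = g⁻¹ * (g * x * g⁻¹) * g' := by rw [h']
                _ = x * (g⁻¹ * g') := by group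
    obtain ⟨k, hk⟩ := IsPGroup.iff_card.1 hPp
    obtain ⟨j, hj⟩ := hPp.index Z
    have hj2 : 2 ≤ j := by
      by_contra hlt
      have hcyc : IsCyclic ((P : Subgroup G) ⧸ Z) := by
        rcases Nat.le_one_iff_eq_zero_or_eq_one.1 (show j ≤ 1 by omega) with h | h
        · exact absurd (Subgroup.index_eq_one.1 (by rw [hj, h, pow_zero])) hZtop
        · exact isCyclic_of_prime_card (p := p) (by rw [← Subgroup.index_eq_card, hj, h, pow_one])
      exact hab (MonoidHom.isMulCommutative_of_isCyclic_of_ker_le_center (QuotientGroup.mk' Z)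
        (by rw [QuotientGroup.ker_mk']))
    have hZle : p * p * Nat.card Z ≤ Nat.card (P : Subgroup G) := by
      rw [← Z.index_mul_card, hj, ← sq]
      exact Nat.mul_le_mul_right _ (Nat.pow_le_pow_right hp.pos hj2)
    have hle := card_pclasses_le_classes P
    rw [show Nat.card (Z : Set (P : Subgroup G)) = Nat.card Z from rfl] at key
    obtain ⟨p', rfl⟩ : ∃ p', p = p' + 2 := ⟨p - 2, by have := hp.two_le; omega⟩
    simp only [show p' + 2 - 1 = p' + 1 by omega] at key
    have h2Z : 2 * Nat.card Z ≤ Nat.card (P : Subgroup G) :=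
      (Nat.mul_le_mul_right _ (by nlinarith : 2 ≤ (p' + 2) * (p' + 2))).trans hZle
    nlinarith [Nat.mul_le_mul_left (p' + 1) h2Z, Nat.mul_le_mul_left (2 * (p' + 2)) hle]

/-- A `p`-nilpotent group with abelian Sylow `p`-subgroup `P` has `|P|` classes of `p`-elements. -/
theorem card_pclasses_of_npc [Finite G] {p : ℕ} [Fact p.Prime] (h : Cfsg.HasNormalPComplement p G) (P : Sylow p G)
    (hab : IsMulCommutative (P : Subgroup G)) : Nat.card (PClasses p G) = Nat.card (P : Subgroup G) := by
  refine le_antisymm (card_pclasses_le P) (Nat.card_le_card_of_injective (toClass P) fun a b hab' => ?_)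
  obtain ⟨g, hg⟩ := isConj_iff.1 (ConjClasses.mk_eq_mk_iff_isConj.1 (congrArg Subtype.val hab'))
  obtain ⟨P₀, N, hN, hNc⟩ := h
  have hdisj : N ⊓ (P : Subgroup G) = ⊥ := by
    rw [← Subgroup.card_eq_one]
    have h1 : (Nat.card N).Coprime p := by
      rw [← hNc.index_eq_card]
      exact ((Fact.out : p.Prime).coprime_iff_not_dvd.2 P₀.not_dvd_index).symm
    obtain ⟨k, hk⟩ := IsPGroup.iff_card.1 P.2
    exact Nat.eq_one_of_dvd_coprimes (h1.pow_right k) (Subgroup.card_dvd_of_le inf_le_left)
      (hk ▸ Subgroup.card_dvd_of_le inf_le_right)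
  have hsup : N ⊔ (P : Subgroup G) = ⊤ := by
    refine Subgroup.eq_top_of_card_eq _ ?_
    rw [CfsgLib.Coprime.card_sup_of_le_normalizer Subgroup.le_normalizer_of_normal (disjoint_iff.2 hdisj),
      P.card_eq_multiplicity, ← P₀.card_eq_multiplicity, hNc.card_mul_card]
  obtain ⟨m, hm, v, hv, rfl⟩ := Subgroup.mem_sup_of_normal_left.1 (hsup.ge (Subgroup.mem_top g))
  have hva : v * (a : G) * v⁻¹ = a := by
    rw [show v * (a : G) = a * v from congrArg Subtype.val (hab.is_comm.comm (⟨v, hv⟩ : (P : Subgroup G)) a),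
      mul_inv_cancel_right]
  have hmb : m * (a : G) * m⁻¹ = b := by
    rw [← hg]
    conv_lhs => rw [← hva]
    group
  have hmem : (b : G) * (a : G)⁻¹ ∈ N ⊓ (P : Subgroup G) := by
    refine ⟨?_, (P : Subgroup G).mul_mem b.2 ((P : Subgroup G).inv_mem a.2)⟩
    rw [← hmb, show m * (a : G) * m⁻¹ * (a : G)⁻¹ = m * ((a : G) * m⁻¹ * (a : G)⁻¹) by group]
    exact N.mul_mem hm (hN.conj_mem _ (N.inv_mem hm) _)
  rw [hdisj, Subgroup.mem_bot, mul_inv_eq_one] at hmem
  exact Subtype.ext hmem.symm

lemma toClass_injective_of_npc [Finite G] {p : ℕ} [Fact p.Prime] (h : Cfsg.HasNormalPComplement p G) (P : Sylow p G)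
    (hab : IsMulCommutative (P : Subgroup G)) : Function.Injective (toClass P) :=
  ((toClass_surjective P).bijective_of_nat_card_le (card_pclasses_of_npc h P hab).ge).1

/-- The classes consisting of `σ`-elements. -/
abbrev PiClasses (σ : Finset ℕ) (G : Type*) [Group G] :=
  {c : ConjClasses G // ∀ x ∈ c.carrier, ∀ r : ℕ, r.Prime → r ∣ orderOf x → r ∈ σ}

lemma piClasses_mk {σ : Finset ℕ} {x : G} (h : ∀ r : ℕ, r.Prime → r ∣ orderOf x → r ∈ σ) :
    ∀ y ∈ (ConjClasses.mk x).carrier, ∀ r : ℕ, r.Prime → r ∣ orderOf y → r ∈ σ := by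
  intro y hy
  rw [ConjClasses.mem_carrier_iff_mk_eq, ConjClasses.mk_eq_mk_iff_isConj, isConj_iff] at hy
  obtain ⟨g, hg⟩ := hy
  rwa [← hg, orderOf_conj] at h

/-- One step of the recursion: `π`-classes against `r`-classes and classes in the centralisers. -/
theorem card_piClasses_insert [Finite G] {r : ℕ} (hr : r.Prime) {σ : Finset ℕ} (hrσ : r ∉ σ) (B : ℕ)
    (hB : ∀ u : G, (∃ k : ℕ, orderOf u = r ^ k) → Nat.card (PiClasses σ (Subgroup.centralizer ({u} : Set G))) ≤ B) :
    Nat.card (PiClasses (insert r σ) G) ≤ Nat.card (PClasses r G) * B := by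
  classical
  have hrep : ∀ c : PClasses r G, ∃ u : G, ConjClasses.mk u = c.1 := fun c => ConjClasses.mk_surjective c.1
  choose rep hrep using hrep
  have hrep' : ∀ c, ∃ k, orderOf (rep c) = r ^ k := fun c => c.2 _ (ConjClasses.mem_carrier_iff_mk_eq.2 (hrep c))
  have hrepd : ∀ (c : PClasses r G) (d : PiClasses σ (Subgroup.centralizer ({rep c} : Set G))),
      ∃ v : Subgroup.centralizer ({rep c} : Set G), ConjClasses.mk v = d.1 := fun c d => ConjClasses.mk_surjective d.1
  choose repd hrepd using hrepd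
  have hord : ∀ (c : PClasses r G) (d : PiClasses σ (Subgroup.centralizer ({rep c} : Set G))) (q : ℕ), q.Prime →
      q ∣ orderOf (rep c * (repd c d : G)) → q ∈ insert r σ := by
    intro c d q hq hdvd
    have hcomm : Commute (rep c) (repd c d : G) :=
      (Subgroup.mem_centralizer_singleton_iff.1 (repd c d).2).symm
    rcases hq.dvd_mul.1 (hdvd.trans (hcomm.orderOf_mul_dvd_lcm.trans (Nat.lcm_dvd_mul _ _))) with h | h
    · obtain ⟨k, hk⟩ := hrep' c
      rw [hk] at h
      exact Finset.mem_insert.2 (Or.inl ((Nat.prime_dvd_prime_iff_eq hq hr).1 (hq.dvd_of_dvd_pow h)))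
    · rw [Subgroup.orderOf_coe] at h
      exact Finset.mem_insert_of_mem (d.2 _ (ConjClasses.mem_carrier_iff_mk_eq.2 (hrepd c d)) q hq h)
  let f : (Σ c : PClasses r G, PiClasses σ (Subgroup.centralizer ({rep c} : Set G))) → PiClasses (insert r σ) G :=
    fun z => ⟨ConjClasses.mk (rep z.1 * (repd z.1 z.2 : G)), piClasses_mk (hord z.1 z.2)⟩
  have hf : Function.Surjective f := by
    rintro ⟨c, hc⟩
    obtain ⟨x, rfl⟩ := ConjClasses.mk_surjective c
    have hx := hc x ConjClasses.mem_carrier_mk
    obtain ⟨a, m, hm, ham⟩ := Nat.exists_eq_pow_mul_and_not_dvd (orderOf_pos x).ne' r hr.ne_one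
    have hcop : (r ^ a).Coprime m := (hr.coprime_iff_not_dvd.2 hm).pow_left a
    obtain ⟨s, t, hst⟩ : IsCoprime ((r ^ a : ℕ) : ℤ) (m : ℤ) := Nat.isCoprime_iff_coprime.2 hcop
    set u := x ^ (t * m) with hu
    set v := x ^ (s * ((r ^ a : ℕ) : ℤ)) with hv
    have hxuv : x = u * v := by rw [hu, hv, ← zpow_add, add_comm, hst, zpow_one]
    have hu1 : u ^ r ^ a = 1 := by
      rw [hu, ← zpow_natCast, ← zpow_mul, ← orderOf_dvd_iff_zpow_eq_one, ham]
      exact ⟨t, by push_cast; ring⟩
    have hv1 : v ^ m = 1 := by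
      rw [hv, ← zpow_natCast, ← zpow_mul, ← orderOf_dvd_iff_zpow_eq_one, ham]
      exact ⟨s, by push_cast; ring⟩
    have hu2 : ∀ y ∈ (ConjClasses.mk u).carrier, ∃ k, orderOf y = r ^ k := fun y hy => by
      rw [ConjClasses.mem_carrier_iff_mk_eq, ConjClasses.mk_eq_mk_iff_isConj, isConj_iff] at hy
      obtain ⟨g, hg⟩ := hy
      obtain ⟨k, -, hk⟩ := (Nat.dvd_prime_pow hr).1 (orderOf_dvd_of_pow_eq_one hu1)
      exact ⟨k, by rw [← hk, ← hg, orderOf_conj]⟩
    set c : PClasses r G := ⟨ConjClasses.mk u, hu2⟩ with hcdef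
    obtain ⟨g, hg⟩ := isConj_iff.1 (ConjClasses.mk_eq_mk_iff_isConj.1 (hrep c).symm)
    have hvC : g * v * g⁻¹ ∈ Subgroup.centralizer ({rep c} : Set G) := by
      rw [Subgroup.mem_centralizer_singleton_iff, ← hg]
      have huv : v * u = u * v := by rw [hu, hv, ← zpow_add, ← zpow_add, add_comm]
      calc g * v * g⁻¹ * (g * u * g⁻¹) = g * (v * u) * g⁻¹ := by group
        _ = g * u * g⁻¹ * (g * v * g⁻¹) := by rw [huv]; group
    have hvσ : ∀ q : ℕ, q.Prime → q ∣ orderOf (⟨_, hvC⟩ : Subgroup.centralizer ({rep c} : Set G)) → q ∈ σ := by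
      intro q hq hd
      rw [Subgroup.orderOf_mk, orderOf_conj] at hd
      have hqm : q ∣ m := hd.trans (orderOf_dvd_of_pow_eq_one hv1)
      rcases Finset.mem_insert.1 (hx q hq (ham ▸ hqm.mul_left _)) with h | h
      · exact absurd (h ▸ hqm) hm
      · exact h
    set d : PiClasses σ (Subgroup.centralizer ({rep c} : Set G)) := ⟨ConjClasses.mk ⟨_, hvC⟩, piClasses_mk hvσ⟩
    obtain ⟨w, hw⟩ := isConj_iff.1 (ConjClasses.mk_eq_mk_iff_isConj.1 (hrepd c d).symm)
    refine ⟨⟨c, d⟩, Subtype.ext (ConjClasses.mk_eq_mk_iff_isConj.2 (IsConj.symm ?_))⟩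
    refine isConj_iff.2 ⟨(w : G) * g, ?_⟩
    have hw' : (w : G) * (g * v * g⁻¹) * (w : G)⁻¹ = (repd c d : G) := congrArg Subtype.val hw
    have hwu : (w : G) * rep c * (w : G)⁻¹ = rep c :=
      mul_inv_eq_iff_eq_mul.2 (Subgroup.mem_centralizer_singleton_iff.1 w.2)
    conv_lhs => rw [hxuv]
    calc (w : G) * g * (u * v) * ((w : G) * g)⁻¹
        = ((w : G) * (g * u * g⁻¹) * (w : G)⁻¹) * ((w : G) * (g * v * g⁻¹) * (w : G)⁻¹) := by group
      _ = rep c * (repd c d : G) := by rw [hg, hwu, hw']
  let _ : Fintype (PClasses r G) := Fintype.ofFinite _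
  calc Nat.card (PiClasses (insert r σ) G)
      ≤ Nat.card (Σ c : PClasses r G, PiClasses σ (Subgroup.centralizer ({rep c} : Set G))) :=
        Nat.card_le_card_of_surjective f hf
    _ = ∑ c : PClasses r G, Nat.card (PiClasses σ (Subgroup.centralizer ({rep c} : Set G))) := Nat.card_sigma
    _ ≤ ∑ _c : PClasses r G, B := Finset.sum_le_sum fun c _ => hB _ (hrep' c)
    _ = _ := by simp [Nat.card_eq_fintype_card]

lemma pow_factorization_le {n m : ℕ} (h : n ∣ m) (hm : m ≠ 0) (r : ℕ) (hr : r.Prime) :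
    r ^ n.factorization r ≤ r ^ m.factorization r :=
  Nat.pow_le_pow_right hr.pos ((Nat.factorization_le_iff_dvd (fun h0 => hm (by simpa [h0] using h)) hm).2 h r)

/-- There are at most `|G|_σ` classes of `σ`-elements. -/
theorem card_piClasses_le (σ : Finset ℕ) (hσ : ∀ r ∈ σ, r.Prime) :
    ∀ (G : Type u) [Group G] [Finite G],
      Nat.card (PiClasses σ G) ≤ σ.prod fun r => r ^ (Nat.card G).factorization r := by
  classical
  induction σ using Finset.induction_on with
  | empty =>
    intro G _ _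
    rw [Finset.prod_empty]
    have : Subsingleton (PiClasses ∅ G) := ⟨fun c d => by
      have hone : ∀ c : PiClasses ∅ G, c.1 = ConjClasses.mk 1 := fun c => by
        obtain ⟨x, hx⟩ := ConjClasses.mk_surjective c.1
        have h1 := c.2 x (ConjClasses.mem_carrier_iff_mk_eq.2 hx)
        have : orderOf x = 1 := Nat.eq_one_iff_not_exists_prime_dvd.2 fun q hq hd =>
          absurd (h1 q hq hd) (Finset.notMem_empty q)
        rw [← hx, orderOf_eq_one_iff.1 this]
      exact Subtype.ext ((hone c).trans (hone d).symm)⟩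
    exact Finite.card_le_one_iff_subsingleton.2 this
  | @insert r σ hrσ ih =>
    intro G _ _
    have hr := hσ r (Finset.mem_insert_self r σ)
    have := Fact.mk hr
    obtain ⟨P⟩ : Nonempty (Sylow r G) := inferInstance
    rw [Finset.prod_insert hrσ]
    refine (card_piClasses_insert hr hrσ _ fun u _ => ?_).trans
      (Nat.mul_le_mul_right _ ((card_pclasses_le P).trans_eq P.card_eq_multiplicity))
    refine (ih (fun q hq => hσ q (Finset.mem_insert_of_mem hq)) _).trans (Finset.prod_le_prod' fun q hq => ?_)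
    exact pow_factorization_le (Subgroup.card_subgroup_dvd_card _) Nat.card_pos.ne' q (hσ q (Finset.mem_insert_of_mem hq))

/-- The classes of `π`-elements are bounded through the classes of `r`-elements, `r ∈ π`. -/
theorem card_piClasses_mul_le {G : Type u} [Group G] [Finite G] (π : Finset ℕ) (hπ : ∀ r ∈ π, r.Prime) {r : ℕ}
    (hr : r ∈ π) :
    Nat.card (PiClasses π G) * r ^ (Nat.card G).factorization r ≤
      Nat.card (PClasses r G) * π.prod fun q => q ^ (Nat.card G).factorization q := by
  classical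
  have hσ : ∀ q ∈ π.erase r, q.Prime := fun q hq => hπ q (Finset.mem_of_mem_erase hq)
  have h := card_piClasses_insert (G := G) (hπ r hr) (Finset.notMem_erase r π) _ fun u _ =>
    (card_piClasses_le (π.erase r) hσ _).trans (Finset.prod_le_prod' fun q hq =>
      pow_factorization_le (Subgroup.card_subgroup_dvd_card _) Nat.card_pos.ne' q (hσ q hq))
  rw [Finset.insert_erase hr] at h
  calc Nat.card (PiClasses π G) * r ^ (Nat.card G).factorization r
      ≤ Nat.card (PClasses r G) * ((π.erase r).prod fun q => q ^ (Nat.card G).factorization q) * r ^ (Nat.card G).factorization r :=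
        Nat.mul_le_mul_right _ h
    _ = _ := by
      rw [mul_assoc, Finset.prod_erase_mul π (fun q => q ^ (Nat.card G).factorization q) hr]

end CfsgLib.Coprime.PClassCount
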