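import Cfsg.Agent.Lib.Coprime.PClassCount
import Cfsg.Agent.Lib.Coprime.Action
import Cfsg.Agent.Lib.Fusion.Alperin

/-!
Sharper bounds on the number of classes of `p`-elements: `p = 2`, and groups of odd order.
-/

universe u

open scoped commutatorElement

namespace CfsgLib.Coprime.PClassCount

variable {G : Type*} [Group G]

/-- Weighted counting of fibres: singletons cost, fibres with at least three elements pay. -/
lemma six_mul_le_of_fibres {X Y : Type*} [Finite X] [Finite Y] (f : X → Y) (hf : Function.Surjective f)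
    (S T : Set X) (hS : ∀ x, (∀ x', f x' = f x → x' = x) → x ∈ S)
    (hT : ∀ x ∈ T, 3 ≤ Nat.card {x' : X // f x' = f x}) :
    6 * Nat.card Y + Nat.card T ≤ 3 * Nat.card X + 3 * Nat.card S := by
  classical
  let _ : Fintype X := Fintype.ofFinite X
  let _ : Fintype Y := Fintype.ofFinite Y
  let _ : Fintype S := Fintype.ofFinite S
  let _ : Fintype T := Fintype.ofFinite T
  have hy : ∀ y : Y, 6 + (Finset.univ.filter fun x => f x = y ∧ x ∈ T).card ≤
      3 * (Finset.univ.filter fun x => f x = y).card + 3 * (Finset.univ.filter fun x => f x = y ∧ x ∈ S).card := by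
    intro y
    obtain ⟨x, hx⟩ := hf y
    have hle : (Finset.univ.filter fun x => f x = y ∧ x ∈ T).card ≤ (Finset.univ.filter fun x => f x = y).card :=
      Finset.card_le_card fun z hz => by
        simp only [Finset.mem_filter] at hz ⊢
        exact ⟨hz.1, hz.2.1⟩
    have hxmem : x ∈ Finset.univ.filter fun x => f x = y := Finset.mem_filter.2 ⟨Finset.mem_univ _, hx⟩
    have hpos := Finset.card_pos.2 ⟨x, hxmem⟩
    by_cases h3 : 3 ≤ (Finset.univ.filter fun x => f x = y).card
    · omega
    · have hTe : (Finset.univ.filter fun x => f x = y ∧ x ∈ T).card = 0 := by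
        rw [Finset.card_eq_zero, Finset.eq_empty_iff_forall_notMem]
        intro z hz
        simp only [Finset.mem_filter] at hz
        have := hT z hz.2.2
        rw [Nat.card_eq_fintype_card, Fintype.card_subtype, hz.2.1] at this
        exact h3 this
      rcases Nat.lt_or_ge (Finset.univ.filter fun x => f x = y).card 2 with h2 | h2
      · have h1 : (Finset.univ.filter fun x => f x = y).card = 1 := by omega
        obtain ⟨z, hz⟩ := Finset.card_eq_one.1 h1
        have hxS : x ∈ S := hS x fun x' hx' => by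
          have hx'' : x' ∈ Finset.univ.filter fun x => f x = y := Finset.mem_filter.2 ⟨Finset.mem_univ _, hx'.trans hx⟩
          rw [hz, Finset.mem_singleton] at hxmem hx''
          rw [hx'', hxmem]
        have := Finset.card_pos.2 ⟨x, show x ∈ Finset.univ.filter (fun x => f x = y ∧ x ∈ S) from
          Finset.mem_filter.2 ⟨Finset.mem_univ _, hx, hxS⟩⟩
        omega
      · omega
  have hsum : ∀ P : X → Prop, [DecidablePred P] →
      ∑ y : Y, (Finset.univ.filter fun x => f x = y ∧ P x).card = (Finset.univ.filter P).card := by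
    intro P _
    rw [Finset.card_eq_sum_card_fiberwise (f := f) (t := Finset.univ) fun x _ => Finset.mem_univ _]
    refine Finset.sum_congr rfl fun y _ => ?_
    rw [Finset.filter_filter]
    congr 1
    exact Finset.filter_congr fun x _ => and_comm
  have hX : ∑ y : Y, (Finset.univ.filter fun x => f x = y).card = Fintype.card X :=
    (Finset.card_eq_sum_card_fiberwise (s := Finset.univ) (t := Finset.univ) (f := f)
      fun x _ => Finset.mem_univ _).symm
  have h := Finset.sum_le_sum fun y (_ : y ∈ Finset.univ) => hy y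
  rw [Finset.sum_add_distrib, Finset.sum_add_distrib, ← Finset.mul_sum, ← Finset.mul_sum, hX, hsum, hsum,
    Finset.sum_const, Finset.card_univ, smul_eq_mul] at h
  rw [Nat.card_eq_fintype_card, Nat.card_eq_fintype_card, Nat.card_eq_fintype_card, Nat.card_eq_fintype_card,
    Fintype.card_subtype, Fintype.card_subtype]
  linarith

variable [Finite G]

/-- Iterated conjugates by an element of odd order are distinct. -/
lemma not_fixed_pow {n x : G} {d : ℕ} (h : ¬ Commute n x) (hd : (orderOf n).Coprime d) : ¬ Commute (n ^ d) x := by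
  intro hc
  obtain ⟨m, hm⟩ := exists_pow_eq_self_of_coprime hd.symm
  exact h (hm ▸ hc.pow_left m)

lemma conj_pow_ne {n x : G} {i j : ℕ} (hij : i < j) (h : ¬ Commute (n ^ (j - i)) x) :
    n ^ i * x * (n ^ i)⁻¹ ≠ n ^ j * x * (n ^ j)⁻¹ := by
  intro he
  refine h (?_ : _ * _ = _ * _)
  rw [show j = i + (j - i) by omega, pow_add] at he
  have h2 : x = n ^ (j - i) * x * (n ^ (j - i))⁻¹ := by
    have h3 := congrArg (fun z => (n ^ i)⁻¹ * z * n ^ i) he
    simpa [mul_assoc] using h3
  exact mul_inv_eq_iff_eq_mul.1 h2.symm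

/-- A lower bound for a fibre of `toClass` from the conjugates under the powers of an element. -/
lemma le_card_fibre {p : ℕ} [Fact p.Prime] (P : Sylow p G) {R : Subgroup G} (hR : R ≤ (P : Subgroup G)) {n : G}
    (hn : n ∈ Subgroup.normalizer (R : Set G)) (x : (P : Subgroup G)) (hx : (x : G) ∈ R) (m : ℕ)
    (hm : ∀ i j : ℕ, i < j → j < m → ¬ Commute (n ^ (j - i)) (x : G)) :
    m ≤ Nat.card {x' : (P : Subgroup G) // toClass P x' = toClass P x} := by
  have hmem : ∀ i : ℕ, n ^ i * (x : G) * (n ^ i)⁻¹ ∈ (P : Subgroup G) := fun i =>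
    hR ((Subgroup.mem_normalizer_iff.1 (pow_mem hn i) _).1 hx)
  let g : Fin m → {x' : (P : Subgroup G) // toClass P x' = toClass P x} := fun i => ⟨⟨_, hmem i⟩,
    Subtype.ext (ConjClasses.mk_eq_mk_iff_isConj.2 (isConj_iff.2 ⟨(n ^ (i : ℕ))⁻¹, by group⟩))⟩
  refine le_of_eq_of_le (Nat.card_fin m).symm (Nat.card_le_card_of_injective g fun i j hij => ?_)
  have he : n ^ (i : ℕ) * (x : G) * (n ^ (i : ℕ))⁻¹ = n ^ (j : ℕ) * (x : G) * (n ^ (j : ℕ))⁻¹ :=
    congrArg (fun z : {x' : (P : Subgroup G) // toClass P x' = toClass P x} => ((z.1 : (P : Subgroup G)) : G)) hij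
  rcases Nat.lt_trichotomy (i : ℕ) j with h | h | h
  · exact absurd he (conj_pow_ne h (hm _ _ h j.2))
  · exact Fin.ext h
  · exact absurd he.symm (conj_pow_ne h (hm _ _ h i.2))

/-- A Frobenius failure of `p`-nilpotence in a position where `C_P(Q)` is Sylow in `C(Q)`. -/
lemma exists_bad_subgroup {p : ℕ} [Fact p.Prime] (P : Sylow p G) (h : ¬ Cfsg.HasNormalPComplement p G) :
    ∃ (Q : Subgroup G) (g : G), Q ≤ (P : Subgroup G) ∧ g ∈ Subgroup.normalizer (Q : Set G) ∧
      (orderOf g).Coprime p ∧ g ∉ Subgroup.centralizer (Q : Set G) ∧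
      g ∈ Subgroup.normalizer (((P : Subgroup G) ⊓ Subgroup.centralizer (Q : Set G) : Subgroup G) : Set G) := by
  classical
  have hp : p.Prime := Fact.out
  have h0 : ∃ (Q : Subgroup G) (g : G), Q ≤ (P : Subgroup G) ∧ g ∈ Subgroup.normalizer (Q : Set G) ∧
      (orderOf g).Coprime p ∧ g ∉ Subgroup.centralizer (Q : Set G) := by
    by_contra hcon
    push Not at hcon
    exact h (CfsgLib.Fusion.Alperin.npc_of_frobenius P fun Q hQ g hg ho => hcon Q g hQ hg ho)
  obtain ⟨Q₀, g₀, hQ₀, hg₀, ho₀, hc₀⟩ := h0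
  -- move a Sylow subgroup of the centraliser into `P`
  obtain ⟨D⟩ : Nonempty (Sylow p (Subgroup.centralizer (Q₀ : Set G))) := inferInstance
  set D' := (D : Subgroup (Subgroup.centralizer (Q₀ : Set G))).map (Subgroup.centralizer (Q₀ : Set G)).subtype
  have hD'c : D' ≤ Subgroup.centralizer (Q₀ : Set G) := Subgroup.map_subtype_le _
  have hQD : IsPGroup p ↥(Q₀ ⊔ D') := IsPGroup.to_sup_of_normal_left' (P.2.to_le hQ₀) (D.2.map _)
    (hD'c.trans (Subgroup.centralizer_le_normalizer _))
  obtain ⟨P', hP'⟩ := hQD.exists_le_sylow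
  obtain ⟨w, hw⟩ := MulAction.exists_smul_eq G P' P
  set Q := Q₀.map (MulAut.conj w).toMonoidHom with hQ
  set D'' := D'.map (MulAut.conj w).toMonoidHom with hD''
  have hPw : (P' : Subgroup G).map (MulAut.conj w).toMonoidHom = (P : Subgroup G) := by
    rw [← hw, Sylow.coe_subgroup_smul]; rfl
  have hQP : Q ≤ (P : Subgroup G) := hPw ▸ Subgroup.map_mono (le_sup_left.trans hP')
  have hDP : D'' ≤ (P : Subgroup G) := hPw ▸ Subgroup.map_mono (le_sup_right.trans hP')
  have hcent : ∀ z : G, z ∈ Subgroup.centralizer (Q : Set G) ↔ w⁻¹ * z * w ∈ Subgroup.centralizer (Q₀ : Set G) := by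
    intro z
    rw [Subgroup.mem_centralizer_iff, Subgroup.mem_centralizer_iff]
    constructor
    · intro hz y hy
      have h1 : w * y * w⁻¹ * z = z * (w * y * w⁻¹) := hz _ ⟨y, hy, rfl⟩
      calc y * (w⁻¹ * z * w) = w⁻¹ * (w * y * w⁻¹ * z) * w := by group
        _ = w⁻¹ * (z * (w * y * w⁻¹)) * w := by rw [h1]
        _ = w⁻¹ * z * w * y := by group
    · rintro hz _ ⟨y, hy, rfl⟩
      show w * y * w⁻¹ * z = z * (w * y * w⁻¹)
      calc w * y * w⁻¹ * z = w * (y * (w⁻¹ * z * w)) * w⁻¹ := by group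
        _ = w * (w⁻¹ * z * w * y) * w⁻¹ := by rw [hz y hy]
        _ = z * (w * y * w⁻¹) := by group
  set C := Subgroup.centralizer (Q : Set G) with hC
  have hDC : D'' ≤ C := by
    rintro _ ⟨z, hz, rfl⟩
    rw [hC, hcent]
    simpa [mul_assoc] using hD'c hz
  have hCcard : Nat.card C = Nat.card (Subgroup.centralizer (Q₀ : Set G)) := by
    rw [← CfsgLib.Coprime.card_conj_map (Subgroup.centralizer (Q₀ : Set G)) w]
    congr 2
    ext z
    rw [hC, hcent]
    exact ⟨fun hz => ⟨_, hz, by show w * (w⁻¹ * z * w) * w⁻¹ = z; group⟩, fun ⟨y, hy, he⟩ => by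
      rw [← he]; show w⁻¹ * (w * y * w⁻¹) * w ∈ _; simpa [mul_assoc] using hy⟩
  have hE : (P : Subgroup G) ⊓ C = D'' := by
    refine (Subgroup.eq_of_le_of_card_ge (le_inf hDP hDC) ?_).symm
    obtain ⟨k, hk⟩ := IsPGroup.iff_card.1 (P.2.to_le (inf_le_left : (P : Subgroup G) ⊓ C ≤ (P : Subgroup G)))
    rw [hk, hD'', CfsgLib.Coprime.card_conj_map, Subgroup.card_map_of_injective (Subgroup.subtype_injective _),
      D.card_eq_multiplicity]
    refine Nat.pow_le_pow_right hp.pos ((hp.pow_dvd_iff_le_factorization Nat.card_pos.ne').1 ?_)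
    rw [← hk, ← hCcard]
    exact Subgroup.card_dvd_of_le inf_le_right
  set g := w * g₀ * w⁻¹ with hg
  have hgN : g ∈ Subgroup.normalizer (Q : Set G) :=
    Subgroup.le_normalizer_map (MulAut.conj w).toMonoidHom ⟨g₀, hg₀, rfl⟩
  have hgC : g ∉ C := by
    rw [hC, hcent]
    simpa [hg, mul_assoc] using hc₀
  have hgo : (orderOf g).Coprime p := by rw [hg, orderOf_conj]; exact ho₀
  -- Frattini argument in `C`
  have hgnC : g ∈ Subgroup.normalizer (C : Set G) := by
    refine CfsgLib.Coprime.mem_normalizer_of_conj_map_le fun z hz => Subgroup.mem_centralizer_iff.2 fun y hy => ?_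
    have h1 : g⁻¹ * y * g * z = z * (g⁻¹ * y * g) :=
      Subgroup.mem_centralizer_iff.1 hz _ ((Subgroup.mem_normalizer_iff''.1 hgN y).1 hy)
    calc y * (g * z * g⁻¹) = g * (g⁻¹ * y * g * z) * g⁻¹ := by group
      _ = g * (z * (g⁻¹ * y * g)) * g⁻¹ := by rw [h1]
      _ = g * z * g⁻¹ * y := by group
  have hEle : D''.map (MulAut.conj g).toMonoidHom ≤ C :=
    CfsgLib.Coprime.conj_map_le_iff.2 fun z hz => (Subgroup.mem_normalizer_iff.1 hgnC z).1 (hDC hz)
  obtain ⟨Dg, hDg⟩ := ((((P.2.to_le hDP).map (MulAut.conj g).toMonoidHom)).of_equiv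
    (Subgroup.subgroupOfEquivOfLe hEle).symm).exists_le_sylow
  have hDs : IsPGroup p (D''.subgroupOf C) := (P.2.to_le hDP).of_equiv (Subgroup.subgroupOfEquivOfLe hDC).symm
  obtain ⟨DC, hDC'⟩ := hDs.exists_le_sylow
  have hDCeq : (DC : Subgroup C).map C.subtype = D'' := by
    have hle : D'' ≤ (DC : Subgroup C).map C.subtype := fun z hz => ⟨⟨z, hDC hz⟩, hDC' hz, rfl⟩
    refine (Subgroup.eq_of_le_of_card_ge hle ?_).symm
    rw [hD'', CfsgLib.Coprime.card_conj_map, Subgroup.card_map_of_injective (Subgroup.subtype_injective _),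
      Subgroup.card_map_of_injective (Subgroup.subtype_injective _), DC.card_eq_multiplicity, D.card_eq_multiplicity, hCcard]
  obtain ⟨c, hc⟩ := MulAction.exists_smul_eq C Dg DC
  have hgD : (c : G) * g ∈ Subgroup.normalizer (D'' : Set G) := by
    refine CfsgLib.Coprime.mem_normalizer_of_conj_map_le fun z hz => ?_
    have h1 : (⟨g * z * g⁻¹, hEle ⟨z, hz, rfl⟩⟩ : C) ∈ (Dg : Subgroup C) := hDg (x := ⟨g * z * g⁻¹, hEle ⟨z, hz, rfl⟩⟩) ⟨z, hz, rfl⟩
    have h2 : c * ⟨g * z * g⁻¹, hEle ⟨z, hz, rfl⟩⟩ * c⁻¹ ∈ (DC : Subgroup C) := by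
      rw [← hc, Sylow.coe_subgroup_smul]
      show _ ∈ (fun z => c * z * c⁻¹) '' ((Dg : Subgroup C) : Set C)
      exact ⟨_, h1, rfl⟩
    have h3 : (c : G) * (g * z * g⁻¹) * (c : G)⁻¹ ∈ D'' := hDCeq.le ⟨_, h2, rfl⟩
    rwa [show (c : G) * g * z * ((c : G) * g)⁻¹ = (c : G) * (g * z * g⁻¹) * (c : G)⁻¹ by group]
  have hgN' : (c : G) * g ∈ Subgroup.normalizer (Q : Set G) :=
    mul_mem (Subgroup.centralizer_le_normalizer _ c.2) hgN
  obtain ⟨k, hk⟩ := CfsgLib.Fusion.Basic.exists_pow_coprime (p := p) ((c : G) * g)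
  refine ⟨Q, ((c : G) * g) ^ p ^ k, hQP, pow_mem hgN' _, hk, fun hmem => hgC ?_, ?_⟩
  · -- modulo `C` the element is `g ^ p ^ k`
    have hsup : ∀ i : ℕ, ((c : G) * g) ^ i * (g ^ i)⁻¹ ∈ C := by
      intro i
      induction i with
      | zero => simp
      | succ i ih =>
        rw [pow_succ', pow_succ', show (c : G) * g * ((c : G) * g) ^ i * (g * g ^ i)⁻¹
          = (c : G) * (g * (((c : G) * g) ^ i * (g ^ i)⁻¹) * g⁻¹) by group]
        exact C.mul_mem c.2 ((Subgroup.mem_normalizer_iff.1 hgnC _).1 ih)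
    have h1 : g ^ p ^ k ∈ C := by
      have := C.mul_mem (C.inv_mem (hsup (p ^ k))) hmem
      rwa [mul_inv_rev, inv_inv, inv_mul_cancel_right] at this
    obtain ⟨m, hm⟩ := exists_pow_eq_self_of_coprime ((hgo.pow_right k).symm)
    exact hm ▸ C.pow_mem h1 m
  · rw [hE]; exact pow_mem hgD _

/-- For `p = 2`: a group that is not `2`-nilpotent has at most `|P| / 2` classes of `2`-elements. -/
theorem two_mul_card_pclasses_le (P : Sylow 2 G) (h : ¬ Cfsg.HasNormalPComplement 2 G) :
    2 * Nat.card (PClasses 2 G) ≤ Nat.card (P : Subgroup G) := by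
  obtain ⟨Q, g, hQ, hgQ, hgo, hgC, hgD⟩ := exists_bad_subgroup P h
  have hodd : Odd (orderOf g) := Nat.coprime_two_right.1 hgo
  set D := (P : Subgroup G) ⊓ Subgroup.centralizer (Q : Set G) with hD
  set R := Q ⊔ D with hR
  have hRP : R ≤ (P : Subgroup G) := sup_le hQ inf_le_left
  have hgR : g ∈ Subgroup.normalizer (R : Set G) :=
    Subgroup.normalizer_inf_normalizer_le_normalizer_sup Q D ⟨hgQ, hgD⟩
  set C := R ⊓ Subgroup.centralizer ({g} : Set G) with hC
  set S : Set (P : Subgroup G) := {x | ∀ x', toClass P x' = toClass P x → x' = x}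
  have hSC : ∀ x ∈ S, (x : G) ∈ C := by
    intro x hx
    have hZ : ∀ v ∈ (P : Subgroup G), v * (x : G) * v⁻¹ = x := fun v hv =>
      congrArg Subtype.val (hx ⟨_, (P : Subgroup G).mul_mem ((P : Subgroup G).mul_mem hv x.2) ((P : Subgroup G).inv_mem hv)⟩
        (Subtype.ext (ConjClasses.mk_eq_mk_iff_isConj.2 (isConj_iff.2 ⟨v⁻¹, by group⟩))))
    have hxD : (x : G) ∈ D := ⟨x.2, Subgroup.mem_centralizer_iff.2 fun y hy => mul_inv_eq_iff_eq_mul.1 (hZ y (hQ hy))⟩
    refine ⟨Subgroup.mem_sup_right hxD, Subgroup.mem_centralizer_singleton_iff.2 ?_⟩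
    have hmem : g * (x : G) * g⁻¹ ∈ (P : Subgroup G) := ((Subgroup.mem_normalizer_iff.1 hgD _).1 hxD).1
    have := congrArg Subtype.val (hx ⟨_, hmem⟩
      (Subtype.ext (ConjClasses.mk_eq_mk_iff_isConj.2 (isConj_iff.2 ⟨g⁻¹, by group⟩))))
    exact (mul_inv_eq_iff_eq_mul.1 this).symm
  set T : Set (P : Subgroup G) := {x | (x : G) ∈ R ∧ (x : G) ∉ C}
  have hTfib : ∀ x ∈ T, 3 ≤ Nat.card {x' : (P : Subgroup G) // toClass P x' = toClass P x} := by
    rintro x ⟨hxR, hxC⟩
    have hnc : ¬ Commute g (x : G) := fun hc => hxC ⟨hxR, Subgroup.mem_centralizer_singleton_iff.2 hc.eq.symm⟩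
    refine le_card_fibre P hRP hgR x hxR 3 fun i j hij hj => not_fixed_pow hnc ?_
    rcases (show j - i = 1 ∨ j - i = 2 by omega) with h | h <;> rw [h]
    · exact Nat.coprime_one_right _
    · exact hgo
  have hcount := six_mul_le_of_fibres (toClass P) (toClass_surjective P) S T (fun x hx => hx) hTfib
  have hS : Nat.card S ≤ Nat.card C :=
    Nat.card_le_card_of_injective (fun x : S => (⟨((x : (P : Subgroup G)) : G), hSC x.1 x.2⟩ : C))
      fun a b hab => Subtype.ext (Subtype.ext (congrArg (fun z : C => (z : G)) hab))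
  have hT : Nat.card C + Nat.card T = Nat.card R := by
    classical
    rw [← Nat.card_sum]
    refine Nat.card_congr (Equiv.ofBijective
      (Sum.elim (fun z : C => (⟨(z : G), z.2.1⟩ : R)) (fun z : T => ⟨((z : (P : Subgroup G)) : G), z.2.1⟩)) ⟨?_, ?_⟩)
    · rintro (a | a) (b | b) hab <;> have hab' := congrArg (fun z : R => (z : G)) hab <;> simp at hab'
      · exact congrArg Sum.inl hab'
      · exact absurd (hab' ▸ a.2) b.2.2
      · exact absurd (hab'.symm ▸ b.2) a.2.2
      · exact congrArg Sum.inr (Subtype.ext hab')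
    · intro z
      by_cases hz : (z : G) ∈ C
      · exact ⟨Sum.inl ⟨z, hz⟩, rfl⟩
      · exact ⟨Sum.inr ⟨⟨z, hRP z.2⟩, z.2, hz⟩, rfl⟩
  have h4 : 4 * Nat.card C ≤ Nat.card R := by
    obtain ⟨i, hi⟩ := (P.2.to_le hRP).index (C.subgroupOf R)
    have hCR : C ≤ R := inf_le_left
    have hmul := CfsgLib.Coprime.card_mul_relIndex' hCR
    rw [Subgroup.relIndex, hi] at hmul
    have hne : ∀ h : R ≤ Subgroup.centralizer ({g} : Set G), False := fun h => hgC
      (Subgroup.mem_centralizer_iff.2 fun q hq => Subgroup.mem_centralizer_singleton_iff.1 (h (Subgroup.mem_sup_left hq)))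
    rcases (show i = 0 ∨ i = 1 ∨ 2 ≤ i by omega) with rfl | rfl | h2
    · exfalso
      rw [pow_zero, mul_one] at hmul
      exact hne ((Subgroup.eq_of_le_of_card_ge hCR hmul.ge).ge.trans inf_le_right)
    · exfalso
      refine hne fun k hk => ?_
      by_cases hkC : k ∈ C
      · exact hkC.2
      have hgC' : g ∈ Subgroup.centralizer (C : Set G) :=
        Subgroup.mem_centralizer_iff.2 fun z hz => Subgroup.mem_centralizer_singleton_iff.1 hz.2
      have hgk : g * k * g⁻¹ ∈ R := (Subgroup.mem_normalizer_iff.1 hgR k).1 hk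
      have hgkC : g * k * g⁻¹ ∉ C := fun hc => hkC (by
        have h1 := Subgroup.mem_centralizer_iff.1 hgC' _ hc
        have h2 : g * k * g⁻¹ = k := by
          rw [show g * k * g⁻¹ = g⁻¹ * (g * (g * k * g⁻¹)) by group, ← h1]
          group
        exact h2 ▸ hc)
      have hidx : (C.subgroupOf R).index = 2 := by rw [hi, pow_one]
      have hmem : ⁅g, k⁆ ∈ C := by
        have := (Subgroup.mul_mem_iff_of_index_two hidx (a := (⟨_, hgk⟩ : R)) (b := ⟨k⁻¹, inv_mem hk⟩)).2
          (by simp only [Subgroup.mem_subgroupOf]; exact iff_of_false hgkC fun hc => hkC (by simpa using C.inv_mem hc))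
        exact this
      have hcop : (orderOf g).Coprime (Nat.card C) := by
        obtain ⟨j, hj⟩ := IsPGroup.iff_card.1 (P.2.to_le (hCR.trans hRP))
        rw [hj]; exact hgo.pow_right j
      exact Subgroup.mem_centralizer_singleton_iff.2 (CfsgLib.Coprime.commute_of_stabilizes hcop hgC' hmem).eq.symm
    · calc 4 * Nat.card C = Nat.card C * 2 ^ 2 := by ring
        _ ≤ Nat.card C * 2 ^ i := Nat.mul_le_mul_left _ (Nat.pow_le_pow_right two_pos h2)
        _ = Nat.card R := hmul
  linarith

/-- In a group of odd order: `p`-nilpotent with abelian Sylow subgroups, or at most `|P| / 2` classes. -/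
theorem npc_or_half_of_odd (hodd : Odd (Nat.card G)) {p : ℕ} [Fact p.Prime] (P : Sylow p G) :
    (Cfsg.HasNormalPComplement p G ∧ IsMulCommutative (P : Subgroup G)) ∨
      2 * Nat.card (PClasses p G) ≤ Nat.card (P : Subgroup G) := by
  have hp : p.Prime := Fact.out
  by_cases hdvd : p ∣ Nat.card G
  swap
  · left
    have h1 : Nat.card (P : Subgroup G) = 1 := by
      rw [P.card_eq_multiplicity, Nat.factorization_eq_zero_of_not_dvd hdvd, pow_zero]
    exact ⟨CfsgLib.Fusion.Basic.npc_of_not_dvd hdvd,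
      ⟨⟨fun a b => by rw [(Nat.card_eq_one_iff_unique.1 h1).1.elim a b]⟩⟩⟩
  have hp3 : 3 ≤ p := by
    have h2 : p ≠ 2 := fun h => (Nat.not_even_iff_odd.2 hodd) (even_iff_two_dvd.2 (h ▸ hdvd))
    have := hp.two_le; omega
  have hPpos : 0 < Nat.card (P : Subgroup G) := Nat.card_pos
  by_cases hab : IsMulCommutative (P : Subgroup G)
  swap
  · rcases npc_or_few_classes P with h | h
    · exact Or.inl h
    · -- the non-abelian bound is below one half for odd `p`
      right
      have key := card_mul_le_of_fibres (fun x : (P : Subgroup G) => ConjClasses.mk x)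
        ConjClasses.mk_surjective (Subgroup.center (P : Subgroup G) : Set (P : Subgroup G)) p hp.one_le fun x hx => ?_
      · have hle := card_pclasses_le_classes P
        have hPp : IsPGroup p (P : Subgroup G) := P.2
        obtain ⟨j, hj⟩ := hPp.index (Subgroup.center (P : Subgroup G))
        have hj2 : 2 ≤ j := by
          by_contra hlt
          have hcyc : IsCyclic ((P : Subgroup G) ⧸ Subgroup.center (P : Subgroup G)) := by
            rcases Nat.le_one_iff_eq_zero_or_eq_one.1 (show j ≤ 1 by omega) with h | h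
            · have : Subsingleton ((P : Subgroup G) ⧸ Subgroup.center (P : Subgroup G)) :=
                (Nat.card_eq_one_iff_unique.1 (by rw [← Subgroup.index_eq_card, hj, h, pow_zero])).1
              infer_instance
            · exact isCyclic_of_prime_card (p := p) (by rw [← Subgroup.index_eq_card, hj, h, pow_one])
          exact hab (MonoidHom.isMulCommutative_of_isCyclic_of_ker_le_center
            (QuotientGroup.mk' (Subgroup.center (P : Subgroup G))) (by rw [QuotientGroup.ker_mk']))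
        have hZle : p * p * Nat.card (Subgroup.center (P : Subgroup G)) ≤ Nat.card (P : Subgroup G) := by
          rw [← (Subgroup.center (P : Subgroup G)).index_mul_card, hj, ← sq]
          exact Nat.mul_le_mul_right _ (Nat.pow_le_pow_right hp.pos hj2)
        rw [show Nat.card (Subgroup.center (P : Subgroup G) : Set (P : Subgroup G)) =
          Nat.card (Subgroup.center (P : Subgroup G)) from rfl] at key
        obtain ⟨p', rfl⟩ : ∃ p', p = p' + 3 := ⟨p - 3, by omega⟩
        simp only [show p' + 3 - 1 = p' + 2 by omega] at key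
        set Z := Nat.card (Subgroup.center (P : Subgroup G))
        have h9 : 9 * Z ≤ Nat.card (P : Subgroup G) :=
          (Nat.mul_le_mul_right _ (by nlinarith : 9 ≤ (p' + 3) * (p' + 3))).trans hZle
        nlinarith [Nat.mul_le_mul_left (p' + 2) h9, Nat.mul_le_mul_left (p' + 3) hle]
      · by_contra hlt
        rw [not_le] at hlt
        refine hx (Subgroup.mem_center_iff.2 fun v => ?_)
        by_contra hne
        obtain ⟨i, hi⟩ := IsPGroup.iff_orderOf.1 P.2 v
        have hcomm : ¬ Commute v x := hne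
        have hinj : Function.Injective (fun k : Fin p => (⟨v ^ (k : ℕ) * x * (v ^ (k : ℕ))⁻¹,
            ConjClasses.mk_eq_mk_iff_isConj.2 (isConj_iff.2 ⟨(v ^ (k : ℕ))⁻¹, by group⟩)⟩ :
            {x' : (P : Subgroup G) // ConjClasses.mk x' = ConjClasses.mk x})) := by
          intro a b hab'
          have he := congrArg Subtype.val hab'
          have hd : ∀ a b : ℕ, a < b → b < p → ¬ Commute (v ^ (b - a)) x := fun a b h1 h2 =>
            not_fixed_pow hcomm (hi ▸ Nat.Coprime.pow_left i
              (hp.coprime_iff_not_dvd.2 fun hd => absurd (Nat.le_of_dvd (by omega) hd) (by omega)))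
          rcases Nat.lt_trichotomy (a : ℕ) b with h | h | h
          · exact absurd he (conj_pow_ne h (hd _ _ h b.2))
          · exact Fin.ext h
          · exact absurd he.symm (conj_pow_ne h (hd _ _ h a.2))
        have := Nat.card_le_card_of_injective _ hinj
        rw [Nat.card_fin] at this
        omega
  by_cases hN : Subgroup.normalizer ((P : Subgroup G) : Set G) ≤ Subgroup.centralizer ((P : Subgroup G) : Set G)
  · exact Or.inl ⟨CfsgLib.Fusion.Abelian.npc_of_normalizer_le_centralizer P hN, hab⟩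
  right
  obtain ⟨n₀, hn₀, hn₀C⟩ := SetLike.not_le_iff_exists.1 hN
  -- the `p'`-part still acts nontrivially
  obtain ⟨k, hk⟩ := CfsgLib.Fusion.Basic.exists_pow_coprime (p := p) n₀
  set n := n₀ ^ p ^ k with hn
  have hnN : n ∈ Subgroup.normalizer ((P : Subgroup G) : Set G) := pow_mem hn₀ _
  have hnC : n ∉ Subgroup.centralizer ((P : Subgroup G) : Set G) := by
    intro hc
    set m := orderOf n with hm
    obtain ⟨s, t, hst⟩ : IsCoprime ((p ^ k : ℕ) : ℤ) (m : ℤ) := Nat.isCoprime_iff_coprime.2 ((hk.pow_right k).symm)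
    have hpart : (n₀ ^ ((m : ℕ) : ℤ)) ^ t ∈ (P : Subgroup G) := by
      refine zpow_mem ?_ t
      rw [zpow_natCast]
      have hq : (n₀ ^ m) ^ p ^ k = 1 := by rw [← pow_mul, mul_comm, pow_mul, ← hn, hm, pow_orderOf_eq_one]
      obtain ⟨i, -, hi⟩ := (Nat.dvd_prime_pow hp).1 (orderOf_dvd_of_pow_eq_one hq)
      have hpz : IsPGroup p (Subgroup.zpowers (n₀ ^ m)) := IsPGroup.of_card (n := i) (by rw [Nat.card_zpowers, hi])
      have hsup : IsPGroup p ↥((P : Subgroup G) ⊔ Subgroup.zpowers (n₀ ^ m)) :=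
        IsPGroup.to_sup_of_normal_left' P.2 hpz (Subgroup.zpowers_le.2 (pow_mem hn₀ m))
      exact (P.is_maximal' hsup le_sup_left).le (Subgroup.mem_sup_right (Subgroup.mem_zpowers _))
    refine hn₀C ?_
    have hsplit : n₀ = n ^ s * (n₀ ^ ((m : ℕ) : ℤ)) ^ t := by
      rw [hn, ← zpow_natCast, ← zpow_mul, ← zpow_mul, ← zpow_add,
        show ((p ^ k : ℕ) : ℤ) * s + ((m : ℕ) : ℤ) * t = 1 by linarith, zpow_one]
    rw [hsplit]
    exact mul_mem (zpow_mem hc s) (Subgroup.mem_centralizer_iff.2 fun y hy =>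
      congrArg Subtype.val (hab.is_comm.comm (⟨y, hy⟩ : (P : Subgroup G)) ⟨_, hpart⟩))
  have hnodd : Odd (orderOf n) := hodd.of_dvd_nat (orderOf_dvd_natCard n)
  set F := (P : Subgroup G) ⊓ Subgroup.centralizer ({n} : Set G) with hF
  have hlt : F < (P : Subgroup G) := lt_of_le_of_ne inf_le_left fun h => hnC
    (Subgroup.mem_centralizer_iff.2 fun x hx => Subgroup.mem_centralizer_singleton_iff.1 (h.ge hx).2)
  have hfixcard : Nat.card ((F.subgroupOf (P : Subgroup G) : Subgroup (P : Subgroup G)) : Set (P : Subgroup G)) = Nat.card F :=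
    Nat.card_congr (Subgroup.subgroupOfEquivOfLe inf_le_left).toEquiv
  have h2 := card_mul_le_of_lt P.2 hlt
  have hnotC : ∀ x : (P : Subgroup G), x ∉ (F.subgroupOf (P : Subgroup G) : Set (P : Subgroup G)) → ¬ Commute n (x : G) :=
    fun x hx hc => hx ⟨x.2, Subgroup.mem_centralizer_singleton_iff.2 hc.eq.symm⟩
  by_cases hp5 : p = 3
  · subst hp5
    have key := card_mul_le_of_fibres (toClass P) (toClass_surjective P) _ 5 (by norm_num) fun x hx =>
      le_card_fibre P le_rfl hnN x x.2 5 fun i j hij hj => not_fixed_pow (hnotC x hx) (by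
        rcases (show j - i = 1 ∨ j - i = 2 ∨ j - i = 3 ∨ j - i = 4 by omega) with h | h | h | h <;> rw [h]
        · exact Nat.coprime_one_right _
        · exact Nat.coprime_two_right.2 hnodd
        · exact hk
        · exact (Nat.coprime_two_right.2 hnodd).pow_right 2)
    rw [hfixcard] at key
    linarith
  · have hp5' : 4 ≤ p := by omega
    have key := card_mul_le_of_fibres (toClass P) (toClass_surjective P) _ 3 (by norm_num) fun x hx =>
      le_card_fibre P le_rfl hnN x x.2 3 fun i j hij hj => not_fixed_pow (hnotC x hx) (by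
        rcases (show j - i = 1 ∨ j - i = 2 by omega) with h | h <;> rw [h]
        · exact Nat.coprime_one_right _
        · exact Nat.coprime_two_right.2 hnodd)
    rw [hfixcard] at key
    nlinarith [Nat.mul_le_mul_right (Nat.card F) hp5']

end CfsgLib.Coprime.PClassCount
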