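import Cfsg.Agent.Lib.Fusion.SL2Sections
import Cfsg.Agent.Lib.Coprime.Action
import Cfsg.Agent.Lib.Solvable.FrattiniFitting
import Mathlib

set_option autoImplicit false

/-!
Pairs of `p`-stable constrained subgroups, each containing the largest normal `p`-subgroup of the other, whose
centralisers of normal `p`-subgroups behave as in a primitive pair, have a common nontrivial normal `p`-subgroup.
-/

namespace CfsgLib.Coprime.PrimitivePair

open Subgroup CfsgLib.Solvable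
open scoped commutatorElement

universe u

section Local

variable {H : Type u} [Group H] [Finite H] {p : ℕ} [hp : Fact p.Prime]

theorem isPStableOn_of_abelian (hp2 : p ≠ 2) (hab : ∀ T : Sylow 2 H, IsMulCommutative T) (P : Subgroup H)
    [P.Normal] (hP : IsPGroup p P) : Cfsg.IsPStableOn p P := by
  haveI : Fact (Nat.Prime 2) := ⟨Nat.prime_two⟩
  refine Fusion.SL2Sections.isPStableOn_of_frattini P hP fun V _ hV => ?_
  refine (Fusion.QuadStable.isActionPStable_of_abelian_sylow_two hp2 (fun T => ?_)).1 V hV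
  obtain ⟨S⟩ : Nonempty (Sylow 2 H) := inferInstance
  obtain ⟨g, hg⟩ := MulAction.exists_smul_eq (H ⧸ (frattini ↥P).map P.subtype)
    (S.mapSurjective (QuotientGroup.mk'_surjective _)) T
  rw [← hg, Sylow.coe_subgroup_smul, Sylow.coe_mapSurjective]
  haveI := hab S
  exact inferInstanceAs (IsMulCommutative ((((S : Subgroup H).map (QuotientGroup.mk' _))).map
    (MulAut.conj g).toMonoidHom))

theorem mem_pCore_of_quad_self (hc : centralizer (Cfsg.pCore p H : Set H) ≤ Cfsg.pCore p H)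
    (hst : ∀ (P : Subgroup H) [P.Normal], IsPGroup p P → Cfsg.IsPStableOn p P) {a : H}
    (hq : ⁅⁅Cfsg.pCore p H, zpowers a⁆, zpowers a⁆ = ⊥) : a ∈ Cfsg.pCore p H := by
  set Q := Cfsg.pCore p H with hQ
  set C := centralizer (Q : Set H) with hC
  have h1 : QuotientGroup.mk' C a ∈ Cfsg.pCore p (H ⧸ C) := hst Q (Cores.isPGroup_pCore p) a hq
  have hCp : IsPGroup p C := (Cores.isPGroup_pCore p).to_le hc
  haveI : ((Cfsg.pCore p (H ⧸ C)).comap (QuotientGroup.mk' C)).Normal :=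
    Normal.comap inferInstance _
  have hD : IsPGroup p ((Cfsg.pCore p (H ⧸ C)).comap (QuotientGroup.mk' C)) :=
    (Cores.isPGroup_pCore p).comap_of_ker_isPGroup _ (by rw [QuotientGroup.ker_mk']; exact hCp)
  exact Cores.le_pCore hD h1

/-- A `p`-element acting quadratically on `U` and centralising `C(U)` modulo `O_p` lies in `O_p`. -/
theorem mem_pCore_of_quad {U : Subgroup H} [U.Normal] (hst : Cfsg.IsPStableOn p U) {a : H}
    (ha : ∃ k : ℕ, a ^ p ^ k = 1) (hq : ⁅⁅U, zpowers a⁆, zpowers a⁆ = ⊥)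
    (hC : ∀ c ∈ centralizer (U : Set H), ⁅a, c⁆ ∈ Cfsg.pCore p H) : a ∈ Cfsg.pCore p H := by
  set Q := Cfsg.pCore p H with hQ
  set C := centralizer (U : Set H) with hCdef
  set D := (Cfsg.pCore p (H ⧸ C)).comap (QuotientGroup.mk' C) with hD
  haveI : D.Normal := Normal.comap inferInstance _
  set π := QuotientGroup.mk' Q with hπ
  set Cb := C.map π with hCb
  haveI : Cb.Normal := Normal.map inferInstance π (QuotientGroup.mk'_surjective Q)
  set E := D.map π ⊓ centralizer (Cb : Set (H ⧸ Q)) with hE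
  haveI : (D.map π).Normal := Normal.map inferInstance π (QuotientGroup.mk'_surjective Q)
  haveI : E.Normal := inferInstance
  let ψ := (QuotientGroup.mk' Cb).comp E.subtype
  have hker : ψ.ker ≤ center E := by
    intro e he
    have he' : (e : H ⧸ Q) ∈ Cb := (QuotientGroup.eq_one_iff _).mp he
    exact mem_center_iff.mpr fun z => Subtype.ext (mem_centralizer_iff.mp z.2.2 _ he').symm
  have hrange : IsPGroup p ψ.range := by
    have h1 : ψ.range ≤ D.map ((QuotientGroup.mk' Cb).comp π) := by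
      rintro _ ⟨⟨e, ⟨d, hd, rfl⟩, -⟩, rfl⟩
      exact ⟨d, hd, rfl⟩
    refine IsPGroup.to_le (?_ : IsPGroup p (D.map ((QuotientGroup.mk' Cb).comp π))) h1
    let l : H ⧸ C →* (H ⧸ Q) ⧸ Cb := QuotientGroup.lift C ((QuotientGroup.mk' Cb).comp π) (fun c hc =>
      (QuotientGroup.eq_one_iff _).mpr (mem_map_of_mem π hc))
    have e : (QuotientGroup.mk' Cb).comp π = l.comp (QuotientGroup.mk' C) := MonoidHom.ext fun _ => rfl
    rw [e, ← map_map, hD, map_comap_eq_self_of_surjective (QuotientGroup.mk'_surjective C)]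
    exact (Cores.isPGroup_pCore p).map l
  haveI : Group.IsNilpotent ψ.range := hrange.isNilpotent
  have hker' : ψ.rangeRestrict.ker ≤ center E := by rwa [MonoidHom.ker_rangeRestrict]
  haveI : Group.IsNilpotent E := Subgroup.isNilpotent_of_ker_le_center ψ.rangeRestrict hker'
  have haE : π a ∈ E := by
    refine ⟨mem_map_of_mem π (hst a hq : a ∈ D), mem_centralizer_iff.mpr ?_⟩
    rintro _ ⟨c, hc, rfl⟩
    refine (commutatorElement_eq_one_iff_mul_comm.mp ?_).symm
    rw [← map_commutatorElement]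
    exact (QuotientGroup.eq_one_iff _).mpr (hC c hc)
  obtain ⟨k, hk⟩ := ha
  have hap : IsPGroup p (zpowers (⟨π a, haE⟩ : E)) := fun z => ⟨k, by
    obtain ⟨i, hi⟩ := mem_zpowers_iff.mp z.2
    refine Subtype.ext ?_
    rw [SubmonoidClass.coe_pow, ← hi, ← zpow_natCast, ← zpow_mul, mul_comm, zpow_mul, zpow_natCast,
      show (⟨π a, haE⟩ : E) ^ p ^ k = 1 from Subtype.ext (by rw [SubmonoidClass.coe_pow, ← map_pow, hk, map_one]; rfl),
      one_zpow, Subgroup.coe_one]⟩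
  obtain ⟨P, hP⟩ := hap.exists_le_sylow
  haveI : (P : Subgroup E).Normal := Sylow.normal_of_normalizerCondition
    Group.normalizerCondition_of_isNilpotent P
  haveI : (P : Subgroup E).Characteristic := P.characteristic_of_normal inferInstance
  have hle : (P : Subgroup E).map E.subtype ≤ Cfsg.pCore p (H ⧸ Q) := Cores.le_pCore (P.isPGroup'.map _)
  have htriv : Cfsg.pCore p (H ⧸ Q) = ⊥ := by
    haveI : ((Cfsg.pCore p (H ⧸ Q)).comap π).Normal := Normal.comap inferInstance _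
    have h := Cores.le_pCore ((Cores.isPGroup_pCore (G := H ⧸ Q) p).comap_of_ker_isPGroup π
      (by rw [QuotientGroup.ker_mk']; exact Cores.isPGroup_pCore p))
    rw [← map_comap_eq_self_of_surjective (QuotientGroup.mk'_surjective Q) (Cfsg.pCore p (H ⧸ Q)), Subgroup.map_eq_bot_iff,
      QuotientGroup.ker_mk']
    exact h
  have h2 : π a ∈ Cfsg.pCore p (H ⧸ Q) := hle (mem_map_of_mem E.subtype (hP (mem_zpowers _)))
  rw [htriv, mem_bot] at h2
  exact (QuotientGroup.eq_one_iff a).mp h2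

/-- On a minimal normal `p`-subgroup every quadratic element of a `p`-stable group acts trivially. -/
theorem mem_centralizer_of_quad {Y : Subgroup H} [Y.Normal] (hst : Cfsg.IsPStableOn p Y) (hY : IsPGroup p Y)
    (hY1 : Y ≠ ⊥) (hmin : ∀ W : Subgroup H, W.Normal → W ≤ Y → W = ⊥ ∨ W = Y) {a : H}
    (hq : ⁅⁅Y, zpowers a⁆, zpowers a⁆ = ⊥) : a ∈ centralizer (Y : Set H) := by
  set C := centralizer (Y : Set H) with hC
  set D := (Cfsg.pCore p (H ⧸ C)).comap (QuotientGroup.mk' C) with hD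
  haveI : D.Normal := Normal.comap inferInstance _
  obtain ⟨P⟩ : Nonempty (Sylow p H) := inferInstance
  have hYP : Y ≤ P := hY.le_sylow_of_normal P
  have hDP : D ≤ C ⊔ ((P : Subgroup H) ⊓ D) :=
    CfsgLib.OddOrder.ZJ.le_of_isPGroup_map (QuotientGroup.le_comap_mk' C _)
      (by rw [hD, map_comap_eq_self_of_surjective (QuotientGroup.mk'_surjective C)]
          exact Cores.isPGroup_pCore p) P le_sup_left le_sup_right
  haveI := P.isPGroup'.isNilpotent
  haveI : (Y.subgroupOf (P : Subgroup H)).Normal := inferInstance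
  obtain ⟨z, hz, hz1⟩ := (Y.subgroupOf (P : Subgroup H) ⊓ center (P : Subgroup H)).bot_or_exists_ne_one.resolve_left
    (FrattiniFitting.inf_center_ne_bot _ fun h => hY1 ((subgroupOf_eq_bot.mp h).eq_bot_of_le hYP))
  have hzD : (z : H) ∈ Y ⊓ centralizer (D : Set H) := by
    refine ⟨mem_subgroupOf.mp hz.1, ?_⟩
    refine centralizer_le (SetLike.coe_subset_coe.mpr hDP) ?_
    refine mem_centralizer_iff.mpr fun d hd => ?_
    have : C ⊔ ((P : Subgroup H) ⊓ D) ≤ centralizer {(z : H)} := by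
      refine sup_le (fun c hc => mem_centralizer_singleton_iff.mpr ?_) (fun s hs => mem_centralizer_singleton_iff.mpr ?_)
      · exact (mem_centralizer_iff.mp hc z (mem_subgroupOf.mp hz.1)).symm
      · exact congrArg Subtype.val (mem_center_iff.mp hz.2 ⟨s, hs.1⟩)
    exact mem_centralizer_singleton_iff.mp (this hd)
  have hne : Y ⊓ centralizer (D : Set H) ≠ ⊥ := fun h => hz1 (Subtype.ext (mem_bot.mp (h ▸ hzD)))
  have h := (hmin _ inferInstance inf_le_left).resolve_left hne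
  have haD : a ∈ D := hst a hq
  exact le_centralizer_iff.mp (h.symm.le.trans inf_le_right) haD

end Local

variable {G : Type u} [Group G] [Finite G] {p : ℕ} [hp : Fact p.Prime]

/-- A vertex: a subgroup `M`, the subgroup `O_p(M)` and a minimal normal `p`-subgroup. -/
structure Good (p : ℕ) (M Q Y : Subgroup G) : Prop where
  leQ : Y ≤ Q
  le : Q ≤ M
  nQ : M ≤ normalizer (Q : Set G)
  pQ : IsPGroup p Q
  maxQ : ∀ P, P ≤ M → M ≤ normalizer (P : Set G) → IsPGroup p P → P ≤ Q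
  cQ : M ⊓ centralizer (Q : Set G) ≤ Q
  nY : M ≤ normalizer (Y : Set G)
  comm : IsMulCommutative Y
  ne : Y ≠ ⊥
  red : ∀ W, W ≤ Y → M ≤ normalizer (W : Set G) → W = ⊥ ∨ W = Y
  two : ∀ S, S ≤ M → IsPGroup 2 S → IsMulCommutative S

theorem normal_subgroupOf {M K : Subgroup G} (h : M ≤ normalizer (K : Set G)) : (K.subgroupOf M).Normal :=
  normal_subgroupOf_of_le_normalizer h

namespace Good

variable {M Q Y : Subgroup G}

theorem pCore_eq (hg : Good p M Q Y) : Cfsg.pCore p M = Q.subgroupOf M := by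
  haveI := normal_subgroupOf hg.nQ
  refine le_antisymm (fun x hx => ?_) (Cores.le_pCore (hg.pQ.comap_of_injective M.subtype M.subtype_injective))
  have h := hg.maxQ ((Cfsg.pCore p M).map M.subtype) (map_subtype_le _) ?_ ((Cores.isPGroup_pCore p).map _)
  · exact h ⟨x, hx, rfl⟩
  · exact fun g hg' => CfsgLib.OddOrder.PStable.normalizer_le_normalizer_map M _ (le_normalizer hg')

theorem centralizer_le (hg : Good p M Q Y) :
    centralizer (Cfsg.pCore p M : Set M) ≤ Cfsg.pCore p M := by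
  rw [hg.pCore_eq]
  intro x hx
  refine hg.cQ ⟨x.2, mem_centralizer_iff.mpr fun q hq => ?_⟩
  exact congrArg Subtype.val (mem_centralizer_iff.mp hx ⟨q, hg.le hq⟩ hq)

theorem stable (hg : Good p M Q Y) (hp2 : p ≠ 2) (P : Subgroup M) [P.Normal] (hP : IsPGroup p P) :
    Cfsg.IsPStableOn p P := by
  haveI : Fact (Nat.Prime 2) := ⟨Nat.prime_two⟩
  refine isPStableOn_of_abelian hp2 (fun T => ?_) P hP
  haveI := hg.two _ (map_subtype_le _) (T.isPGroup'.map M.subtype)
  refine ⟨⟨fun a b => Subtype.ext (M.subtype_injective ?_)⟩⟩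
  exact congrArg Subtype.val (mul_comm' (⟨_, mem_map_of_mem M.subtype a.2⟩ : (T : Subgroup M).map M.subtype)
    ⟨_, mem_map_of_mem M.subtype b.2⟩)

end Good

theorem quad_subgroupOf {M U : Subgroup G} (hU : U ≤ M) {a : G} (ha : a ∈ M)
    (hq : ⁅⁅U, zpowers a⁆, zpowers a⁆ = ⊥) :
    ⁅⁅U.subgroupOf M, zpowers (⟨a, ha⟩ : M)⁆, zpowers (⟨a, ha⟩ : M)⁆ = ⊥ := by
  rw [← map_eq_bot_iff_of_injective _ M.subtype_injective, map_commutator, map_commutator, MonoidHom.map_zpowers,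
    map_subgroupOf_eq_of_le hU]
  exact hq

/-- `[[U, a], a] = 1` when `U` normalises an abelian subgroup containing `a`. -/
theorem quad_of_normalizes {U X : Subgroup G} (hU : U ≤ normalizer (X : Set G)) (hX : IsMulCommutative X) {a : G}
    (ha : a ∈ X) : ⁅⁅U, zpowers a⁆, zpowers a⁆ = ⊥ := by
  haveI := hX
  have hz : zpowers a ≤ X := zpowers_le.mpr ha
  exact le_bot_iff.mp ((commutator_mono (commutator_mono le_rfl hz) hz).trans
    (CfsgLib.OddOrder.PStable.commutator_commutator_of_abelian hU).le)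

namespace Good

variable {M Q Y : Subgroup G}

theorem mem_of_quad_self (hg : Good p M Q Y) (hp2 : p ≠ 2) {a : G} (ha : a ∈ M)
    (hq : ⁅⁅Q, zpowers a⁆, zpowers a⁆ = ⊥) : a ∈ Q := by
  have h := mem_pCore_of_quad_self (a := (⟨a, ha⟩ : M)) hg.centralizer_le (fun P _ hP => hg.stable hp2 P hP)
    (by rw [hg.pCore_eq]; exact quad_subgroupOf hg.le ha hq)
  rw [hg.pCore_eq] at h
  exact h

theorem mem_of_quad (hg : Good p M Q Y) (hp2 : p ≠ 2) {U : Subgroup G} (hUQ : U ≤ Q)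
    (hUn : M ≤ normalizer (U : Set G)) {R : Subgroup G} (hR : IsPGroup p R) {a : G} (ha : a ∈ M) (haR : a ∈ R)
    (hCR : M ⊓ centralizer (U : Set G) ≤ normalizer (R : Set G))
    (hq : ⁅⁅U, zpowers a⁆, zpowers a⁆ = ⊥) : a ∈ Q := by
  haveI := normal_subgroupOf hUn
  have hUM : U ≤ M := hUQ.trans hg.le
  have hUp : IsPGroup p (U.subgroupOf M) := (hg.pQ.to_le hUQ).comap_of_injective M.subtype M.subtype_injective
  obtain ⟨k, hk⟩ := hR ⟨a, haR⟩
  have hak : a ^ p ^ k = 1 := congrArg Subtype.val hk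
  have h := mem_pCore_of_quad (a := (⟨a, ha⟩ : M)) (hg.stable hp2 (U.subgroupOf M) hUp)
    ⟨k, Subtype.ext hak⟩ (quad_subgroupOf hUM ha hq) ?_
  · rw [hg.pCore_eq] at h
    exact h
  intro c hc
  set C := centralizer ((U.subgroupOf M : Subgroup M) : Set M) with hC
  set R' := (R.subgroupOf M).subgroupOf C with hR'
  have hCc : ∀ x ∈ C, (x : G) ∈ normalizer (R : Set G) := fun x hx => hCR ⟨x.2, mem_centralizer_iff.mpr fun v hv =>
    congrArg Subtype.val (mem_centralizer_iff.mp hx ⟨v, hUM hv⟩ hv)⟩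
  haveI : R'.Normal := ⟨fun r hr x => (mem_normalizer_iff.mp (hCc x x.2) _).mp hr⟩
  have hR'p : IsPGroup p R' := (hR.comap_of_injective M.subtype M.subtype_injective).comap_of_injective C.subtype
    C.subtype_injective
  have hmem : ⁅(⟨a, ha⟩ : M), c⁆ ∈ C := by
    rw [commutatorElement_def]
    exact mul_mem ((inferInstance : C.Normal).conj_mem c hc _) (inv_mem hc)
  have hmemR : (⟨_, hmem⟩ : C) ∈ R' := by
    show a * (c : G) * a⁻¹ * (c : G)⁻¹ ∈ R
    have e : a * (c : G) * a⁻¹ * (c : G)⁻¹ = a * ((c : G) * a⁻¹ * (c : G)⁻¹) := by group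
    rw [e]
    exact mul_mem haR ((mem_normalizer_iff.mp (hCc c hc) _).mp (inv_mem haR))
  haveI : (Cfsg.pCore p C).Characteristic := Cores.pCore_characteristic p
  haveI : ((Cfsg.pCore p C).map C.subtype).Normal := inferInstance
  exact Cores.le_pCore ((Cores.isPGroup_pCore p).map C.subtype)
    (mem_map_of_mem C.subtype (Cores.le_pCore hR'p hmemR))

theorem mem_centralizer_of_quad (hg : Good p M Q Y) (hp2 : p ≠ 2) {a : G} (ha : a ∈ M)
    (hq : ⁅⁅Y, zpowers a⁆, zpowers a⁆ = ⊥) : a ∈ centralizer (Y : Set G) := by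
  haveI := normal_subgroupOf hg.nY
  have hYM : Y ≤ M := hg.leQ.trans hg.le
  have hYp : IsPGroup p (Y.subgroupOf M) := (hg.pQ.to_le hg.leQ).comap_of_injective M.subtype M.subtype_injective
  have h := PrimitivePair.mem_centralizer_of_quad (a := (⟨a, ha⟩ : M)) (hg.stable hp2 _ hYp) hYp
    (fun h => hg.ne ((subgroupOf_eq_bot.mp h).eq_bot_of_le hYM)) ?_ (quad_subgroupOf hYM ha hq)
  · exact mem_centralizer_iff.mpr fun y hy =>
      congrArg Subtype.val (mem_centralizer_iff.mp h ⟨y, hYM hy⟩ hy)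
  intro W hW hWY
  have hle : W.map M.subtype ≤ Y := by
    rintro _ ⟨w, hw, rfl⟩; exact hWY hw
  rcases hg.red _ hle (fun g hg' => mem_normalizer_of_conj_map_le (by
    rintro _ ⟨w, hw, rfl⟩
    exact ⟨⟨g, hg'⟩ * w * ⟨g, hg'⟩⁻¹, hW.conj_mem w hw _, rfl⟩)) with h1 | h1
  · exact Or.inl ((map_eq_bot_iff_of_injective _ M.subtype_injective).mp h1)
  · refine Or.inr (le_antisymm hWY fun w hw => ?_)
    obtain ⟨v, hv, hve⟩ := h1.symm.le (mem_subgroupOf.mp hw)
    exact Subtype.ext hve ▸ hv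

end Good

section Tree

variable (M₀ Q₀ Y₀ : Bool → Subgroup G)

/-- Conjugation of subgroups. -/
abbrev cj (g : G) (K : Subgroup G) : Subgroup G := K.map (MulAut.conj g).toMonoidHom

theorem cj_cj (g h : G) (K : Subgroup G) : cj g (cj h K) = cj (g * h) K := by
  rw [cj, cj, map_map]; congr 1; ext x; simp [mul_assoc]

theorem cj_eq_self {g : G} {K : Subgroup G} (h : g ∈ normalizer (K : Set G)) : cj g K = K :=
  mem_normalizer_iff_map_conj_eq.mp h

theorem cj_one (K : Subgroup G) : cj 1 K = K := cj_eq_self (one_mem _)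

theorem mem_normalizer_cj {g h : G} {K : Subgroup G} (hg : g ∈ normalizer (K : Set G)) :
    h * g * h⁻¹ ∈ normalizer ((cj h K : Subgroup G) : Set G) :=
  le_normalizer_map _ ⟨g, hg, rfl⟩

/-- A vertex. -/
structure Vx (G : Type u) [Group G] where
  /-- stabiliser -/
  M : Subgroup G
  /-- its largest normal `p`-subgroup -/
  Q : Subgroup G
  /-- a minimal normal `p`-subgroup -/
  Y : Subgroup G

/-- Action of `g` on vertices. -/
def act (g : G) (v : Vx G) : Vx G := ⟨cj g v.M, cj g v.Q, cj g v.Y⟩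

/-- The two base vertices. -/
def base (i : Bool) : Vx G := ⟨M₀ i, Q₀ i, Y₀ i⟩

/-- Adjacency. -/
def Adj (a b : Vx G) : Prop :=
  ∃ h : G, ∃ i : Bool, a = act h (base M₀ Q₀ Y₀ i) ∧ b = act h (base M₀ Q₀ Y₀ (!i))

/-- Paths. -/
def Path : ℕ → Vx G → Vx G → Prop
  | 0, a, b => a = b
  | n + 1, a, c => ∃ b, Adj M₀ Q₀ Y₀ a b ∧ Path n b c

variable {M₀ Q₀ Y₀}

theorem act_act (g h : G) (v : Vx G) : act g (act h v) = act (g * h) v := by
  simp only [act, cj_cj]

theorem act_one (v : Vx G) : act 1 v = v := by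
  obtain ⟨M, Q, Y⟩ := v
  simp only [act, cj_one]

theorem Adj.symm {a b : Vx G} (h : Adj M₀ Q₀ Y₀ a b) : Adj M₀ Q₀ Y₀ b a := by
  obtain ⟨g, i, rfl, rfl⟩ := h
  exact ⟨g, !i, rfl, by rw [Bool.not_not]⟩

theorem Adj.act {a b : Vx G} (g : G) (h : Adj M₀ Q₀ Y₀ a b) : Adj M₀ Q₀ Y₀ (act g a) (act g b) := by
  obtain ⟨k, i, rfl, rfl⟩ := h
  exact ⟨g * k, i, act_act g k _, act_act g k _⟩

theorem Path.act {n : ℕ} : ∀ {a b : Vx G} (g : G), Path M₀ Q₀ Y₀ n a b →
    Path M₀ Q₀ Y₀ n (act g a) (act g b) := by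
  induction n with
  | zero => intro a b g h; exact congrArg _ h
  | succ n ih => rintro a b g ⟨c, hc, hp⟩; exact ⟨_, hc.act g, ih g hp⟩

theorem Path.snoc {n : ℕ} : ∀ {a b c : Vx G}, Path M₀ Q₀ Y₀ n a b → Adj M₀ Q₀ Y₀ b c →
    Path M₀ Q₀ Y₀ (n + 1) a c := by
  induction n with
  | zero => intro a b c h h'; exact ⟨c, (show a = b from h).symm ▸ h', rfl⟩
  | succ n ih => rintro a b c ⟨d, hd, hp⟩ h'; exact ⟨d, hd, ih hp h'⟩

theorem Path.unsnoc {n : ℕ} : ∀ {a c : Vx G}, Path M₀ Q₀ Y₀ (n + 1) a c →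
    ∃ b, Path M₀ Q₀ Y₀ n a b ∧ Adj M₀ Q₀ Y₀ b c := by
  induction n with
  | zero =>
    rintro a c ⟨b, hb, hbc⟩
    exact ⟨a, rfl, (show b = c from hbc) ▸ hb⟩
  | succ n ih =>
    rintro a c ⟨b, hb, hp⟩
    obtain ⟨d, hd, hdc⟩ := ih hp
    exact ⟨d, ⟨b, hb, hd⟩, hdc⟩

theorem Path.reverse {n : ℕ} : ∀ {a b : Vx G}, Path M₀ Q₀ Y₀ n a b → Path M₀ Q₀ Y₀ n b a := by
  induction n with
  | zero => intro a b h; exact (show a = b from h).symm
  | succ n ih => rintro a b ⟨c, hc, hp⟩; exact (ih hp).snoc hc.symm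

theorem Path.append {n m : ℕ} : ∀ {a b c : Vx G}, Path M₀ Q₀ Y₀ n a b → Path M₀ Q₀ Y₀ m b c →
    ∃ k, Path M₀ Q₀ Y₀ k a c := by
  induction n with
  | zero => intro a b c h h'; exact ⟨m, (show a = b from h).symm ▸ h'⟩
  | succ n ih =>
    rintro a b c ⟨d, hd, hp⟩ h'
    obtain ⟨k, hk⟩ := ih hp h'
    exact ⟨k + 1, d, hd, hk⟩

theorem Good.map {M Q Y : Subgroup G} (hg : Good p M Q Y) (g : G) : Good p (cj g M) (cj g Q) (cj g Y) := by
  set f := (MulAut.conj g).toMonoidHom with hf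
  have hinj : Function.Injective f := (MulAut.conj g).injective
  have back : ∀ P : Subgroup G, cj g (cj g⁻¹ P) = P := fun P => by
    rw [cj_cj, mul_inv_cancel, cj_one]
  have backn : ∀ P : Subgroup G, cj g M ≤ normalizer (P : Set G) →
      M ≤ normalizer ((cj g⁻¹ P : Subgroup G) : Set G) := by
    intro P h x hx
    have := mem_normalizer_cj (h := g⁻¹) (h ⟨x, hx, rfl⟩)
    simpa [mul_assoc] using this
  have backle : ∀ P X : Subgroup G, P ≤ cj g X → cj g⁻¹ P ≤ X := by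
    rintro P X h _ ⟨y, hy, rfl⟩
    obtain ⟨x, hx, rfl⟩ := h hy
    simpa [mul_assoc] using hx
  haveI := hg.comm
  refine ⟨map_mono hg.leQ, map_mono hg.le, (map_mono hg.nQ).trans (le_normalizer_map f), hg.pQ.map f, ?_, ?_,
    (map_mono hg.nY).trans (le_normalizer_map f), inferInstance,
    fun h => hg.ne ((map_eq_bot_iff_of_injective _ hinj).mp h), ?_, ?_⟩
  · intro P hP hn hPp
    rw [← back P]
    exact map_mono (hg.maxQ _ (backle P M hP) (backn P hn) (hPp.map _))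
  · rintro _ ⟨⟨x, hx, rfl⟩, hc⟩
    refine mem_map_of_mem f (hg.cQ ⟨hx, mem_centralizer_iff.mpr fun y hy => hinj ?_⟩)
    rw [map_mul, map_mul]
    exact mem_centralizer_iff.mp hc _ (mem_map_of_mem f hy)
  · intro W hW hn
    rcases hg.red _ (backle W Y hW) (backn W hn) with h | h
    · exact Or.inl (by rw [← back W, h, cj, Subgroup.map_bot])
    · exact Or.inr (by rw [← back W, h])
  · intro S hS hS2
    haveI := hg.two _ (backle S M hS) (hS2.map _)
    rw [← back S]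
    infer_instance

variable (hp2 : p ≠ 2) (hgood : ∀ i, Good p (M₀ i) (Q₀ i) (Y₀ i)) (hQM : ∀ i, Q₀ i ≤ M₀ (!i))
  (hprim : ∀ i, M₀ (!i) ⊓ centralizer (Y₀ i : Set G) ≤ M₀ i)

include hgood in
theorem Adj.good {a b : Vx G} (h : Adj M₀ Q₀ Y₀ a b) : Good p a.M a.Q a.Y := by
  obtain ⟨g, i, rfl, -⟩ := h
  exact (hgood i).map g

include hQM in
theorem Adj.le {a b : Vx G} (h : Adj M₀ Q₀ Y₀ a b) : a.Q ≤ b.M := by
  obtain ⟨g, i, rfl, rfl⟩ := h
  exact map_mono (hQM i)

include hprim in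
theorem Adj.centralizer_le {a b : Vx G} (h : Adj M₀ Q₀ Y₀ a b) :
    b.M ⊓ centralizer (a.Y : Set G) ≤ a.M := by
  obtain ⟨g, i, rfl, rfl⟩ := h
  rintro _ ⟨⟨x, hx, rfl⟩, hc⟩
  refine mem_map_of_mem _ (hprim i ⟨hx, mem_centralizer_iff.mpr fun y hy => (MulAut.conj g).injective ?_⟩)
  rw [map_mul, map_mul]
  exact mem_centralizer_iff.mp hc _ (mem_map_of_mem _ hy)

/-- The subgroup generated by the `Y` of the neighbours. -/
def nbr (M₀ Q₀ Y₀ : Bool → Subgroup G) (b : Vx G) : Subgroup G := ⨆ (c : Vx G) (_ : Adj M₀ Q₀ Y₀ b c), c.Y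

include hgood in
theorem normalizes_nbr {a b : Vx G} (h : Adj M₀ Q₀ Y₀ b a) :
    b.M ≤ normalizer ((nbr M₀ Q₀ Y₀ b : Subgroup G) : Set G) := by
  intro g hg
  have hb := h.good hgood
  have hfix : act g b = b := by
    obtain ⟨M, Q, Y⟩ := b
    simp only [act, Vx.mk.injEq]
    exact ⟨cj_eq_self (le_normalizer hg), cj_eq_self (hb.nQ hg), cj_eq_self (hb.nY hg)⟩
  suffices hmap : (nbr M₀ Q₀ Y₀ b).map (MulAut.conj g).toMonoidHom ≤ nbr M₀ Q₀ Y₀ b from
    mem_normalizer_of_conj_map_le fun h hh => hmap ⟨h, hh, rfl⟩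
  rw [nbr, Subgroup.map_iSup]
  refine iSup_le fun c => ?_
  rw [Subgroup.map_iSup]
  refine iSup_le fun hc => ?_
  exact le_iSup₂_of_le (act g c) (hfix ▸ hc.act g) le_rfl

include hp2 hgood hQM hprim in
/-- `Y a ≤ Q b` for all vertices joined by a path. -/
theorem le_Q : ∀ (n : ℕ) {a b : Vx G}, Path M₀ Q₀ Y₀ (n + 1) a b → a.Y ≤ b.Q := by
  intro n
  induction n using Nat.strong_induction_on with
  | _ n ih =>
  intro a b hab
  rcases n with _ | m
  · obtain ⟨c, hac, hcb⟩ := hab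
    obtain rfl : c = b := hcb
    have ha := hac.good hgood
    have hb := hac.symm.good hgood
    intro y hy
    refine hb.mem_of_quad_self hp2 ((ha.leQ.trans (hac.le hQM)) hy) ?_
    exact quad_of_normalizes ((hac.symm.le hQM).trans ha.nY) ha.comm hy
  obtain ⟨a₁, haa₁, ha₁b⟩ := hab
  obtain ⟨b', hab', hb'b⟩ := Path.unsnoc (⟨a₁, haa₁, ha₁b⟩ : Path M₀ Q₀ Y₀ (m + 1 + 1) a b)
  have hb'Q : a.Y ≤ b'.Q := ih m (by omega) hab'
  have hb := hb'b.symm.good hgood
  have hb' := hb'b.good hgood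
  obtain ⟨a₂, ha₁a₂, ha₂b⟩ := ha₁b
  set X := nbr M₀ Q₀ Y₀ a₁ with hX
  set U := nbr M₀ Q₀ Y₀ b with hU
  have hUQ : U ≤ b.Q := iSup₂_le fun c hc => ih 0 (by omega) ⟨b, hc.symm, rfl⟩
  have hUn := normalizes_nbr hgood (a := b') hb'b.symm
  have hU1 : U ≤ a₁.M := by
    refine iSup₂_le fun c hc => ?_
    have hpath : Path M₀ Q₀ Y₀ (m + 1) c a₂ := (ha₂b.snoc hc).reverse
    exact (ih m (by omega) hpath).trans (ha₁a₂.symm.le hQM)
  have hXc : IsMulCommutative X := by
    have h1 : ∀ c, Adj M₀ Q₀ Y₀ a₁ c → ∀ d, Adj M₀ Q₀ Y₀ a₁ d → c.Y ≤ centralizer (d.Y : Set G) := by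
      intro c hc d hd y hy
      have hcd := hd.symm.good hgood
      have hcg := hc.symm.good hgood
      have hyM : y ∈ d.M := (hd.le hQM) (ih 0 (by omega) ⟨a₁, hc.symm, rfl⟩ hy)
      refine hcd.mem_centralizer_of_quad hp2 hyM ?_
      exact quad_of_normalizes (((ih 0 (by omega) ⟨a₁, hd.symm, rfl⟩).trans (hc.le hQM)).trans hcg.nY) hcg.comm hy
    have h2 : X ≤ centralizer (X : Set G) := by
      refine iSup₂_le fun c hc => ?_
      rw [le_centralizer_iff]
      exact iSup₂_le fun d hd => h1 d hd c hc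
    exact ⟨⟨fun x y => Subtype.ext (mem_centralizer_iff.mp (h2 y.2) x x.2)⟩⟩
  intro y hy
  have hyM : y ∈ b.M := (hb'b.le hQM) (hb'Q hy)
  refine hb.mem_of_quad hp2 hUQ hUn hb'.pQ hyM (hb'Q hy) ?_ ?_
  · intro c hc
    refine hb'.nQ (hb'b.centralizer_le hprim ⟨hc.1, ?_⟩)
    exact Subgroup.centralizer_le
      (SetLike.coe_subset_coe.mpr (show b'.Y ≤ U from le_iSup₂_of_le b' hb'b.symm le_rfl)) hc.2
  · have hyX : y ∈ X := (le_iSup₂_of_le a haa₁.symm le_rfl : a.Y ≤ X) hy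
    exact quad_of_normalizes (hU1.trans (normalizes_nbr hgood ha₁a₂)) hXc hyX

include hp2 hgood hQM hprim in
/-- A nontrivial subgroup in both `O_p` normalised by both groups. -/
theorem exists_common_normal : ∃ N : Subgroup G, N ≠ ⊥ ∧ N ≤ Q₀ true ⊓ Q₀ false ∧
    M₀ true ≤ normalizer (N : Set G) ∧ M₀ false ≤ normalizer (N : Set G) := by
  let R : Vx G → Prop := fun v => ∃ n, Path M₀ Q₀ Y₀ n (base M₀ Q₀ Y₀ true) v
  have hedge : Adj M₀ Q₀ Y₀ (base M₀ Q₀ Y₀ true) (base M₀ Q₀ Y₀ false) := ⟨1, true, by rw [act_one], by rw [act_one]; rfl⟩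
  have hfix : ∀ i, ∀ g ∈ M₀ i, act g (base M₀ Q₀ Y₀ i) = base M₀ Q₀ Y₀ i := fun i g hg => by
    simp only [act, base, Vx.mk.injEq]
    exact ⟨cj_eq_self (le_normalizer hg), cj_eq_self ((hgood i).nQ hg), cj_eq_self ((hgood i).nY hg)⟩
  have hR : ∀ i, ∀ g ∈ M₀ i, ∀ v, R v → R (act g v) := by
    rintro i g hg v ⟨n, hn⟩
    have h1 := hn.act g
    cases i with
    | true => rw [hfix true g hg] at h1; exact ⟨n, h1⟩
    | false =>
      have h2 := hedge.symm.act g
      rw [hfix false g hg] at h2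
      obtain ⟨k, hk⟩ := Path.append (n := 2) ⟨_, hedge, _, h2, rfl⟩ h1
      exact ⟨k, hk⟩
  set N := ⨆ (v : Vx G) (_ : R v), v.Y with hN
  have hle : ∀ v, R v → v.Y ≤ Q₀ true := by
    rintro v ⟨n, hn⟩
    rcases n with _ | n
    · obtain rfl : base M₀ Q₀ Y₀ true = v := hn
      exact (hgood true).leQ
    · exact le_Q hp2 hgood hQM hprim n hn.reverse
  have hle' : ∀ v, R v → v.Y ≤ Q₀ false := by
    rintro v ⟨n, hn⟩
    exact le_Q hp2 hgood hQM hprim n (hn.reverse.snoc hedge)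
  refine ⟨N, fun h => (hgood true).ne (le_bot_iff.mp (h ▸ le_iSup₂_of_le (base M₀ Q₀ Y₀ true) ⟨0, rfl⟩ le_rfl)),
    le_inf (iSup₂_le hle) (iSup₂_le hle'), ?_, ?_⟩
  all_goals
    intro g hg
    suffices hmap : N.map (MulAut.conj g).toMonoidHom ≤ N from
      mem_normalizer_of_conj_map_le fun h hh => hmap ⟨h, hh, rfl⟩
    rw [hN, Subgroup.map_iSup]
    refine iSup_le fun v => ?_
    rw [Subgroup.map_iSup]
    exact iSup_le fun hv => le_iSup₂_of_le (act g v) (hR _ g hg v hv) le_rfl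

end Tree

end CfsgLib.Coprime.PrimitivePair
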