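import Cfsg.Agent.Lib.Coprime.SymplecticTypeTools
import Mathlib

/-!
p-groups with cyclic characteristic abelian subgroups: the centraliser of a maximal characteristic
abelian subgroup, and the extraspecial part.
-/

set_option autoImplicit false

namespace CfsgLib.Coprime.SymplecticTools

open Subgroup
open scoped commutatorElement

variable {G : Type*} [Group G] [Finite G] {p : ℕ} [hp : Fact p.Prime]

/-- `Z` is a maximal characteristic abelian subgroup, cyclic, in a p-group all of whose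
characteristic abelian subgroups are cyclic. -/
structure SympSetup (p : ℕ) (Z : Subgroup G) : Prop where
  pgroup : IsPGroup p G
  symp : ∀ A : Subgroup G, A.Characteristic → IsMulCommutative A → IsCyclic A
  char : Z.Characteristic
  comm : IsMulCommutative Z
  max : ∀ A : Subgroup G, A.Characteristic → IsMulCommutative A → Z ≤ A → A ≤ Z
  center_le : center G ≤ Z

theorem exists_setup (hG : IsPGroup p G)
    (hsymp : ∀ A : Subgroup G, A.Characteristic → IsMulCommutative A → IsCyclic A) :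
    ∃ Z : Subgroup G, SympSetup p Z := by
  obtain ⟨Z, hle, ⟨hc, ha⟩, hmax⟩ := Finite.exists_le_maximal
    (p := fun A : Subgroup G => A.Characteristic ∧ IsMulCommutative A) (a := center G)
    ⟨inferInstance, inferInstance⟩
  exact ⟨Z, hG, hsymp, hc, ha, fun A h1 h2 h => hmax ⟨h1, h2⟩ h, hle⟩

/-- The subgroup of elements of `Z` killed by `p`. -/
def omegaIn (p : ℕ) (Z : Subgroup G) [hZ : IsMulCommutative Z] : Subgroup G where
  carrier := {x | x ∈ Z ∧ x ^ p = 1}
  one_mem' := ⟨one_mem _, one_pow _⟩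
  mul_mem' := fun {a b} ha hb => ⟨mul_mem ha.1 hb.1, by
    have hab : Commute a b := congrArg Subtype.val (hZ.is_comm.comm (⟨a, ha.1⟩ : Z) ⟨b, hb.1⟩)
    rw [hab.mul_pow, ha.2, hb.2, one_mul]⟩
  inv_mem' := fun {a} ha => ⟨inv_mem ha.1, by rw [inv_pow, ha.2, inv_one]⟩

omit [Finite G] hp in
theorem mem_omegaIn {Z : Subgroup G} [IsMulCommutative Z] {x : G} :
    x ∈ omegaIn p Z ↔ x ∈ Z ∧ x ^ p = 1 :=
  Iff.rfl

variable {Z : Subgroup G}

namespace SympSetup

variable (S : SympSetup p Z)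
include S

theorem normal : Z.Normal := by
  have := S.char; infer_instance

theorem cyclic : IsCyclic Z := S.symp Z S.char S.comm

theorem cent_normal : (centralizer (Z : Set G)).Normal := by
  have := S.normal; infer_instance

theorem le_cent : Z ≤ centralizer (Z : Set G) := by
  have := S.comm
  exact le_centralizer_iff_isMulCommutative.2 inferInstance

theorem cent_char : (centralizer (Z : Set G)).Characteristic := by
  refine char_of_mem fun φ x hx => mem_centralizer_iff.2 fun z hz => ?_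
  have h := mem_centralizer_iff.1 hx _ (map_mem_char S.char φ.symm hz)
  have := congrArg φ h
  simpa using this

omit hp in
theorem char_inf_centralizer {H : Subgroup G} (hH : H.Characteristic) :
    (H ⊓ centralizer (H : Set G)).Characteristic := by
  refine char_of_mem fun φ x hx => ⟨map_mem_char hH φ hx.1, mem_centralizer_iff.2 fun h hh => ?_⟩
  have h1 := mem_centralizer_iff.1 hx.2 _ (map_mem_char hH φ.symm hh)
  have := congrArg φ h1
  simpa using this

omit hp in
theorem inf_centralizer_comm (H : Subgroup G) :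
    IsMulCommutative ↥(H ⊓ centralizer (H : Set G)) :=
  le_centralizer_iff_isMulCommutative.1 (inf_le_right.trans (centralizer_le inf_le_left))

theorem self_centralizing :
    centralizer (Z : Set G) ⊓ centralizer ((centralizer (Z : Set G) : Subgroup G) : Set G) ≤ Z :=
  S.max _ (S.char_inf_centralizer S.cent_char) (S.inf_centralizer_comm _)
    (le_inf S.le_cent (le_centralizer_iff.1 le_rfl))

theorem card_omega : haveI := S.comm; Nat.card (omegaIn p Z) ≤ p := by
  have := S.comm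
  have := S.cyclic
  classical
  have := Fintype.ofFinite ↥Z
  rw [Nat.card_congr (show omegaIn p Z ≃ {y : Z // y ^ p = 1} from
    { toFun := fun x => ⟨⟨x.1, x.2.1⟩, Subtype.ext x.2.2⟩
      invFun := fun y => ⟨(y.1 : G), y.1.2, congrArg Subtype.val y.2⟩
      left_inv := fun _ => rfl
      right_inv := fun _ => rfl })]
  have h := IsCyclic.card_pow_eq_one_le (α := ↥Z) hp.out.pos
  refine le_trans (le_of_eq ?_) h
  rw [Nat.card_eq_fintype_card, Fintype.card_subtype]

theorem omega_normal : haveI := S.comm; (omegaIn p Z).Normal := by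
  have := S.comm
  refine ⟨fun x hx g => ?_⟩
  rw [mem_omegaIn] at hx ⊢
  exact ⟨S.normal.conj_mem x hx.1 g, by rw [conj_pow, hx.2]; group⟩

theorem omega_le : haveI := S.comm; omegaIn p Z ≤ Z := by
  have := S.comm
  exact fun x hx => hx.1

theorem omega_central : haveI := S.comm; ∀ x ∈ omegaIn p Z, ∀ g : G, g * x = x * g := by
  have := S.comm
  have := S.omega_normal
  intro x hx g
  have hlt : ⁅omegaIn p Z, (⊤ : Subgroup G)⁆ = ⊥ := by
    by_contra hne
    have hle : ⁅omegaIn p Z, (⊤ : Subgroup G)⁆ ≤ omegaIn p Z := Subgroup.commutator_le_left _ _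
    have hΩ : omegaIn p Z ≠ ⊥ := fun h => hne (by rw [h, commutator_bot_left])
    have h1 : ⁅omegaIn p Z, (⊤ : Subgroup G)⁆ < omegaIn p Z := by
      refine lt_of_le_of_ne hle fun e => hΩ ?_
      obtain ⟨c, hc⟩ := Subgroup.nilpotent_iff_lowerCentralSeries.1 S.pgroup.isNilpotent
      have : ∀ j, omegaIn p Z ≤ (⊤ : Subgroup G).lowerCentralSeries j := by
        intro j
        induction j with
        | zero => simp
        | succ j ih =>
          rw [Subgroup.lowerCentralSeries_succ, ← e]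
          exact Subgroup.commutator_mono ih le_rfl
      exact eq_bot_iff.2 (hc ▸ this c)
    have h2 := mul_card_le S.pgroup h1
    have h3 := mul_card_le S.pgroup (bot_lt_iff_ne_bot.2 hne)
    rw [Subgroup.card_bot, mul_one] at h3
    have := S.card_omega
    have h4 : p * p ≤ p := le_trans (le_trans (Nat.mul_le_mul_left p h3) h2) this
    have h5 := hp.out.one_lt
    nlinarith
  have h := Subgroup.commutator_mem_commutator hx (Subgroup.mem_top g)
  rw [hlt, mem_bot, commutatorElement_eq_one_iff_mul_comm] at h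
  exact h.symm

theorem commutator_pow {x k : G} (hx : x ∈ centralizer (Z : Set G)) (hk : k ∈ centralizer (Z : Set G))
    (hc : ⁅x, k⁆ ∈ Z) (hkp : k ^ p ∈ Z) : haveI := S.comm; ⁅x, k⁆ ∈ omegaIn p Z := by
  have := S.comm
  rw [mem_omegaIn]
  refine ⟨hc, ?_⟩
  have hck : Commute ⁅x, k⁆ k := mem_centralizer_iff.1 hk _ hc
  have h1 : ⁅x, k⁆ * k = x * k * x⁻¹ := by rw [commutatorElement_def]; group
  have h2 : (⁅x, k⁆ * k) ^ p = k ^ p := by
    rw [h1, conj_pow, ← mem_centralizer_iff.1 hx _ hkp, mul_inv_cancel_right]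
  rw [hck.mul_pow] at h2
  exact mul_eq_right.1 h2

/-- The centraliser of `Z` is elementary abelian modulo `Z`. -/
theorem cent_spec : haveI := S.comm;
    (∀ x ∈ centralizer (Z : Set G), x ^ p ∈ Z) ∧
      ∀ x ∈ centralizer (Z : Set G), ∀ y ∈ centralizer (Z : Set G), ⁅x, y⁆ ∈ omegaIn p Z := by
  have := S.comm
  set D := centralizer (Z : Set G) with hD
  have hcomm : ∀ z ∈ Z, ∀ d ∈ D, z * d = d * z := fun z hz d hd => mem_centralizer_iff.1 hd z hz
  let K : Subgroup G :=
    { carrier := {x | x ∈ D ∧ x ^ p ∈ Z ∧ ∀ d ∈ D, ⁅d, x⁆ ∈ Z}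
      one_mem' := ⟨one_mem _, by simp, fun d _ => by simp⟩
      mul_mem' := fun {x y} hx hy => by
        refine ⟨mul_mem hx.1 hy.1, ?_, fun d hd => ?_⟩
        · rw [mul_pow_of_commute (hcomm _ (hx.2.2 y hy.1) x hx.1) (hcomm _ (hx.2.2 y hy.1) y hy.1)]
          exact mul_mem (mul_mem hx.2.1 hy.2.1) (pow_mem (hx.2.2 y hy.1) _)
        · have e : ⁅d, x * y⁆ = ⁅d, x⁆ * (x * ⁅d, y⁆ * x⁻¹) := by
            simp [commutatorElement_def, mul_assoc]
          rw [e, ← hcomm _ (hy.2.2 d hd) x hx.1, mul_inv_cancel_right]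
          exact mul_mem (hx.2.2 d hd) (hy.2.2 d hd)
      inv_mem' := fun {x} hx => ⟨inv_mem hx.1, by rw [inv_pow]; exact inv_mem hx.2.1, fun d hd => by
        have e : ⁅d, x⁻¹⁆ = x⁻¹ * ⁅d, x⁆⁻¹ * x := by simp [commutatorElement_def, mul_assoc]
        rw [e, mul_assoc, hcomm _ (inv_mem (hx.2.2 d hd)) x hx.1, inv_mul_cancel_left]
        exact inv_mem (hx.2.2 d hd)⟩ }
  have hKD : K ≤ D := fun x hx => hx.1
  have hZK : Z ≤ K := fun z hz => ⟨S.le_cent hz, pow_mem hz p, fun d hd => by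
    rw [commutatorElement_eq_one_iff_mul_comm.2 (hcomm z hz d hd).symm]; exact one_mem _⟩
  have hKchar : K.Characteristic := char_of_mem fun φ x hx =>
    ⟨map_mem_char S.cent_char φ hx.1, by rw [← map_pow]; exact map_mem_char S.char φ hx.2.1,
      fun d hd => by
        have := map_mem_char S.char φ (hx.2.2 _ (map_mem_char S.cent_char φ.symm hd))
        rwa [map_commutatorElement, MulEquiv.apply_symm_apply] at this⟩
  set L := D ⊓ centralizer (K : Set G) with hL
  have hLchar : L.Characteristic := char_of_mem fun φ x hx =>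
    ⟨map_mem_char S.cent_char φ hx.1, mem_centralizer_iff.2 fun k hk => by
      have h1 := mem_centralizer_iff.1 hx.2 _ (map_mem_char hKchar φ.symm hk)
      have := congrArg φ h1
      simpa using this⟩
  have hLZ : L ≤ Z := by
    by_contra hne
    have hle : Z ≤ L := le_inf S.le_cent fun z hz => mem_centralizer_iff.2 fun k hk =>
      (hcomm z hz k (hKD hk)).symm
    have := S.normal
    have : L.Normal := inferInstance
    obtain ⟨x, hxL, hxZ, hxp, hxc⟩ :=
      exists_step S.pgroup (Z := Z) (L := L) (lt_of_le_of_ne hle fun e => hne e.ge)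
    have hxK : x ∈ K := ⟨hxL.1, hxp, fun d _ => hxc d⟩
    have h1 := S.max (K ⊓ centralizer (K : Set G)) (S.char_inf_centralizer hKchar)
      (S.inf_centralizer_comm K)
      (le_inf hZK fun z hz => mem_centralizer_iff.2 fun k hk => (hcomm z hz k (hKD hk)).symm)
    exact hxZ (h1 ⟨hxK, hxL.2⟩)
  have hKall : D ≤ K := by
    have h := chain_bound S.pgroup (A := D) (W := K) S.card_omega
      (fun a ha w hw => S.commutator_pow ha hw.1 (hw.2.2 a ha) hw.2.1) Z hZK
    rw [inf_eq_left.2 (show D ≤ centralizer (Z : Set G) from le_rfl)] at h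
    have h2 : Nat.card ↥(D ⊓ centralizer (K : Set G)) ≤ Nat.card Z := card_le_of_le hLZ
    have h3 : Nat.card D * Nat.card Z ≤ Nat.card Z * Nat.card K :=
      h.trans (Nat.mul_le_mul_right _ h2)
    rw [mul_comm (Nat.card Z)] at h3
    exact (eq_of_le_of_card_ge hKD (Nat.le_of_mul_le_mul_right h3 Nat.card_pos)).ge
  exact ⟨fun x hx => (hKall hx).2.1, fun x hx y hy =>
    S.commutator_pow hx hy ((hKall hy).2.2 x hx) (hKall hy).2.1⟩

/-- `G` centralises `C(Z)/Z`. -/
theorem commutator_mem {d : G} (hd : d ∈ centralizer (Z : Set G)) (g : G) : ⁅g, d⁆ ∈ Z := by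
  have := S.comm
  obtain ⟨-, hcom⟩ := S.cent_spec
  set D := centralizer (Z : Set G) with hD
  have := S.normal
  have := S.cent_normal
  set L₁ := Z ⊔ ⁅D, (⊤ : Subgroup G)⁆ with hL₁
  suffices h : L₁ ≤ Z by
    rw [← commutatorElement_inv]
    exact inv_mem (h (mem_sup_right (Subgroup.commutator_mem_commutator hd (mem_top g))))
  by_contra hne
  have := S.char
  have := S.cent_char
  have hL₁c : L₁.Characteristic := inferInstance
  obtain ⟨x, hxL, hxZ, -, hxc⟩ := exists_step S.pgroup (Z := Z) (L := L₁)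
    (lt_of_le_of_ne le_sup_left fun e => hne e.ge)
  let M : Subgroup G :=
    { carrier := {y | y ∈ L₁ ∧ ∀ g : G, ⁅g, y⁆ ∈ Z}
      one_mem' := ⟨one_mem _, fun g => by simp⟩
      mul_mem' := fun {a b} ha hb => ⟨mul_mem ha.1 hb.1, fun g => by
        have e : ⁅g, a * b⁆ = ⁅g, a⁆ * (a * ⁅g, b⁆ * a⁻¹) := by
          simp [commutatorElement_def, mul_assoc]
        rw [e]
        exact mul_mem (ha.2 g) (S.normal.conj_mem _ (hb.2 g) a)⟩
      inv_mem' := fun {a} ha => ⟨inv_mem ha.1, fun g => by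
        have e : ⁅g, a⁻¹⁆ = a⁻¹ * ⁅g, a⁆⁻¹ * a⁻¹⁻¹ := by simp [commutatorElement_def, mul_assoc]
        rw [e]
        exact S.normal.conj_mem _ (inv_mem (ha.2 g)) _⟩ }
  have hML : M ≤ L₁ := fun y hy => hy.1
  have hLD : L₁ ≤ D := sup_le S.le_cent (Subgroup.commutator_le_left _ _)
  have hMchar : M.Characteristic := char_of_mem fun φ y hy => ⟨map_mem_char hL₁c φ hy.1, fun g => by
    have := map_mem_char S.char φ (hy.2 (φ.symm g))
    rwa [map_commutatorElement, MulEquiv.apply_symm_apply] at this⟩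
  have h1 : ⁅⁅(⊤ : Subgroup G), M⁆, D⁆ = ⊥ := by
    refine eq_bot_iff.2 ((Subgroup.commutator_mono ((Subgroup.commutator_le (H₃ := Z)).2 fun g _ y (hy : y ∈ M) => hy.2 g)
      le_rfl).trans (le_of_eq ?_))
    rw [commutator_eq_bot_iff_le_centralizer]
    exact le_centralizer_iff.1 le_rfl
  have h2 : ⁅⁅M, D⁆, (⊤ : Subgroup G)⁆ = ⊥ := by
    have hMD : ⁅M, D⁆ ≤ omegaIn p Z :=
      Subgroup.commutator_le.2 fun y hy d hd => hcom y (hLD (hML hy)) d hd
    refine eq_bot_iff.2 ((Subgroup.commutator_mono hMD le_rfl).trans (le_of_eq ?_))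
    rw [commutator_eq_bot_iff_le_centralizer]
    exact fun y hy => mem_centralizer_iff.2 fun g _ => S.omega_central y hy g
  have h3 : ⁅⁅D, (⊤ : Subgroup G)⁆, M⁆ = ⊥ :=
    Subgroup.commutator_commutator_eq_bot_of_rotate h1 h2
  have hMab : IsMulCommutative M := by
    refine le_centralizer_iff_isMulCommutative.1 (le_centralizer_iff.1 (hML.trans (sup_le ?_ ?_)))
    · exact fun z hz => mem_centralizer_iff.2 fun y hy =>
        (mem_centralizer_iff.1 (hLD (hML hy)) z hz).symm
    · exact commutator_eq_bot_iff_le_centralizer.1 h3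
  have hZM : Z ≤ M := fun z hz => ⟨mem_sup_left hz, fun g => by
    rw [commutatorElement_def]
    exact mul_mem (S.normal.conj_mem z hz g) (inv_mem hz)⟩
  exact hxZ (S.max M hMchar hMab hZM ⟨hxL, hxc⟩)

/-- Every `p`th power in `C(Z)` is one of `Z`, as soon as `Z` has order greater than `p`. -/
theorem exists_root (hbig : haveI := S.comm; omegaIn p Z ≠ Z) {x : G}
    (hx : x ∈ centralizer (Z : Set G)) : ∃ y ∈ Z, (x * y) ^ p = 1 := by
  have := S.comm
  obtain ⟨hpow, hcom⟩ := S.cent_spec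
  have := S.cyclic
  set D := centralizer (Z : Set G) with hD
  obtain ⟨z, hz⟩ := IsCyclic.exists_generator (α := ↥Z)
  have hgen : ∀ w ∈ Z, ∃ i : ℤ, (z : G) ^ i = w := fun w hw => by
    obtain ⟨i, hi⟩ := mem_zpowers_iff.1 (hz ⟨w, hw⟩)
    exact ⟨i, congrArg Subtype.val hi⟩
  have hΩ : ∀ w ∈ omegaIn p Z, ∃ y ∈ Z, y ^ p = w := by
    intro w hw
    obtain ⟨hwZ, hwp⟩ := mem_omegaIn.1 hw
    obtain ⟨i, rfl⟩ := hgen w hwZ
    by_cases hdvd : (p : ℤ) ∣ i
    · obtain ⟨t, rfl⟩ := hdvd
      exact ⟨(z : G) ^ t, Z.zpow_mem z.2 t, by rw [← zpow_natCast, ← zpow_mul, mul_comm]⟩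
    · exfalso
      refine hbig (le_antisymm S.omega_le fun v hv => mem_omegaIn.2 ⟨hv, ?_⟩)
      obtain ⟨s, t, hst⟩ := (Nat.prime_iff_prime_int.1 hp.out).coprime_iff_not_dvd.2 hdvd
      have hzp : (z : G) ^ p = 1 := by
        rw [← zpow_natCast] at hwp ⊢
        rw [← zpow_mul] at hwp
        have hzz : ((z : G) ^ (p : ℤ)) ^ (p : ℤ) = 1 ∨ True := Or.inr trivial
        -- the order of `z` divides `i * p` and is a power of `p`
        obtain ⟨k, hk⟩ := S.pgroup (z : G)
        obtain ⟨a, -, ha⟩ := (Nat.dvd_prime_pow hp.out).1 (orderOf_dvd_of_pow_eq_one hk)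
        have h1 : ((orderOf (z : G) : ℕ) : ℤ) ∣ i * p := orderOf_dvd_iff_zpow_eq_one.2 hwp
        rw [ha, Nat.cast_pow] at h1
        have h2 : (IsCoprime ((p : ℤ) ^ a) i) :=
          ((Nat.prime_iff_prime_int.1 hp.out).coprime_iff_not_dvd.2 hdvd).pow_left
        have h3 := h2.dvd_of_dvd_mul_left h1
        rw [← orderOf_dvd_iff_zpow_eq_one, ha, Nat.cast_pow]
        exact h3
      obtain ⟨j, rfl⟩ := hgen v hv
      rw [← zpow_natCast, ← zpow_mul, mul_comm, zpow_mul, zpow_natCast, hzp, one_zpow]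
  let H : Subgroup G :=
    { carrier := {x | x ∈ D ∧ ∃ y ∈ Z, y ^ p = x ^ p}
      one_mem' := ⟨one_mem _, 1, one_mem _, by simp⟩
      mul_mem' := fun {a b} ha hb => by
        obtain ⟨ha, u, hu, hua⟩ := ha
        obtain ⟨hb, v, hv, hvb⟩ := hb
        obtain ⟨w, hw, hwc⟩ := hΩ _ (pow_mem (hcom b hb a ha) (p.choose 2))
        refine ⟨mul_mem ha hb, u * v * w, mul_mem (mul_mem hu hv) hw, ?_⟩
        have hab : ⁅b, a⁆ ∈ Z := S.omega_le (hcom b hb a ha)
        rw [mul_pow_of_commute (mem_centralizer_iff.1 ha _ hab) (mem_centralizer_iff.1 hb _ hab),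
          (show Commute (u * v) w from mem_centralizer_iff.1 (S.le_cent hw) _ (mul_mem hu hv)).mul_pow,
          (show Commute u v from mem_centralizer_iff.1 (S.le_cent hv) _ hu).mul_pow, hua, hvb, hwc]
      inv_mem' := fun {a} ha => by
        obtain ⟨ha, u, hu, hua⟩ := ha
        exact ⟨inv_mem ha, u⁻¹, inv_mem hu, by rw [inv_pow, inv_pow, hua]⟩ }
  have hHD : H ≤ D := fun x hx => hx.1
  have hZH : Z ≤ H := fun w hw => ⟨S.le_cent hw, w, hw, rfl⟩
  suffices hHx : D ≤ H by
    obtain ⟨-, u, hu, hux⟩ := hHx hx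
    refine ⟨u⁻¹, inv_mem hu, ?_⟩
    rw [(show Commute x u⁻¹ from (mem_centralizer_iff.1 hx _ (inv_mem hu)).symm).mul_pow, inv_pow,
      hux, mul_inv_cancel]
  by_contra hne
  have hlt : H < D := lt_of_le_of_ne hHD fun e => hne e.ge
  have hHchar : H.Characteristic := char_of_mem fun φ a ha => by
    obtain ⟨ha, u, hu, hua⟩ := ha
    exact ⟨map_mem_char S.cent_char φ ha, φ u, map_mem_char S.char φ hu, by
      rw [← map_pow, ← map_pow, hua]⟩
  set C := D ⊓ centralizer (H : Set G) with hC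
  have hbound : p * Nat.card Z ≤ Nat.card C := by
    have h := chain_bound S.pgroup (A := D) (W := H) S.card_omega
      (fun a ha w hw => hcom a ha w (hHD hw)) Z hZH
    rw [inf_eq_left.2 (show D ≤ centralizer (Z : Set G) from le_rfl)] at h
    refine Nat.le_of_mul_le_mul_right (c := Nat.card H) ?_ Nat.card_pos
    calc p * Nat.card Z * Nat.card H = (p * Nat.card H) * Nat.card Z := by ring
      _ ≤ Nat.card D * Nat.card Z := Nat.mul_le_mul_right _ (mul_card_le S.pgroup hlt)
      _ ≤ _ := h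
  have hCH : C ≤ H := by
    intro y hy
    by_contra hyH
    -- `H` has index `p` in `C(Z)`
    obtain ⟨i, hi⟩ := hgen _ (hpow y hy.1)
    have hi' : ¬ (p : ℤ) ∣ i := fun ⟨t, ht⟩ => hyH ⟨hy.1, (z : G) ^ t, Z.zpow_mem z.2 t, by
      rw [← zpow_natCast, ← zpow_mul, ← hi, ht, mul_comm]⟩
    have hgenD : D ≤ H ⊔ zpowers y := by
      intro d hd
      obtain ⟨j, hj⟩ := hgen _ (hpow d hd)
      obtain ⟨s, t, hst⟩ := (Nat.prime_iff_prime_int.1 hp.out).coprime_iff_not_dvd.2 hi'
      have hdy : d * (y ^ (t * j))⁻¹ ∈ H := by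
        have hyt : y ^ (t * j) ∈ D := D.zpow_mem hy.1 _
        have hinv : (y ^ (t * j))⁻¹ ∈ D := inv_mem hyt
        obtain ⟨w, hw, hwc⟩ := hΩ _ (pow_mem (hcom _ hinv d hd) (p.choose 2))
        refine ⟨mul_mem hd hinv, (z : G) ^ (s * j) * w, mul_mem (Z.zpow_mem z.2 _) hw, ?_⟩
        have hab : ⁅(y ^ (t * j))⁻¹, d⁆ ∈ Z := S.omega_le (hcom _ hinv d hd)
        rw [mul_pow_of_commute (mem_centralizer_iff.1 hd _ hab) (mem_centralizer_iff.1 hinv _ hab),
          (show Commute ((z : G) ^ (s * j)) w from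
            mem_centralizer_iff.1 (S.le_cent hw) _ (Z.zpow_mem z.2 _)).mul_pow, hwc, inv_pow]
        congr 1
        have e1 : ((z : G) ^ (s * j)) ^ p = (z : G) ^ (s * j * p) := by
          rw [zpow_mul _ (s * j), zpow_natCast]
        have e2 : (y ^ (t * j)) ^ p = (z : G) ^ (i * (t * j)) := by
          rw [zpow_mul (z : G) i, hi, ← zpow_natCast, ← zpow_mul, mul_comm (t * j), zpow_mul, zpow_natCast]
        rw [e1, e2, ← hj, ← zpow_neg, ← zpow_add]
        congr 1
        linear_combination j * hst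
      have := Subgroup.mul_mem_sup hdy (zpow_mem (mem_zpowers y) (t * j))
      rwa [inv_mul_cancel_right] at this
    have hyD : y ∈ centralizer (D : Set G) := by
      refine mem_centralizer_iff.2 fun d hd => ?_
      have : H ⊔ zpowers y ≤ centralizer {y} :=
        sup_le (fun h hh => mem_centralizer_singleton_iff.2 (mem_centralizer_iff.1 hy.2 h hh))
          (zpowers_le.2 (mem_centralizer_singleton_iff.2 rfl))
      exact mem_centralizer_singleton_iff.1 (this (hgenD hd))
    exact hyH (hZH (S.self_centralizing ⟨hy.1, hyD⟩))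
  have hCZ : C ≤ Z := fun y hy => S.max (H ⊓ centralizer (H : Set G))
    (S.char_inf_centralizer hHchar) (S.inf_centralizer_comm H)
    (le_inf hZH fun w hw => mem_centralizer_iff.2 fun h hh =>
      (mem_centralizer_iff.1 (hHD hh) w hw).symm) ⟨hCH hy, hy.2⟩
  have := hbound.trans (card_le_of_le hCZ)
  have h1 := hp.out.one_lt
  have h2 : 0 < Nat.card Z := Nat.card_pos
  nlinarith

/-- The extraspecial part. -/
theorem exists_extraspecial_part : haveI := S.comm;
    ∃ E : Subgroup G, omegaIn p Z ≤ E ∧ E ⊓ Z = omegaIn p Z ∧ centralizer (Z : Set G) = E ⊔ Z ∧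
      E.Normal ∧ (∀ e ∈ E, e ^ p ∈ omegaIn p Z) ∧
      (p ≠ 2 → omegaIn p Z ≠ Z → ∀ e ∈ E, e ^ p = 1) := by
  have := S.comm
  obtain ⟨hpow, hcom⟩ := S.cent_spec
  set D := centralizer (Z : Set G) with hD
  set Ω := omegaIn p Z with hΩ
  set good : G → Prop := fun e => e ^ p ∈ Ω ∧ (p ≠ 2 → Ω ≠ Z → e ^ p = 1) with hgood
  obtain ⟨E, hΩE, ⟨hED, hEZ, hEgood⟩, hmax⟩ := Finite.exists_le_maximal
    (p := fun E : Subgroup G => E ≤ D ∧ E ⊓ Z ≤ Ω ∧ ∀ e ∈ E, good e) (a := Ω)
    ⟨S.omega_le.trans S.le_cent, inf_le_left, fun e he =>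
      ⟨Ω.pow_mem he p, fun _ _ => (mem_omegaIn.1 he).2⟩⟩
  have hinf : E ⊓ Z = Ω := le_antisymm hEZ (le_inf hΩE S.omega_le)
  have hgen : D ≤ E ⊔ Z := by
    intro d hd
    by_contra hd'
    -- choose a good representative of the coset of `d`
    obtain ⟨x, hx, hxg, hxd⟩ : ∃ x ∈ D, good x ∧ d⁻¹ * x ∈ Z := by
      by_cases hbig : Ω = Z
      · refine ⟨d, hd, ⟨?_, fun _ h => absurd hbig h⟩, by simp⟩
        rw [hbig]; exact hpow d hd
      · obtain ⟨y, hy, hyp⟩ := S.exists_root hbig hd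
        exact ⟨d * y, mul_mem hd (S.le_cent hy), ⟨by rw [hyp]; exact one_mem _, fun _ _ => hyp⟩,
          by simpa using hy⟩
    have hxEZ : x ∉ E ⊔ Z := fun h => hd' (by
      have := mul_mem h (inv_mem (mem_sup_right (S := E) hxd))
      simpa [mul_assoc] using this)
    have hxE : zpowers x ≤ normalizer (E : Set G) := by
      refine zpowers_le.2 (Subgroup.mem_normalizer_iff.2 fun e => ⟨fun he => ?_, fun he => ?_⟩)
      · have := E.mul_mem (hΩE (hcom x hx e (hED he))) he
        simpa [commutatorElement_def] using this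
      · have heD : e ∈ D := by
          have := mul_mem (mul_mem (inv_mem hx) (hED he)) hx
          simpa [mul_assoc] using this
        have := E.mul_mem (E.inv_mem (hΩE (hcom x hx e heD))) he
        simpa [commutatorElement_def, mul_assoc] using this
    have hlt : E < E ⊔ zpowers x :=
      lt_of_le_of_ne le_sup_left fun e => hxEZ (mem_sup_left (e ▸ mem_sup_right (mem_zpowers x)))
    have hmem : ∀ w ∈ E ⊔ zpowers x, ∃ e ∈ E, ∃ i : ℤ, e * x ^ i = w := by
      intro w hw
      have hw' : w ∈ ((E ⊔ zpowers x : Subgroup G) : Set G) := hw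
      rw [Subgroup.coe_mul_of_right_le_normalizer_left E (zpowers x) hxE] at hw'
      obtain ⟨e, he, u, hu, rfl⟩ := Set.mem_mul.1 hw'
      obtain ⟨i, rfl⟩ := mem_zpowers_iff.1 hu
      exact ⟨e, he, i, rfl⟩
    refine hlt.not_ge (hmax ⟨sup_le hED (zpowers_le.2 hx), ?_, fun w hw => ?_⟩ le_sup_left)
    · rintro w ⟨hw, hwZ⟩
      obtain ⟨e, he, i, rfl⟩ := hmem w hw
      have hxi : x ^ i ∈ E ⊔ Z := by
        have := mul_mem (inv_mem (mem_sup_left (T := Z) he)) (mem_sup_right (S := E) hwZ)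
        rwa [inv_mul_cancel_left] at this
      have hdvd : (p : ℤ) ∣ i := by
        by_contra hdvd
        obtain ⟨s, t, hst⟩ := (Nat.prime_iff_prime_int.1 hp.out).coprime_iff_not_dvd.2 hdvd
        refine hxEZ ?_
        have : x = (x ^ p) ^ s * (x ^ i) ^ t := by
          rw [← zpow_natCast x p, ← zpow_mul, ← zpow_mul, ← zpow_add,
            show (p : ℤ) * s + i * t = 1 by rw [← hst]; ring, zpow_one]
        rw [this]
        exact mul_mem (zpow_mem (mem_sup_right (hpow x hx)) s) (zpow_mem hxi t)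
      obtain ⟨t, rfl⟩ := hdvd
      refine hEZ ⟨E.mul_mem he ?_, hwZ⟩
      rw [zpow_mul, zpow_natCast]
      exact E.zpow_mem (hΩE hxg.1) t
    · obtain ⟨e, he, i, rfl⟩ := hmem w hw
      have hxi : x ^ i ∈ D := D.zpow_mem hx i
      have hc : ⁅x ^ i, e⁆ ∈ Ω := hcom _ hxi e (hED he)
      have hexp : (e * x ^ i) ^ p = e ^ p * (x ^ p) ^ i * ⁅x ^ i, e⁆ ^ p.choose 2 := by
        rw [mul_pow_of_commute (mem_centralizer_iff.1 (hED he) _ (S.omega_le hc))
          (mem_centralizer_iff.1 hxi _ (S.omega_le hc))]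
        congr 2
        rw [← zpow_natCast (x ^ i), ← zpow_mul, mul_comm, zpow_mul, zpow_natCast]
      refine ⟨hexp ▸ mul_mem (mul_mem (hEgood e he).1 (zpow_mem hxg.1 i)) (pow_mem hc _),
        fun h2 hbig => ?_⟩
      rw [hexp, (hEgood e he).2 h2 hbig, hxg.2 h2 hbig, one_zpow, one_mul, one_mul]
      obtain ⟨m, hm⟩ := hp.out.dvd_choose_self (k := 2) (by norm_num)
        (lt_of_le_of_ne hp.out.two_le (Ne.symm h2))
      rw [hm, pow_mul, (mem_omegaIn.1 hc).2, one_pow]
  refine ⟨E, hΩE, hinf, le_antisymm hgen (sup_le hED S.le_cent), ⟨fun e he g => ?_⟩,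
    fun e he => (hEgood e he).1, fun h2 hb e he => (hEgood e he).2 h2 hb⟩
  have hc : ⁅g, e⁆ ∈ Z := S.commutator_mem (hED he) g
  have hce : Commute ⁅g, e⁆ e := mem_centralizer_iff.1 (hED he) _ hc
  have h1 : ⁅g, e⁆ * e = g * e * g⁻¹ := by rw [commutatorElement_def]; group
  have hcΩ : ⁅g, e⁆ ∈ Ω := by
    refine mem_omegaIn.2 ⟨hc, ?_⟩
    have h2 : (⁅g, e⁆ * e) ^ p = e ^ p := by
      rw [h1, conj_pow, S.omega_central _ (hEgood e he).1 g, mul_inv_cancel_right]
    rw [hce.mul_pow] at h2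
    exact mul_eq_right.1 h2
  rw [← h1]
  exact mul_mem (hΩE hcΩ) he

end SympSetup

end CfsgLib.Coprime.SymplecticTools
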