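import Cfsg.Prelude.Def_Transfer
import Cfsg.Agent.S3736
import Mathlib

/-!
Tools for the structure of p-groups with cyclic characteristic abelian subgroups.
-/

set_option autoImplicit false

namespace CfsgLib.Coprime.SymplecticTools

open Subgroup
open scoped commutatorElement

variable {G : Type*} [Group G]

theorem char_of_mem {H : Subgroup G} (h : ∀ φ : G ≃* G, ∀ x ∈ H, φ x ∈ H) : H.Characteristic :=
  Subgroup.characteristic_iff_map_le.2 fun φ => by
    rintro _ ⟨x, hx, rfl⟩
    exact h φ x hx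

theorem map_mem_char {H : Subgroup G} (hH : H.Characteristic) (φ : G ≃* G) {x : G} (hx : x ∈ H) :
    φ x ∈ H :=
  Subgroup.characteristic_iff_map_le.1 hH φ (Subgroup.mem_map_of_mem _ hx)

theorem map_mem_char_iff {H : Subgroup G} (hH : H.Characteristic) (φ : G ≃* G) {x : G} :
    φ x ∈ H ↔ x ∈ H :=
  ⟨fun h => by simpa using map_mem_char hH φ.symm h, map_mem_char hH φ⟩

/-- Powers of a product when the commutator commutes with both factors. -/
theorem mul_pow_of_commute {x y : G} (hx : Commute ⁅y, x⁆ x) (hy : Commute ⁅y, x⁆ y) (n : ℕ) :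
    (x * y) ^ n = x ^ n * y ^ n * ⁅y, x⁆ ^ (n.choose 2) := by
  set C := Subgroup.closure ({x, y} : Set G)
  have hxC : x ∈ C := Subgroup.subset_closure (Or.inl rfl)
  have hyC : y ∈ C := Subgroup.subset_closure (Or.inr rfl)
  have hle : C ≤ centralizer {⁅y, x⁆} := (Subgroup.closure_le _).2 (by
    rintro u (rfl | rfl)
    · exact mem_centralizer_singleton_iff.2 hx.symm.eq
    · exact mem_centralizer_singleton_iff.2 hy.symm.eq)
  have h := Cfsg.Agent.S3736.mul_pow_central (G := ↥C) (x := ⟨x, hxC⟩) (y := ⟨y, hyC⟩)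
    (fun g => Subtype.ext (mem_centralizer_singleton_iff.1 (hle g.2)).symm) n
  simpa [commutatorElement_def] using congrArg Subtype.val h

/-- Commutators with a fixed element bound the index of its centraliser. -/
theorem card_le_mul_inf [Finite G] {A Ω : Subgroup G} {g : G} (h : ∀ a ∈ A, ⁅a, g⁆ ∈ Ω) :
    Nat.card A ≤ Nat.card Ω * Nat.card ↥(A ⊓ centralizer {g}) := by
  classical
  rw [← Nat.card_prod]
  let f : A → Ω := fun a => ⟨⁅(a : G), g⁆, h a a.2⟩
  let F : A → Ω × ↥(A ⊓ centralizer {g}) := fun a =>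
    (f a, ⟨((Function.invFun f (f a) : A) : G)⁻¹ * a, by
      refine ⟨A.mul_mem (A.inv_mem (Function.invFun f (f a)).2) a.2,
        mem_centralizer_singleton_iff.2 ?_⟩
      have he : ⁅((Function.invFun f (f a) : A) : G), g⁆ = ⁅(a : G), g⁆ :=
        congrArg Subtype.val (Function.invFun_eq (f := f) ⟨a, rfl⟩)
      simp only [commutatorElement_def, mul_left_inj] at he
      set r := ((Function.invFun f (f a) : A) : G)
      calc r⁻¹ * a * g = r⁻¹ * ((a : G) * g * (a : G)⁻¹) * a := by group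
        _ = r⁻¹ * (r * g * r⁻¹) * a := by rw [he]
        _ = g * (r⁻¹ * a) := by group⟩)
  refine Nat.card_le_card_of_injective F fun a b hab => ?_
  have h1 : f a = f b := congrArg Prod.fst hab
  have h2 : ((Function.invFun f (f a) : A) : G)⁻¹ * a = ((Function.invFun f (f b) : A) : G)⁻¹ * b :=
    congrArg (fun t : Ω × ↥(A ⊓ centralizer {g}) => (t.2 : G)) hab
  rw [h1] at h2
  exact Subtype.ext (mul_left_cancel h2)

theorem mul_card_le [Finite G] {p : ℕ} [Fact p.Prime] (hG : IsPGroup p G) {A B : Subgroup G}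
    (hAB : A < B) : p * Nat.card A ≤ Nat.card B := by
  obtain ⟨i, hi⟩ := (hG.to_subgroup A).exists_card_eq
  obtain ⟨j, hj⟩ := (hG.to_subgroup B).exists_card_eq
  have hlt : Nat.card A < Nat.card B := lt_of_le_of_ne (card_le_of_le hAB.le)
    fun e => hAB.ne (eq_of_le_of_card_ge hAB.le e.ge)
  rw [hi, hj] at hlt ⊢
  have hp := (Fact.out : p.Prime).one_lt
  rw [← pow_succ']
  exact Nat.pow_le_pow_right (by omega) (Nat.succ_le_of_lt ((Nat.pow_lt_pow_iff_right hp).1 hlt))

/-- The duality bound for a commutator pairing into a subgroup of order at most `p`. -/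
theorem chain_bound [Finite G] {p : ℕ} [Fact p.Prime] (hG : IsPGroup p G) {A W Ω : Subgroup G}
    (hΩ : Nat.card Ω ≤ p) (h : ∀ a ∈ A, ∀ w ∈ W, ⁅a, w⁆ ∈ Ω) :
    ∀ T : Subgroup G, T ≤ W → Nat.card ↥(A ⊓ centralizer (T : Set G)) * Nat.card T ≤
      Nat.card ↥(A ⊓ centralizer (W : Set G)) * Nat.card W := by
  intro T
  induction T using WellFoundedGT.induction with
  | ind T ih =>
    intro hTW
    by_cases hT : T = W
    · subst hT; exact le_rfl
    obtain ⟨g, hgW, hg⟩ := SetLike.exists_of_lt (lt_of_le_of_ne hTW hT)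
    have hlt : T < T ⊔ zpowers g :=
      lt_of_le_of_ne le_sup_left fun e => hg (e ▸ mem_sup_right (mem_zpowers g))
    refine le_trans ?_ (ih _ hlt (sup_le hTW (zpowers_le.2 hgW)))
    have h1 := card_le_mul_inf (A := A ⊓ centralizer (T : Set G)) (g := g)
      fun a ha => h a ha.1 g hgW
    have h2 : A ⊓ centralizer (T : Set G) ⊓ centralizer {g} ≤
        A ⊓ centralizer ((T ⊔ zpowers g : Subgroup G) : Set G) := by
      intro w hw
      refine ⟨hw.1.1, ?_⟩
      have hwT : T ⊔ zpowers g ≤ centralizer {w} := by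
        refine sup_le (fun t ht => mem_centralizer_singleton_iff.2
          (mem_centralizer_iff.1 hw.1.2 t ht)) (zpowers_le.2 ?_)
        exact mem_centralizer_singleton_iff.2 (mem_centralizer_singleton_iff.1 hw.2).symm
      exact mem_centralizer_iff.2 fun t ht => mem_centralizer_singleton_iff.1 (hwT ht)
    calc Nat.card ↥(A ⊓ centralizer (T : Set G)) * Nat.card T
        ≤ p * Nat.card ↥(A ⊓ centralizer (T : Set G) ⊓ centralizer {g}) * Nat.card T :=
          Nat.mul_le_mul_right _ (h1.trans (Nat.mul_le_mul_right _ hΩ))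
      _ ≤ p * Nat.card ↥(A ⊓ centralizer ((T ⊔ zpowers g : Subgroup G) : Set G)) * Nat.card T :=
          Nat.mul_le_mul_right _ (Nat.mul_le_mul_left _ (card_le_of_le h2))
      _ = Nat.card ↥(A ⊓ centralizer ((T ⊔ zpowers g : Subgroup G) : Set G)) * (p * Nat.card T) := by
          ring
      _ ≤ _ := Nat.mul_le_mul_left _ (mul_card_le hG hlt)

/-- Between two normal subgroups of a p-group there is an element central of order `p` modulo
the smaller one. -/
theorem exists_step [Finite G] {p : ℕ} [Fact p.Prime] (hG : IsPGroup p G) {Z L : Subgroup G}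
    [Z.Normal] [L.Normal] (hZL : Z < L) :
    ∃ x ∈ L, x ∉ Z ∧ x ^ p ∈ Z ∧ ∀ g : G, ⁅g, x⁆ ∈ Z := by
  obtain ⟨M, hML, ⟨⟨hMn, hZM⟩, hMmin⟩⟩ := Finite.exists_le_minimal
    (p := fun M : Subgroup G => M.Normal ∧ Z < M) (a := L) ⟨inferInstance, hZL⟩
  have hc : ⁅M, (⊤ : Subgroup G)⁆ ≤ Z := by
    by_contra hne
    have hle : M ≤ Z ⊔ ⁅M, (⊤ : Subgroup G)⁆ :=
      hMmin ⟨inferInstance, lt_of_le_of_ne le_sup_left fun e => hne (e ▸ le_sup_right)⟩
        (sup_le hZM.le (Subgroup.commutator_le_left _ _))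
    obtain ⟨c, hc⟩ := Subgroup.nilpotent_iff_lowerCentralSeries.1 hG.isNilpotent
    have hstep : ∀ j, M ≤ Z ⊔ (⊤ : Subgroup G).lowerCentralSeries j := by
      intro j
      induction j with
      | zero => simp
      | succ j ih =>
        refine hle.trans (sup_le le_sup_left ?_)
        have key : ∀ S T : Subgroup G, S.map (QuotientGroup.mk' Z) ≤ T.map (QuotientGroup.mk' Z) →
            S ≤ Z ⊔ T := by
          intro S T hST
          rw [Subgroup.map_le_map_iff, QuotientGroup.ker_mk'] at hST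
          exact hST.trans (le_of_eq (sup_comm _ _))
        refine (Subgroup.commutator_mono ih le_rfl).trans (key _ _ ?_)
        rw [Subgroup.map_commutator, Subgroup.map_sup, Subgroup.lowerCentralSeries_succ,
          Subgroup.map_commutator,
          (Subgroup.map_eq_bot_iff Z).2 (le_of_eq (QuotientGroup.ker_mk' Z).symm), bot_sup_eq]
    have := hstep c
    rw [hc, sup_bot_eq] at this
    exact hZM.not_ge this
  obtain ⟨x, hxM, hxZ⟩ := SetLike.exists_of_lt hZM
  have hex : ∃ k, x ^ p ^ k ∈ Z := by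
    obtain ⟨k, hk⟩ := hG x
    exact ⟨k, hk ▸ Z.one_mem⟩
  classical
  have hspec := Nat.find_spec hex
  obtain ⟨k, hk⟩ : ∃ k, Nat.find hex = k + 1 := by
    refine Nat.exists_eq_add_one.2 (Nat.pos_of_ne_zero fun h0 => ?_)
    rw [h0, pow_zero, pow_one] at hspec
    exact hxZ hspec
  refine ⟨x ^ p ^ k, hML (M.pow_mem hxM _), Nat.find_min hex (by omega), ?_, fun g => ?_⟩
  · rw [← pow_mul, ← pow_succ, ← hk]; exact hspec
  · have := hc (Subgroup.commutator_mem_commutator (M.pow_mem hxM (p ^ k)) (Subgroup.mem_top g))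
    rw [← commutatorElement_inv]
    exact Z.inv_mem this

/-- A normal subgroup with elementary abelian quotient contains the Frattini subgroup. -/
theorem frattini_le [Finite G] {p : ℕ} [hp : Fact p.Prime] (N : Subgroup G) [N.Normal]
    (hpow : ∀ x : G, x ^ p ∈ N) (hcomm : ∀ x y : G, ⁅x, y⁆ ∈ N) : frattini G ≤ N := by
  intro u hu
  by_contra huN
  obtain ⟨H, hNH, huH, hmax⟩ := Finite.exists_le_maximal
    (p := fun H : Subgroup G => u ∉ H) (a := N) huN
  refine huH (frattini_le_coatom (K := H) ⟨fun h => huH (h ▸ Subgroup.mem_top u), fun K hK => ?_⟩ hu)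
  rw [eq_top_iff]
  intro x _
  have huK : u ∈ K := by
    by_contra h
    exact hK.not_ge (hmax h hK.le)
  by_contra hx
  have hux : u ∈ H ⊔ zpowers x := by
    by_contra h
    exact hx (hK.le (hmax h le_sup_left (mem_sup_right (mem_zpowers x))))
  have hHn : H.Normal := ⟨fun a ha g => by
    have := H.mul_mem (hNH (hcomm g a)) ha
    rwa [commutatorElement_def, inv_mul_cancel_right] at this⟩
  obtain ⟨a, ha, b, hb, hab⟩ := Subgroup.mem_sup_of_normal_left.1 hux
  obtain ⟨i, rfl⟩ := mem_zpowers_iff.1 hb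
  by_cases hdvd : (p : ℤ) ∣ i
  · obtain ⟨t, rfl⟩ := hdvd
    refine huH (hab ▸ H.mul_mem ha (hNH ?_))
    rw [zpow_mul, zpow_natCast]
    exact N.zpow_mem (hpow x) t
  · obtain ⟨s, t, hst⟩ := (Nat.prime_iff_prime_int.1 hp.out).coprime_iff_not_dvd.2 hdvd
    refine hx ?_
    have hxi : x ^ i ∈ K := by
      have := K.mul_mem (K.inv_mem (hK.le ha)) huK
      rwa [← hab, inv_mul_cancel_left] at this
    have : x = (x ^ p) ^ s * (x ^ i) ^ t := by
      rw [← zpow_natCast x p, ← zpow_mul, ← zpow_mul, ← zpow_add,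
        show (p : ℤ) * s + i * t = 1 by rw [← hst]; ring, zpow_one]
    rw [this]
    exact K.mul_mem (K.zpow_mem (hK.le (hNH (hpow x))) s) (K.zpow_mem hxi t)

end CfsgLib.Coprime.SymplecticTools
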